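import Mathlib
import Cfsg.Prelude.Def_Transfer

/-!
The three coordinate models for the action of `M/Q`, `Q = 2^{1+8}`, inside `S₃ × S₆ (× 2)` on `Q/⟨z⟩`.
Vectors are natural numbers below 256 (bit masks), linear maps are lists of the 8 images.

* `Kind.tensor`: natural `⊗` natural, `2 ⊗ 4`; bits `0..3` the `e`-part, `4..7` the `f`-part; the
  4-space is the even subsets of six points modulo everything, with basis `{i, i+1}`, `i < 4`.
* `Kind.sum k`: `6 ⊕ 2`; bits `0..5` the permutation module of six points with form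
  `C(w,2) + k w`, bits `6, 7` the anisotropic plane.  `eps` is the translation `eᵢ ↦ eᵢ + (all)`.
-/

set_option autoImplicit false

namespace Cfsg.Agent.ExtraTwoNine

/-- The kind of module. -/
inductive Kind
  | tensor
  | sum (k : Bool)
  deriving DecidableEq

/-- Parity of the low 8 bits. -/
def par (v : ℕ) : Bool :=
  (v.testBit 0) ^^ (v.testBit 1) ^^ (v.testBit 2) ^^ (v.testBit 3) ^^
  (v.testBit 4) ^^ (v.testBit 5) ^^ (v.testBit 6) ^^ (v.testBit 7)

/-- Number of the low 6 bits that are set. -/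
def weight6 (v : ℕ) : ℕ := ((List.range 6).filter fun i => v.testBit i).length

/-- The alternating form of the 4-space in the basis `{i, i+1}`. -/
def b4 (a b : ℕ) : Bool := par (a &&& (((b <<< 1) ^^^ (b >>> 1)) &&& 15))

/-- The quadratic form. -/
def qv : Kind → ℕ → Bool
  | Kind.tensor, v => b4 (v &&& 15) (v >>> 4)
  | Kind.sum k, v =>
    ((weight6 v * (weight6 v - 1) / 2) % 2 == 1) ^^ (k && (weight6 v % 2 == 1)) ^^ !(v >>> 6 == 0)

/-- Evaluation of the linear map with the given images of the basis vectors. -/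
def ap (L : List ℕ) (v : ℕ) : ℕ :=
  (List.range L.length).foldl (fun s i => if v.testBit i then s ^^^ L.getD i 0 else s) 0

/-- Coordinates of an even subset of six points (a 6-bit mask) in the 4-space. -/
def coord4 (s : ℕ) : ℕ :=
  let t := if s.testBit 5 then s ^^^ 63 else s
  (if t.testBit 0 then 1 else 0) + (if (t.testBit 0 ^^ t.testBit 1) then 2 else 0) +
    (if (t.testBit 0 ^^ t.testBit 1 ^^ t.testBit 2) then 4 else 0) +
    (if (t.testBit 0 ^^ t.testBit 1 ^^ t.testBit 2 ^^ t.testBit 3) then 8 else 0)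

/-- The image of the `i`-th basis vector of the 4-space. -/
def img4 (b : Equiv.Perm (Fin 6)) (i : Fin 5) : ℕ :=
  coord4 (2 ^ (b i.castSucc).val ^^^ 2 ^ (b i.succ).val)

/-- The images of the two basis vectors of the plane (vectors `1, 2, 3` are the points `0, 1, 2`). -/
def img2 (a : Equiv.Perm (Fin 3)) : ℕ × ℕ := ((a 0).val + 1, (a 1).val + 1)

/-- `2`-bit vector times 4-bit vector. -/
def tens (p w : ℕ) : ℕ := (if p.testBit 0 then w else 0) ^^^ (if p.testBit 1 then w <<< 4 else 0)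

/-- The images of the eight basis vectors. -/
def img : Kind → Equiv.Perm (Fin 3) → Equiv.Perm (Fin 6) → Bool → List ℕ
  | Kind.tensor, a, b, _ =>
    [tens (img2 a).1 (img4 b 0), tens (img2 a).1 (img4 b 1), tens (img2 a).1 (img4 b 2),
      tens (img2 a).1 (img4 b 3), tens (img2 a).2 (img4 b 0), tens (img2 a).2 (img4 b 1),
      tens (img2 a).2 (img4 b 2), tens (img2 a).2 (img4 b 3)]
  | Kind.sum _, a, b, e =>
    (List.ofFn fun i : Fin 6 => 2 ^ (b i).val ^^^ (if e then 63 else 0)) ++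
      [(img2 a).1 <<< 6, (img2 a).2 <<< 6]

/-- The hypotheses common to the two statements: `ψ` is `M → M/Q ≤ S₃ × S₆`. -/
structure Hyp {G : Type*} [Group G] (z : G) where
  ord : orderOf z = 2
  Q : Subgroup G
  le_cent : Q ≤ Subgroup.centralizer ({z} : Set G)
  ext : Cfsg.IsExtraspecial 2 ↥Q
  card : Nat.card ↥Q = 2 ^ 9
  self_cent : ∀ m : G, m ∈ Subgroup.centralizer ({z} : Set G) → (∀ x ∈ Q, m * x = x * m) → m ∈ Q
  ψ : ↥(Subgroup.centralizer ({z} : Set G)) →* Equiv.Perm (Fin 3) × Equiv.Perm (Fin 6)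
  ker_iff : ∀ m, ψ m = 1 ↔ (m : G) ∈ Q
  big : ∀ a b, Equiv.Perm.sign a = 1 → Equiv.Perm.sign b = 1 → ∃ m, ψ m = (a, b)
  outer : ∃ m, Equiv.Perm.sign (ψ m).1 = -1

/-- Coordinates: an identification of `Q/⟨z⟩` with one of the models, equivariant for `M`. -/
structure Coord {G : Type*} [Group G] (z : G) extends Hyp z where
  kind : Kind
  eps : ↥(Subgroup.centralizer ({z} : Set G)) → Bool
  π : G → ℕ
  π_lt : ∀ x ∈ Q, π x < 256
  π_mul : ∀ x ∈ Q, ∀ y ∈ Q, π (x * y) = π x ^^^ π y
  π_zero : ∀ x ∈ Q, π x = 0 ↔ x = 1 ∨ x = z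
  π_surj : ∀ v, v < 256 → ∃ x ∈ Q, π x = v
  π_sq : ∀ x ∈ Q, x * x = z ↔ qv kind (π x) = true
  π_conj : ∀ (m : ↥(Subgroup.centralizer ({z} : Set G))), ∀ x ∈ Q,
    π ((m : G) * x * (m : G)⁻¹) = ap (img kind (ψ m).1 (ψ m).2 (eps m)) (π x)

end Cfsg.Agent.ExtraTwoNine
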