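import Mathlib
import Cfsg.Agent.Lib.ExtraTwoNine.Model

/-!
Calculus in the coordinates: squares, commutators, lifts, linearity, orders of subgroups of `Q`.
-/

set_option autoImplicit false
set_option linter.unusedSectionVars false

namespace Cfsg.Agent.ExtraTwoNine

open Subgroup

/-- The polar form. -/
def bq (k : Kind) (v w : ℕ) : Bool := qv k (v ^^^ w) ^^ qv k v ^^ qv k w

theorem foldl_xor (L : List ℕ) (v : ℕ) : ∀ (l : List ℕ) (s : ℕ),
    l.foldl (fun s i => if v.testBit i then s ^^^ L.getD i 0 else s) s =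
      s ^^^ l.foldl (fun s i => if v.testBit i then s ^^^ L.getD i 0 else s) 0
  | [], s => by simp
  | i :: l, s => by
    simp only [List.foldl_cons]
    rw [foldl_xor L v l (if v.testBit i then s ^^^ L.getD i 0 else s),
      foldl_xor L v l (if v.testBit i then 0 ^^^ L.getD i 0 else 0)]
    split_ifs <;> simp [Nat.xor_assoc]

theorem foldl_add (L : List ℕ) (v w : ℕ) : ∀ (l : List ℕ),
    l.foldl (fun s i => if (v ^^^ w).testBit i then s ^^^ L.getD i 0 else s) 0 =
      l.foldl (fun s i => if v.testBit i then s ^^^ L.getD i 0 else s) 0 ^^^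
      l.foldl (fun s i => if w.testBit i then s ^^^ L.getD i 0 else s) 0
  | [] => by simp
  | i :: l => by
    simp only [List.foldl_cons, Nat.zero_xor]
    rw [foldl_xor L (v ^^^ w), foldl_xor L v l (if v.testBit i then _ else _),
      foldl_xor L w l (if w.testBit i then _ else _), foldl_add L v w l, Nat.testBit_xor]
    rcases Bool.eq_false_or_eq_true (v.testBit i) with hv | hv <;>
      rcases Bool.eq_false_or_eq_true (w.testBit i) with hw | hw <;>
      simp [hv, hw, Nat.xor_assoc, Nat.xor_comm, Nat.xor_left_comm]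

theorem ap_xor (L : List ℕ) (v w : ℕ) : ap L (v ^^^ w) = ap L v ^^^ ap L w := foldl_add L v w _

/-- The centraliser of `z`. -/
abbrev Mz {G : Type*} [Group G] (z : G) : Subgroup G := Subgroup.centralizer ({z} : Set G)

namespace Coord

variable {G : Type*} [Group G] [Finite G] {z : G} (C : Coord z)

theorem mem_cent {g : G} : g ∈ Mz z ↔ g * z = z * g := mem_centralizer_singleton_iff

include C

theorem cent_z {x : G} (hx : x ∈ C.Q) : x * z = z * x := mem_cent.1 (C.le_cent hx)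

theorem zz : z * z = 1 := by
  have h := pow_orderOf_eq_one z
  rwa [C.ord, pow_two] at h

theorem z_ne : z ≠ 1 := fun e => by
  have h := C.ord
  rw [e, orderOf_one] at h
  exact absurd h (by decide)

theorem z_inv : z⁻¹ = z := inv_eq_of_mul_eq_one_right C.zz

theorem z_mem : z ∈ C.Q := C.self_cent z (mem_cent.2 rfl) fun _ hx => (C.cent_z hx).symm

theorem pi_one : C.π 1 = 0 := (C.π_zero 1 (one_mem _)).2 (Or.inl rfl)

theorem pi_z : C.π z = 0 := (C.π_zero z C.z_mem).2 (Or.inr rfl)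

theorem pi_inv {x : G} (hx : x ∈ C.Q) : C.π x⁻¹ = C.π x := by
  have h := C.π_mul x hx x⁻¹ (inv_mem hx)
  rw [mul_inv_cancel, C.pi_one] at h
  exact (Nat.xor_eq_zero_iff.1 h.symm).symm

theorem pi_mul_z {x : G} (hx : x ∈ C.Q) : C.π (x * z) = C.π x := by
  rw [C.π_mul x hx z C.z_mem, C.pi_z, Nat.xor_zero]

theorem pi_eq {x y : G} (hx : x ∈ C.Q) (hy : y ∈ C.Q) (h : C.π x = C.π y) : y = x ∨ y = x * z := by
  have h0 : C.π (x⁻¹ * y) = 0 := by
    rw [C.π_mul _ (inv_mem hx) _ hy, C.pi_inv hx, h, Nat.xor_self]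
  rcases (C.π_zero _ (mul_mem (inv_mem hx) hy)).1 h0 with e | e
  · exact Or.inl (inv_mul_eq_one.1 e).symm
  · exact Or.inr (inv_mul_eq_iff_eq_mul.1 e)

theorem sq_cases {x : G} (hx : x ∈ C.Q) : x * x = 1 ∨ x * x = z :=
  (C.π_zero _ (mul_mem hx hx)).1 (by rw [C.π_mul x hx x hx, Nat.xor_self])

theorem sq_one {x : G} (hx : x ∈ C.Q) : x * x = 1 ↔ qv C.kind (C.π x) = false := by
  constructor
  · intro h
    by_contra hq
    exact C.z_ne (((C.π_sq x hx).2 (by simpa using hq)).symm.trans h)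
  · intro hq
    rcases C.sq_cases hx with e | e
    · exact e
    · rw [(C.π_sq x hx).1 e] at hq; simp at hq

theorem qv_zero : qv C.kind 0 = false := by rw [← C.pi_one, ← C.sq_one (one_mem _), one_mul]

theorem comm_cases {x y : G} (hx : x ∈ C.Q) (hy : y ∈ C.Q) :
    x * y * x⁻¹ * y⁻¹ = 1 ∨ x * y * x⁻¹ * y⁻¹ = z := by
  refine (C.π_zero _ (mul_mem (mul_mem (mul_mem hx hy) (inv_mem hx)) (inv_mem hy))).1 ?_
  rw [C.π_mul _ (mul_mem (mul_mem hx hy) (inv_mem hx)) _ (inv_mem hy),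
    C.π_mul _ (mul_mem hx hy) _ (inv_mem hx), C.π_mul x hx y hy, C.pi_inv hx, C.pi_inv hy]
  rw [Nat.xor_comm (C.π x) (C.π y), Nat.xor_assoc (C.π y) (C.π x) (C.π x), Nat.xor_self,
    Nat.xor_zero, Nat.xor_self]

theorem comm_iff {x y : G} (hx : x ∈ C.Q) (hy : y ∈ C.Q) :
    x * y = y * x ↔ bq C.kind (C.π x) (C.π y) = false := by
  have hxy : x * y ∈ C.Q := mul_mem hx hy
  have hq : ∀ {w : G}, w ∈ C.Q → ∀ {b : Bool}, qv C.kind (C.π w) = b → w * w = if b then z else 1 := by
    intro w hw b hb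
    cases b
    · simpa using (C.sq_one hw).2 hb
    · simpa using (C.π_sq w hw).2 hb
  have h1 := hq hx rfl
  have h2 := hq hy rfl
  have h3 := hq hxy rfl
  rw [C.π_mul x hx y hy] at h3
  set c := x⁻¹ * y⁻¹ * x * y with hc
  have hcz : c = 1 ∨ c = z := by
    rcases C.comm_cases (inv_mem hx) (inv_mem hy) with e | e <;> [left; right] <;>
      (rw [inv_inv, inv_inv] at e; exact e)
  have hcomm : x * y = y * x ↔ c = 1 := by
    rw [hc]
    constructor
    · intro e; rw [mul_assoc (x⁻¹ * y⁻¹), e]; group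
    · intro e
      calc x * y = y * x * (x⁻¹ * y⁻¹ * x * y) := by group
        _ = y * x := by rw [e, mul_one]
  have hz1 : ∀ w ∈ C.Q, w * z = z * w := fun w hw => C.cent_z hw
  have key : (x * y) * (x * y) = (x * x) * (y * y) * c := by
    have hyx : y * x = x * y * c⁻¹ := by rw [hc]; group
    have hci : c⁻¹ = c := by rcases hcz with e | e <;> simp [e, C.z_inv]
    have hcy : c * y = y * c := by
      rcases hcz with e | e
      · simp [e]
      · rw [e]; exact (hz1 y hy).symm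
    calc (x * y) * (x * y) = x * (y * x) * y := by group
      _ = x * (x * y * c) * y := by rw [hyx, hci]
      _ = (x * x) * y * (c * y) := by group
      _ = (x * x) * (y * y) * c := by rw [hcy]; group
  rw [hcomm]
  rw [h3, h1, h2] at key
  unfold bq
  revert key
  generalize qv C.kind (C.π x) = a
  generalize qv C.kind (C.π y) = b
  generalize qv C.kind (C.π x ^^^ C.π y) = d
  intro key
  rcases hcz with e | e <;> rw [e] at key ⊢ <;> cases a <;> cases b <;> cases d <;>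
    simp [C.zz, C.z_ne, C.z_ne.symm] at key ⊢

/-- The linear map of an element of `M`. -/
def act (m : ↥(Mz z)) : List ℕ := img C.kind (C.ψ m).1 (C.ψ m).2 (C.eps m)

theorem pi_conj' {m : G} (hm : m ∈ Mz z) {x : G} (hx : x ∈ C.Q) :
    C.π (m * x * m⁻¹) = ap (C.act ⟨m, hm⟩) (C.π x) :=
  C.π_conj ⟨m, hm⟩ x hx

theorem conj_mem {m x : G} (hm : m ∈ Mz z) (hx : x ∈ C.Q) : m * x * m⁻¹ ∈ C.Q := by
  refine (C.ker_iff ⟨m * x * m⁻¹, mul_mem (mul_mem hm (C.le_cent hx)) (inv_mem hm)⟩).1 ?_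
  have h1 : C.ψ ⟨x, C.le_cent hx⟩ = 1 := (C.ker_iff _).2 hx
  have : (⟨m * x * m⁻¹, mul_mem (mul_mem hm (C.le_cent hx)) (inv_mem hm)⟩ : ↥(Mz z)) =
      ⟨m, hm⟩ * ⟨x, C.le_cent hx⟩ * ⟨m, hm⟩⁻¹ := rfl
  rw [this, map_mul, map_mul, h1, mul_one, map_inv, mul_inv_cancel]

theorem conj_mem_iff {m x : G} (hm : m ∈ Mz z) : m * x * m⁻¹ ∈ C.Q ↔ x ∈ C.Q := by
  refine ⟨fun h => ?_, C.conj_mem hm⟩
  have := C.conj_mem (inv_mem hm) h
  simpa [mul_assoc] using this

/-- The images of a subgroup of `Q`. -/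
def im (H : Subgroup G) : Set ℕ := C.π '' (H : Set G)

theorem im_lt {H : Subgroup G} (hH : H ≤ C.Q) {v : ℕ} (hv : v ∈ C.im H) : v < 256 := by
  obtain ⟨x, hx, rfl⟩ := hv; exact C.π_lt x (hH hx)

theorem im_zero (H : Subgroup G) : 0 ∈ C.im H := ⟨1, one_mem _, C.pi_one⟩

theorem im_xor {H : Subgroup G} (hH : H ≤ C.Q) {v w : ℕ} (hv : v ∈ C.im H) (hw : w ∈ C.im H) :
    v ^^^ w ∈ C.im H := by
  obtain ⟨x, hx, rfl⟩ := hv
  obtain ⟨y, hy, rfl⟩ := hw
  exact ⟨x * y, mul_mem hx hy, C.π_mul x (hH hx) y (hH hy)⟩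

theorem im_finite (H : Subgroup G) : (C.im H).Finite := (Set.toFinite _).image _

theorem card_of_notMem {H : Subgroup G} (hH : H ≤ C.Q) (hz : z ∉ H) :
    Nat.card ↥H = (C.im H).ncard := by
  have hinj : Set.InjOn C.π (H : Set G) := by
    intro x hx y hy he
    rcases C.pi_eq (hH hx) (hH hy) he with e | e
    · exact e.symm
    · exact absurd (by simpa [e] using mul_mem (inv_mem hx) hy) hz
  rw [im, hinj.ncard_image]
  exact Nat.card_coe_set_eq _

theorem card_of_mem {H : Subgroup G} (hH : H ≤ C.Q) (hz : z ∈ H) :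
    Nat.card ↥H = 2 * (C.im H).ncard := by
  have hs : ∀ v : ↥(C.im H), ∃ x : ↥H, C.π x = v := fun v => by
    obtain ⟨x, hx, e⟩ := v.2; exact ⟨⟨x, hx⟩, e⟩
  choose s hs using hs
  let f : Bool × ↥(C.im H) → ↥H := fun p => if p.1 then s p.2 * ⟨z, hz⟩ else s p.2
  have hf : Function.Bijective f := by
    constructor
    · rintro ⟨b, v⟩ ⟨b', v'⟩ he
      have hpi := congrArg (fun x : ↥H => C.π x) he
      have hv : v = v' := by
        refine Subtype.ext ?_
        simp only [f] at hpi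
        cases b <;> cases b' <;>
          simpa [hs, C.pi_mul_z, hH (s v).2, hH (s v').2] using hpi
      subst hv
      simp only [f] at he
      cases b <;> cases b' <;> first | rfl | (exfalso; simp [Subtype.ext_iff, C.z_ne] at he)
    · intro x
      rcases C.pi_eq (hH (s ⟨_, x, x.2, rfl⟩).2) (hH x.2) (hs _) with e | e
      · exact ⟨⟨false, ⟨_, x, x.2, rfl⟩⟩, Subtype.ext (by simpa [f] using e.symm)⟩
      · exact ⟨⟨true, ⟨_, x, x.2, rfl⟩⟩, Subtype.ext (by simpa [f] using e.symm)⟩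
  rw [← Nat.card_eq_of_bijective f hf, Nat.card_prod, Nat.card_eq_fintype_card, Fintype.card_bool,
    Nat.card_coe_set_eq]

end Coord

end Cfsg.Agent.ExtraTwoNine
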