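import Mathlib
import Cfsg.Agent.Lib.ExtraTwoNine.Basic

/-!
Additive functions on bit masks: they are parities, and linear maps commute with taking combinations.
-/

set_option autoImplicit false

namespace Cfsg.Agent.ExtraTwoNine

theorem xor_lt {n a b : ℕ} (ha : a < 2 ^ n) (hb : b < 2 ^ n) : a ^^^ b < 2 ^ n :=
  Nat.xor_lt_two_pow ha hb

theorem xor_two_pow_lt {k s : ℕ} (hs : s < 2 ^ (k + 1)) (h : 2 ^ k ≤ s) : s ^^^ 2 ^ k < 2 ^ k := by
  apply Nat.lt_pow_two_of_testBit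
  intro i hi
  rw [Nat.testBit_xor, Nat.testBit_two_pow]
  rcases Nat.lt_or_eq_of_le hi with h' | rfl
  · have : s < 2 ^ i := lt_of_lt_of_le hs (Nat.pow_le_pow_right (by norm_num) h')
    simp [Nat.testBit_lt_two_pow this, h'.ne]
  · have : s.testBit k = true := Nat.testBit_of_two_pow_le_and_two_pow_add_one_gt h hs
    simp [this]

/-- Two additive functions agreeing on the powers of two agree below `2 ^ k`. -/
theorem addFn_ext (f g : ℕ → Bool) : ∀ k,
    (∀ a b, a < 2 ^ k → b < 2 ^ k → f (a ^^^ b) = (f a ^^ f b)) →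
    (∀ a b, a < 2 ^ k → b < 2 ^ k → g (a ^^^ b) = (g a ^^ g b)) →
    (∀ i < k, f (2 ^ i) = g (2 ^ i)) → ∀ s < 2 ^ k, f s = g s
  | 0, hf, hg, _, s, hs => by
    obtain rfl : s = 0 := by simpa using hs
    have h1 := hf 0 0 hs hs
    have h2 := hg 0 0 hs hs
    simp at h1 h2
    rw [h1, h2]
  | k + 1, hf, hg, h, s, hs => by
    have hle : 2 ^ k ≤ 2 ^ (k + 1) := Nat.pow_le_pow_right (by norm_num) (by omega)
    have ih := addFn_ext f g k (fun a b ha hb => hf a b (lt_of_lt_of_le ha hle) (lt_of_lt_of_le hb hle))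
      (fun a b ha hb => hg a b (lt_of_lt_of_le ha hle) (lt_of_lt_of_le hb hle))
      (fun i hi => h i (by omega))
    by_cases hlt : s < 2 ^ k
    · exact ih s hlt
    · have h' := xor_two_pow_lt hs (not_lt.1 hlt)
      have e : s = (s ^^^ 2 ^ k) ^^^ 2 ^ k := by rw [Nat.xor_assoc, Nat.xor_self, Nat.xor_zero]
      have hp : 2 ^ k < 2 ^ (k + 1) := Nat.pow_lt_pow_right (by norm_num) (by omega)
      rw [e, hf _ _ (lt_of_lt_of_le h' hle) hp, hg _ _ (lt_of_lt_of_le h' hle) hp, ih _ h',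
        h k (by omega)]

theorem par_xor (a b : ℕ) : par (a ^^^ b) = (par a ^^ par b) := by
  simp only [par, Nat.testBit_xor]
  have x4 : ∀ p q r t : Bool, ((p ^^ q) ^^ (r ^^ t)) = ((p ^^ r) ^^ (q ^^ t)) := by decide
  rw [x4 (a.testBit 0) (b.testBit 0),
    x4 (a.testBit 0 ^^ a.testBit 1) (b.testBit 0 ^^ b.testBit 1),
    x4 (a.testBit 0 ^^ a.testBit 1 ^^ a.testBit 2) (b.testBit 0 ^^ b.testBit 1 ^^ b.testBit 2),
    x4 (a.testBit 0 ^^ a.testBit 1 ^^ a.testBit 2 ^^ a.testBit 3) (b.testBit 0 ^^ b.testBit 1 ^^ b.testBit 2 ^^ b.testBit 3),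
    x4 (a.testBit 0 ^^ a.testBit 1 ^^ a.testBit 2 ^^ a.testBit 3 ^^ a.testBit 4) (b.testBit 0 ^^ b.testBit 1 ^^ b.testBit 2 ^^ b.testBit 3 ^^ b.testBit 4),
    x4 (a.testBit 0 ^^ a.testBit 1 ^^ a.testBit 2 ^^ a.testBit 3 ^^ a.testBit 4 ^^ a.testBit 5) (b.testBit 0 ^^ b.testBit 1 ^^ b.testBit 2 ^^ b.testBit 3 ^^ b.testBit 4 ^^ b.testBit 5),
    x4 (a.testBit 0 ^^ a.testBit 1 ^^ a.testBit 2 ^^ a.testBit 3 ^^ a.testBit 4 ^^ a.testBit 5 ^^ a.testBit 6) (b.testBit 0 ^^ b.testBit 1 ^^ b.testBit 2 ^^ b.testBit 3 ^^ b.testBit 4 ^^ b.testBit 5 ^^ b.testBit 6)]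

theorem par_and_xor (m a b : ℕ) : par ((a ^^^ b) &&& m) = (par (a &&& m) ^^ par (b &&& m)) := by
  rw [Nat.and_xor_distrib_right, par_xor]

theorem par_two_pow {i : ℕ} (hi : i < 8) (m : ℕ) : par (2 ^ i &&& m) = m.testBit i := by
  simp only [par, Nat.testBit_and, Nat.testBit_two_pow]
  interval_cases i <;> simp

theorem exists_mask (f : ℕ → Bool) : ∀ k, ∃ m < 2 ^ k, ∀ i < k, m.testBit i = f (2 ^ i)
  | 0 => ⟨0, by norm_num, by omega⟩
  | k + 1 => by
    obtain ⟨m, hm, h⟩ := exists_mask f k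
    by_cases hf : f (2 ^ k) = true
    · refine ⟨m ||| 2 ^ k, Nat.or_lt_two_pow (lt_of_lt_of_le hm (Nat.pow_le_pow_right (by norm_num)
        (by omega))) (Nat.pow_lt_pow_right (by norm_num) (by omega)), fun i hi => ?_⟩
      rw [Nat.testBit_or, Nat.testBit_two_pow]
      rcases Nat.lt_or_eq_of_le (Nat.lt_succ_iff.1 hi) with h' | rfl
      · simp [h i h', h'.ne']
      · simp [hf, Nat.testBit_lt_two_pow hm]
    · refine ⟨m, lt_of_lt_of_le hm (Nat.pow_le_pow_right (by norm_num) (by omega)), fun i hi => ?_⟩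
      rcases Nat.lt_or_eq_of_le (Nat.lt_succ_iff.1 hi) with h' | rfl
      · exact h i h'
      · rw [Nat.testBit_lt_two_pow hm]; simpa using hf

/-- An additive function is a parity. -/
theorem exists_functional {k : ℕ} (hk : k ≤ 8) (f : ℕ → Bool)
    (hf : ∀ a b, a < 2 ^ k → b < 2 ^ k → f (a ^^^ b) = (f a ^^ f b)) :
    ∃ m < 2 ^ k, ∀ s < 2 ^ k, f s = par (s &&& m) := by
  obtain ⟨m, hm, h⟩ := exists_mask f k
  refine ⟨m, hm, addFn_ext f _ k hf (fun a b _ _ => par_and_xor m a b) fun i hi => ?_⟩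
  rw [par_two_pow (by omega), h i hi]

theorem ap_zero (L : List ℕ) : ap L 0 = 0 := by
  have h := ap_xor L 0 0
  simp at h
  exact h

theorem foldl_map (bs : List ℕ) (f : ℕ → ℕ) (hf : ∀ a b, f (a ^^^ b) = f a ^^^ f b) (s : ℕ) :
    ∀ (l : List ℕ), (∀ i ∈ l, i < bs.length) → ∀ acc,
      l.foldl (fun t i => if s.testBit i then t ^^^ (bs.map f).getD i 0 else t) (f acc) =
        f (l.foldl (fun t i => if s.testBit i then t ^^^ bs.getD i 0 else t) acc)
  | [], _, acc => rfl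
  | i :: l, hl, acc => by
    have hi : i < bs.length := hl i List.mem_cons_self
    simp only [List.foldl_cons]
    have e : (bs.map f).getD i 0 = f (bs.getD i 0) := by
      simp [List.getD_eq_getElem?_getD, List.getElem?_map, List.getElem?_eq_getElem hi]
    rw [e, ← hf, ← apply_ite f]
    exact foldl_map bs f hf s l (fun j hj => hl j (List.mem_cons_of_mem _ hj)) _

theorem ap_map (bs : List ℕ) (f : ℕ → ℕ) (hf : ∀ a b, f (a ^^^ b) = f a ^^^ f b) (s : ℕ) :
    ap (bs.map f) s = f (ap bs s) := by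
  have h0 : f 0 = 0 := by
    have h := hf 0 0
    simp at h
    exact h
  have h := foldl_map bs f hf s (List.range bs.length) (fun i hi => List.mem_range.1 hi) 0
  rw [h0] at h
  simpa [ap] using h

end Cfsg.Agent.ExtraTwoNine
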