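import Mathlib
import Cfsg.Agent.Lib.ExtraTwoNine.Model

/-!
The finite check for an involution `u` outside `Q` conjugate to `z` when no conjugate of `z` other
than `z` lies in `Q`.  Everything is computed in coordinates `s` of the fixed space of `u`
(`v = ap bs s`); a candidate element of `C(u)` is stored by the images `v + L v` of that basis.
-/

set_option autoImplicit false

namespace Cfsg.Agent.ExtraTwoNine

open Equiv (Perm)

/-- A faithful code of a pair of permutations. -/
def key (a : Perm (Fin 3)) (b : Perm (Fin 6)) : List ℕ :=
  (List.ofFn fun i => (a i).val) ++ List.ofFn fun i => (b i).val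

/-- `v + L v`. -/
def dif (L : List ℕ) (v : ℕ) : ℕ := ap L v ^^^ v

/-- A candidate: code, and the values of `dif` on the basis for both values of `eps`. -/
structure Entry where
  code : List ℕ
  d0 : List ℕ
  d1 : List ℕ

/-- The data for one class of involutions: basis of the fixed space and candidates. -/
structure Datum where
  kind : Kind
  a : Perm (Fin 3)
  b : Perm (Fin 6)
  e : Bool
  bs : List ℕ
  cand : List Entry

namespace Datum

variable (d : Datum)

/-- The action of `u`. -/
def L : List ℕ := img d.kind d.a d.b d.e

/-- The coordinates. -/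
def ks : List ℕ := List.range (2 ^ d.bs.length)

/-- `s` lies in the kernel of the functional `m`. -/
def inD (m s : ℕ) : Bool := !par (s &&& m)

/-- Membership in `[V, u]`. -/
def inW (s : ℕ) : Bool := (List.range 256).any fun y => dif d.L y == ap d.bs s

/-- The basis is one of the fixed space, and the candidates are complete. -/
def wf : Bool :=
  ((List.range 256).all fun v => dif d.L v != 0 || d.ks.any (fun s => ap d.bs s == v)) &&
    (d.ks.all fun s => dif d.L (ap d.bs s) == 0 && decide (ap d.bs s < 256)) &&
    (d.ks.all fun s => s == 0 || ap d.bs s != 0) && decide (d.bs.length ≤ 8)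

/-- The candidates are complete. -/
def Complete : Prop :=
  ∀ a : Perm (Fin 3), a * d.a = d.a * a → ∀ b : Perm (Fin 6), b * d.b = d.b * b →
    ((a * a = 1 ∧ b * b = 1) ∨ (a * a = d.a ∧ b * b = d.b)) →
    (d.cand.any fun E => E.code == key a b && E.d0 == d.bs.map (dif (img d.kind a b false)) &&
      E.d1 == d.bs.map (dif (img d.kind a b true))) = true

instance : Decidable d.Complete := by unfold Complete; infer_instance

/-- `m` is a possible functional. -/
def okM (ws : List ℕ) (m : ℕ) : Bool :=
  ws.all fun s => par (s &&& m) == qv d.kind (ap d.bs s)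

/-- The singular radical of the kernel of `m`, without zero. -/
def rad (m : ℕ) : List ℕ :=
  let D := (d.ks.filter (inD m)).map (ap d.bs)
  d.ks.filter fun s => s != 0 && inD m s && !qv d.kind (ap d.bs s) &&
    D.all fun w => !(qv d.kind (ap d.bs s ^^^ w) ^^ qv d.kind (ap d.bs s) ^^ qv d.kind w)

/-- One element of `B` is possible. -/
def ok1 (ws : List ℕ) (m s : ℕ) : Bool := m == 0 || !ws.contains s

/-- Two elements of `B` are compatible. -/
def ok2 (ws : List ℕ) (m s t : ℕ) : Bool :=
  m != 0 || !ws.contains s || !ws.contains t ||
    (List.range 256).all fun y => dif d.L y != ap d.bs s ||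
      (qv d.kind (y ^^^ ap d.bs t) ^^ qv d.kind y ^^ qv d.kind (ap d.bs t))

/-- A list of elements of `B` is possible. -/
def okB (ws : List ℕ) (m : ℕ) (R B : List ℕ) : Bool :=
  B.all (fun s => R.contains s && ok1 ws m s) &&
    B.all fun s => B.all fun t => s == t || d.ok2 ws m s t

/-- Generators of the kernel of `m`. -/
def gens (m : ℕ) : List ℕ :=
  let u := (List.range d.bs.length).map (2 ^ ·)
  (u ++ u.flatMap fun x => u.map fun y => x ||| y).filter (inD m)

/-- A candidate fixes `B` and moves the kernel of `m` into it. -/
def fit (gs B : List ℕ) (E : Entry) : Bool :=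
  let f := fun (dd : List ℕ) =>
    B.all (fun s => ap dd s == 0) &&
      gs.all fun g => ap dd g == 0 || B.any fun s => ap dd g == ap d.bs s
  f E.d0 || f E.d1

/-- The possible subspaces `B`, as lists of their non-zero elements. -/
def subsp (R : List ℕ) : List (List ℕ) :=
  [] :: R.map (fun a => [a]) ++
    R.flatMap fun a => (R.filter (fun b => decide (a < b))).map fun b => [a, b, a ^^^ b]

/-- No possible subspace has dimension three. -/
def noThree (ws : List ℕ) (m : ℕ) (R : List ℕ) : Bool :=
  R.all fun a => R.all fun b => decide (b ≤ a) || R.all fun c =>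
    decide (c ≤ b) || [a, b, a ^^^ b].contains c ||
      !d.okB ws m R [a, b, a ^^^ b, c, a ^^^ c, b ^^^ c, a ^^^ b ^^^ c]

/-- The check: `P (size of the kernel of m) B (fitting candidates)` in all possible situations. -/
def check (P : ℕ → List ℕ → List Entry → Bool) : Bool :=
  let ws := d.ks.filter d.inW
  d.ks.all fun m => !d.okM ws m ||
    (let R := d.rad m
     d.noThree ws m R &&
      (subsp R).all fun B => !d.okB ws m R B ||
        P (d.ks.filter (inD m)).length B (d.cand.filter (d.fit (d.gens m) B)))

end Datum

/-- A class of involutions that cannot occur. -/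
def killP (n : ℕ) (B : List ℕ) (F : List Entry) : Bool :=
  decide (F.length * (B.length + 1) < 16) ||
    (decide (16 < n) && decide (F.length * (B.length + 1) ≤ 32))

/-- A surviving class: kernel of order `t / 2`, bound `t`, and `p` occurs when the bound is met. -/
def specialP (t : ℕ) (p : List ℕ) (n : ℕ) (B : List ℕ) (F : List Entry) : Bool :=
  decide (2 * n = t) && decide (F.length * (B.length + 1) ≤ t) &&
    (decide (F.length * (B.length + 1) < t) || F.any fun E => E.code == p)

end Cfsg.Agent.ExtraTwoNine
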