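import Mathlib
import Cfsg.Agent.Lib.ExtraTwoNine.Check
import Cfsg.Agent.Lib.ExtraTwoNine.Bits

/-!
A conjugate `u = g z g⁻¹` of `z` in `M` outside `Q`: the groups `C_Q(u)`, `C_{Q_u}(z)`, their
intersection, and the interpretation of the finite check.
-/

set_option autoImplicit false
set_option linter.unusedSectionVars false

namespace Cfsg.Agent.ExtraTwoNine

open Subgroup

theorem key_injective {a a' : Equiv.Perm (Fin 3)} {b b' : Equiv.Perm (Fin 6)}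
    (h : key a b = key a' b') : a = a' ∧ b = b' := by
  obtain ⟨h1, h2⟩ := List.append_inj h (by simp)
  rw [List.ofFn_inj] at h1 h2
  exact ⟨Equiv.ext fun i => Fin.ext (congrFun h1 i), Equiv.ext fun i => Fin.ext (congrFun h2 i)⟩

namespace Coord

variable {G : Type*} [Group G] [Finite G] {z : G} (C : Coord z)

/-- No conjugate of `z` other than `z` lies in `Q`. -/
def NoPair : Prop := ∀ g : G, g * z * g⁻¹ ∈ C.Q → g * z * g⁻¹ = z

/-- `g z g⁻¹` commutes with `z`, and the two do not lie in each other's extraspecial groups. -/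
structure Pt (g : G) : Prop where
  mem : g * z * g⁻¹ ∈ Mz z
  out : g * z * g⁻¹ ∉ C.Q
  out' : g⁻¹ * z * g ∉ C.Q

/-- `C_Q(g z g⁻¹)`. -/
def DD (g : G) : Subgroup G := C.Q ⊓ centralizer ({g * z * g⁻¹} : Set G)

/-- `C_{g Q g⁻¹}(z)`. -/
def DP (g : G) : Subgroup G := C.Q.comap (MulAut.conj g⁻¹).toMonoidHom ⊓ Mz z

/-- Their intersection. -/
def BB (g : G) : Subgroup G := C.Q ⊓ C.DP g

variable {g : G}

theorem mem_DD {x : G} : x ∈ C.DD g ↔ x ∈ C.Q ∧ x * (g * z * g⁻¹) = g * z * g⁻¹ * x := by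
  simp [DD, mem_inf, mem_centralizer_singleton_iff]

theorem mem_DP {x : G} : x ∈ C.DP g ↔ g⁻¹ * x * g ∈ C.Q ∧ x * z = z * x := by
  simp [DP, mem_inf, mem_centralizer_singleton_iff, mul_assoc]

theorem mem_BB {x : G} : x ∈ C.BB g ↔ x ∈ C.Q ∧ g⁻¹ * x * g ∈ C.Q ∧ x * z = z * x := by
  simp [BB, mem_inf, C.mem_DP]

theorem z_mem_DD (hg : g * z * g⁻¹ ∈ Mz z) : z ∈ C.DD g :=
  C.mem_DD.2 ⟨C.z_mem, (Coord.mem_cent.1 hg).symm⟩

theorem map_DD : (C.DD g⁻¹).map (MulAut.conj g).toMonoidHom = C.DP g := by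
  ext x
  rw [mem_map_equiv, C.mem_DD, C.mem_DP]
  simp only [MulAut.conj_symm_apply, inv_inv]
  refine and_congr_right fun _ => ?_
  constructor
  · intro h
    calc x * z = g * (g⁻¹ * x * g * (g⁻¹ * z * g)) * g⁻¹ := by group
      _ = g * (g⁻¹ * z * g * (g⁻¹ * x * g)) * g⁻¹ := by rw [h]
      _ = z * x := by group
  · intro h
    calc g⁻¹ * x * g * (g⁻¹ * z * g) = g⁻¹ * (x * z) * g := by group
      _ = g⁻¹ * (z * x) * g := by rw [h]
      _ = g⁻¹ * z * g * (g⁻¹ * x * g) := by group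

theorem card_DP : Nat.card ↥(C.DP g) = Nat.card ↥(C.DD g⁻¹) := by
  rw [← C.map_DD]
  exact (Nat.card_congr ((C.DD g⁻¹).equivMapOfInjective _ (MulAut.conj g).injective).toEquiv).symm

variable {C}

theorem Pt.inv (h : C.Pt g) : C.Pt g⁻¹ := by
  refine ⟨Coord.mem_cent.2 ?_, by simpa using h.out', by simpa using h.out⟩
  have e := Coord.mem_cent.1 h.mem
  calc g⁻¹ * z * g⁻¹⁻¹ * z = g⁻¹ * (z * (g * z * g⁻¹)) * g := by group
    _ = g⁻¹ * (g * z * g⁻¹ * z) * g := by rw [e]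
    _ = z * (g⁻¹ * z * g⁻¹⁻¹) := by group

theorem uu (C : Coord z) (g : G) : g * z * g⁻¹ * (g * z * g⁻¹) = 1 := by
  calc g * z * g⁻¹ * (g * z * g⁻¹) = g * (z * z) * g⁻¹ := by group
    _ = 1 := by rw [C.zz]; group

theorem u_inv (C : Coord z) (g : G) : (g * z * g⁻¹)⁻¹ = g * z * g⁻¹ :=
  inv_eq_of_mul_eq_one_right (C.uu g)

theorem comm_u {x : G} (hx : x ∈ C.DP g) : x * (g * z * g⁻¹) = g * z * g⁻¹ * x := by
  have h := C.cent_z (C.mem_DP.1 hx).1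
  calc x * (g * z * g⁻¹) = g * (g⁻¹ * x * g * z) * g⁻¹ := by group
    _ = g * (z * (g⁻¹ * x * g)) * g⁻¹ := by rw [h]
    _ = g * z * g⁻¹ * x := by group

theorem DP_sq {x : G} (hx : x ∈ C.DP g) : x * x = 1 ∨ x * x = g * z * g⁻¹ := by
  have e : x * x = g * (g⁻¹ * x * g * (g⁻¹ * x * g)) * g⁻¹ := by group
  rcases C.sq_cases (C.mem_DP.1 hx).1 with h | h
  · exact Or.inl (by rw [e, h]; group)
  · exact Or.inr (by rw [e, h])

theorem BB_le_DD : C.BB g ≤ C.DD g := fun x hx =>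
  C.mem_DD.2 ⟨(C.mem_BB.1 hx).1, comm_u (C.mem_DP.2 (C.mem_BB.1 hx).2)⟩

theorem BB_le_Q : C.BB g ≤ C.Q := inf_le_left

theorem DP_le : C.DP g ≤ Mz z := inf_le_right

theorem DD_le_Q : C.DD g ≤ C.Q := inf_le_left

namespace Pt

variable (h : C.Pt g)

include h

theorem z_notMem : z ∉ C.BB g := fun hz => h.out' (C.mem_BB.1 hz).2.1

theorem BB_sq {b : G} (hb : b ∈ C.BB g) : b * b = 1 := by
  rcases C.sq_cases (BB_le_Q hb) with e | e
  · exact e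
  · have hm := mul_mem hb hb
    rw [e] at hm
    exact absurd hm h.z_notMem

theorem BB_comm {b x : G} (hb : b ∈ C.BB g) (hx : x ∈ C.DP g) : b * x = x * b := by
  obtain ⟨hbQ, hbg, hbz⟩ := C.mem_BB.1 hb
  obtain ⟨hxg, hxz⟩ := C.mem_DP.1 hx
  have h1 : b * x * b⁻¹ * x⁻¹ ∈ C.Q := by
    have := mul_mem hbQ (C.conj_mem (Coord.mem_cent.2 hxz) (inv_mem hbQ))
    simpa [mul_assoc] using this
  have e : b * x * b⁻¹ * x⁻¹ =
      g * ((g⁻¹ * b * g) * (g⁻¹ * x * g) * (g⁻¹ * b * g)⁻¹ * (g⁻¹ * x * g)⁻¹) * g⁻¹ := by group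
  have e' : b * x * b⁻¹ * x⁻¹ = 1 := by
    rcases C.comm_cases hbg hxg with k | k
    · rw [e, k]; group
    · exfalso
      rw [k] at e
      exact h.out (e ▸ h1)
  calc b * x = b * x * b⁻¹ * x⁻¹ * (x * b) := by group
    _ = x * b := by rw [e', one_mul]

theorem comm_mem {d x : G} (hd : d ∈ C.DD g) (hx : x ∈ C.DP g) : x * d * x⁻¹ * d⁻¹ ∈ C.BB g := by
  obtain ⟨hdQ, hdu⟩ := C.mem_DD.1 hd
  obtain ⟨hxg, hxz⟩ := C.mem_DP.1 hx
  have hdm : g⁻¹ * d * g ∈ Mz z := Coord.mem_cent.2 (by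
    calc g⁻¹ * d * g * z = g⁻¹ * (d * (g * z * g⁻¹)) * g := by group
      _ = g⁻¹ * (g * z * g⁻¹ * d) * g := by rw [hdu]
      _ = z * (g⁻¹ * d * g) := by group)
  have h2 : g⁻¹ * (x * d * x⁻¹ * d⁻¹) * g =
      g⁻¹ * x * g * ((g⁻¹ * d * g) * (g⁻¹ * x * g)⁻¹ * (g⁻¹ * d * g)⁻¹) := by group
  refine C.mem_BB.2 ⟨mul_mem (C.conj_mem (Coord.mem_cent.2 hxz) hdQ) (inv_mem hdQ), ?_, ?_⟩
  · rw [h2]; exact mul_mem hxg (C.conj_mem hdm (inv_mem hxg))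
  · exact C.cent_z (mul_mem (C.conj_mem (Coord.mem_cent.2 hxz) hdQ) (inv_mem hdQ))

theorem BB_comm_DD {b d : G} (hb : b ∈ C.BB g) (hd : d ∈ C.DD g) : b * d = d * b := by
  have hbDP : b ∈ C.DP g := C.mem_DP.2 (C.mem_BB.1 hb).2
  have hm := h.comm_mem hd hbDP
  rcases C.comm_cases (BB_le_Q hb) (DD_le_Q hd) with e | e
  · calc b * d = b * d * b⁻¹ * d⁻¹ * (d * b) := by group
      _ = d * b := by rw [e, one_mul]
  · exact absurd (e ▸ hm) h.z_notMem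

/-- `ψ` on `C_{Q_u}(z)`. -/
theorem card_DP_eq : Nat.card ↥(C.DP g) =
    Nat.card ↥((C.ψ.comp (Subgroup.inclusion (DP_le (C := C) (g := g)))).range) *
      Nat.card ↥(C.BB g) := by
  set φ := C.ψ.comp (Subgroup.inclusion (DP_le (C := C) (g := g))) with hφ
  have hk : Nat.card ↥φ.ker = Nat.card ↥(C.BB g) := by
    refine Nat.card_congr
      { toFun := fun x => ⟨x.1.1, ⟨(C.ker_iff _).1 x.2, x.1.2⟩⟩
        invFun := fun x => ⟨⟨x.1, x.2.2⟩, (C.ker_iff _).2 x.2.1⟩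
        left_inv := fun _ => rfl
        right_inv := fun _ => rfl }
  rw [Subgroup.card_eq_card_quotient_mul_card_subgroup φ.ker, hk,
    Nat.card_congr (QuotientGroup.quotientKerEquivRange φ).toEquiv]

theorem no_q (hn : C.NoPair) {b q : G} (hb : b ∈ C.BB g) (hq : q ∈ C.Q)
    (hc : g * z * g⁻¹ * q * (g * z * g⁻¹)⁻¹ * q⁻¹ = b) : b = 1 := by
  obtain ⟨hbQ, hbg, hbz⟩ := C.mem_BB.1 hb
  have e1 : q * (g * z * g⁻¹) * q⁻¹ = g * z * g⁻¹ * b := by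
    rw [← hc, C.u_inv g]
    calc q * (g * z * g⁻¹) * q⁻¹
        = g * z * g⁻¹ * (g * z * g⁻¹) * (q * (g * z * g⁻¹) * q⁻¹) := by rw [C.uu g, one_mul]
      _ = _ := by group
  have e2 : g⁻¹ * q * g * z * (g⁻¹ * q * g)⁻¹ = z * (g⁻¹ * b * g) := by
    calc g⁻¹ * q * g * z * (g⁻¹ * q * g)⁻¹ = g⁻¹ * (q * (g * z * g⁻¹) * q⁻¹) * g := by group
      _ = g⁻¹ * (g * z * g⁻¹ * b) * g := by rw [e1]
      _ = z * (g⁻¹ * b * g) := by group
  have h1 := hn _ (e2 ▸ mul_mem C.z_mem hbg)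
  rw [e2] at h1
  have h2 : g⁻¹ * b * g = 1 := mul_eq_left.1 h1
  calc b = g * (g⁻¹ * b * g) * g⁻¹ := by group
    _ = 1 := by rw [h2]; group

end Pt

/-- The datum `d` describes `g z g⁻¹`. -/
structure Matches (C : Coord z) (d : Datum) (g : G) (hg : g * z * g⁻¹ ∈ Mz z) : Prop where
  kind : d.kind = C.kind
  psi : C.ψ ⟨_, hg⟩ = (d.a, d.b)
  act : C.act ⟨_, hg⟩ = d.L

variable {d : Datum}

namespace Pt

variable (h : C.Pt g) (hd : Matches C d g h.mem) (hwf : d.wf = true)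

include h hd hwf

theorem wf_fix {v : ℕ} (hv : v < 256) (e : ap d.L v = v) : ∃ s < 2 ^ d.bs.length, ap d.bs s = v := by
  simp only [Datum.wf, Bool.and_eq_true, List.all_eq_true, List.mem_range] at hwf
  have := hwf.1.1.1 v hv
  simp only [dif, e, Nat.xor_self, bne_self_eq_false, Bool.false_or, List.any_eq_true,
    Datum.ks, List.mem_range, beq_iff_eq] at this
  exact this

theorem wf_s {s : ℕ} (hs : s < 2 ^ d.bs.length) :
    ap d.L (ap d.bs s) = ap d.bs s ∧ ap d.bs s < 256 ∧ (ap d.bs s = 0 → s = 0) ∧ d.bs.length ≤ 8 := by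
  simp only [Datum.wf, Bool.and_eq_true, List.all_eq_true, Datum.ks, List.mem_range, beq_iff_eq,
    decide_eq_true_eq, Bool.or_eq_true, bne_iff_ne] at hwf
  obtain ⟨⟨⟨_, h2⟩, h3⟩, h4⟩ := hwf
  refine ⟨Nat.xor_eq_zero_iff.1 (h2 s hs).1, (h2 s hs).2, fun e => ?_, h4⟩
  rcases h3 s hs with k | k
  · exact k
  · exact absurd e k

theorem coord_inj {s t : ℕ} (hs : s < 2 ^ d.bs.length) (ht : t < 2 ^ d.bs.length)
    (e : ap d.bs s = ap d.bs t) : s = t :=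
  Nat.xor_eq_zero_iff.1 ((h.wf_s hd hwf (xor_lt hs ht)).2.2.1 (by rw [ap_xor, e, Nat.xor_self]))

theorem pi_conj_u {q : G} (hq : q ∈ C.Q) :
    C.π (g * z * g⁻¹ * q * (g * z * g⁻¹)⁻¹) = ap d.L (C.π q) := by
  rw [← hd.act]; exact C.pi_conj' h.mem hq

theorem DD_fix {v : ℕ} (hv : v ∈ C.im (C.DD g)) : ap d.L v = v := by
  obtain ⟨q, hq, rfl⟩ := hv
  obtain ⟨hqQ, hqu⟩ := C.mem_DD.1 hq
  rw [← h.pi_conj_u hd hwf hqQ]
  congr 1
  rw [← hqu, mul_inv_cancel_right]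

theorem DD_coord {v : ℕ} (hv : v ∈ C.im (C.DD g)) : ∃ s < 2 ^ d.bs.length, ap d.bs s = v :=
  h.wf_fix hd hwf (C.im_lt DD_le_Q hv) (h.DD_fix hd hwf hv)

/-- A lift of a fixed vector outside `C_Q(u)` is moved by `z`. -/
theorem outside {q : G} (hq : q ∈ C.Q) (hfix : ap d.L (C.π q) = C.π q)
    (hn : C.π q ∉ C.im (C.DD g)) : g * z * g⁻¹ * q * (g * z * g⁻¹)⁻¹ = q * z := by
  have hm : g * z * g⁻¹ * q * (g * z * g⁻¹)⁻¹ ∈ C.Q := C.conj_mem h.mem hq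
  rcases C.pi_eq hq hm (by rw [h.pi_conj_u hd hwf hq, hfix]) with e | e
  · exact absurd ⟨q, C.mem_DD.2 ⟨hq, (mul_inv_eq_iff_eq_mul.1 e).symm⟩, rfl⟩ hn
  · exact e

open Classical in
theorem exists_m : ∃ m < 2 ^ d.bs.length, ∀ s < 2 ^ d.bs.length,
    (ap d.bs s ∈ C.im (C.DD g) ↔ Datum.inD m s = true) := by
  let f : ℕ → Bool := fun s => decide (ap d.bs s ∉ C.im (C.DD g))
  have h8 : d.bs.length ≤ 8 := (h.wf_s hd hwf (Nat.two_pow_pos _)).2.2.2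
  obtain ⟨m, hm, hf⟩ := exists_functional h8 f (by
    intro a b ha hb
    obtain ⟨fa, la, -⟩ := h.wf_s hd hwf ha
    obtain ⟨fb, lb, -⟩ := h.wf_s hd hwf hb
    simp only [f, ap_xor]
    by_cases hA : ap d.bs a ∈ C.im (C.DD g) <;> by_cases hB : ap d.bs b ∈ C.im (C.DD g)
    · simp [hA, hB, C.im_xor DD_le_Q hA hB]
    · have : ap d.bs a ^^^ ap d.bs b ∉ C.im (C.DD g) := fun k => hB (by
        have := C.im_xor DD_le_Q hA k
        rwa [← Nat.xor_assoc, Nat.xor_self, Nat.zero_xor] at this)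
      simp [hA, hB, this]
    · have : ap d.bs a ^^^ ap d.bs b ∉ C.im (C.DD g) := fun k => hA (by
        have := C.im_xor DD_le_Q k hB
        rwa [Nat.xor_assoc, Nat.xor_self, Nat.xor_zero] at this)
      simp [hA, hB, this]
    · obtain ⟨q1, hq1, e1⟩ := C.π_surj _ la
      obtain ⟨q2, hq2, e2⟩ := C.π_surj _ lb
      have k1 := h.outside hd hwf hq1 (by rw [e1]; exact fa) (by rw [e1]; exact hA)
      have k2 := h.outside hd hwf hq2 (by rw [e2]; exact fb) (by rw [e2]; exact hB)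
      have k : g * z * g⁻¹ * (q1 * q2) * (g * z * g⁻¹)⁻¹ = q1 * q2 := by
        calc g * z * g⁻¹ * (q1 * q2) * (g * z * g⁻¹)⁻¹
            = (g * z * g⁻¹ * q1 * (g * z * g⁻¹)⁻¹) * (g * z * g⁻¹ * q2 * (g * z * g⁻¹)⁻¹) := by group
          _ = q1 * z * (q2 * z) := by rw [k1, k2]
          _ = q1 * (z * z) * q2 := by rw [C.cent_z hq2]; group
          _ = q1 * q2 := by rw [C.zz, mul_one]
      have : ap d.bs a ^^^ ap d.bs b ∈ C.im (C.DD g) :=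
        ⟨q1 * q2, C.mem_DD.2 ⟨mul_mem hq1 hq2, (mul_inv_eq_iff_eq_mul.1 k).symm⟩, by
          rw [C.π_mul _ hq1 _ hq2, e1, e2]⟩
      simp [hA, hB, this])
  refine ⟨m, hm, fun s hs => ?_⟩
  rw [Datum.inD, ← hf s hs]
  simp [f]

/-- The commutator `[u, q]`. -/
theorem comm_q {q : G} (hq : q ∈ C.Q) :
    g * z * g⁻¹ * q * (g * z * g⁻¹)⁻¹ * q⁻¹ ∈ C.Q ∧
      C.π (g * z * g⁻¹ * q * (g * z * g⁻¹)⁻¹ * q⁻¹) = dif d.L (C.π q) := by
  have hm : g * z * g⁻¹ * q * (g * z * g⁻¹)⁻¹ ∈ C.Q := C.conj_mem h.mem hq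
  refine ⟨mul_mem hm (inv_mem hq), ?_⟩
  rw [C.π_mul _ hm _ (inv_mem hq), C.pi_inv hq, h.pi_conj_u hd hwf hq]
  rfl

theorem inW_iff {s : ℕ} : d.inW s = true ↔ ∃ y < 256, dif d.L y = ap d.bs s := by
  simp [Datum.inW]

theorem okM {m : ℕ} (hm : ∀ s < 2 ^ d.bs.length, (ap d.bs s ∈ C.im (C.DD g) ↔ Datum.inD m s = true)) :
    d.okM (d.ks.filter d.inW) m = true := by
  simp only [Datum.okM, List.all_eq_true, List.mem_filter, Datum.ks, List.mem_range, beq_iff_eq]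
  rintro s ⟨hs, hw⟩
  obtain ⟨y, hy, e⟩ := (h.inW_iff hd hwf).1 hw
  obtain ⟨q, hq, rfl⟩ := C.π_surj y hy
  obtain ⟨hcQ, hc⟩ := h.comm_q hd hwf hq
  set c := g * z * g⁻¹ * q * (g * z * g⁻¹)⁻¹ * q⁻¹ with hc'
  rw [e] at hc
  have hinv : g * z * g⁻¹ * c * (g * z * g⁻¹)⁻¹ = c⁻¹ := by
    rw [hc']
    calc g * z * g⁻¹ * (g * z * g⁻¹ * q * (g * z * g⁻¹)⁻¹ * q⁻¹) * (g * z * g⁻¹)⁻¹
        = (g * z * g⁻¹ * (g * z * g⁻¹)) * q * (g * z * g⁻¹)⁻¹ * q⁻¹ * (g * z * g⁻¹)⁻¹ := by group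
      _ = q * (g * z * g⁻¹) * q⁻¹ * (g * z * g⁻¹)⁻¹ := by rw [C.uu g, one_mul, C.u_inv g]
      _ = _ := by group
  have key : ap d.bs s ∈ C.im (C.DD g) ↔ c * c = 1 := by
    constructor
    · rintro ⟨x, hx, ex⟩
      obtain ⟨hxQ, hxu⟩ := C.mem_DD.1 hx
      have hx' : g * z * g⁻¹ * x * (g * z * g⁻¹)⁻¹ = x := by rw [← hxu, mul_inv_cancel_right]
      have hcu : g * z * g⁻¹ * c * (g * z * g⁻¹)⁻¹ = c := by
        rcases C.pi_eq hxQ hcQ (by rw [hc, ex]) with k | k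
        · rw [k]; exact hx'
        · have hz' : g * z * g⁻¹ * z * (g * z * g⁻¹)⁻¹ = z := by
            rw [Coord.mem_cent.1 h.mem, mul_inv_cancel_right]
          calc g * z * g⁻¹ * c * (g * z * g⁻¹)⁻¹
              = (g * z * g⁻¹ * x * (g * z * g⁻¹)⁻¹) * (g * z * g⁻¹ * z * (g * z * g⁻¹)⁻¹) := by
                rw [k]; group
            _ = c := by rw [hx', hz', k]
      rw [hinv] at hcu
      exact mul_eq_one_iff_eq_inv.2 hcu.symm
    · intro k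
      refine ⟨c, C.mem_DD.2 ⟨hcQ, ?_⟩, hc⟩
      rw [(mul_eq_one_iff_eq_inv.1 k).symm] at hinv
      exact (mul_inv_eq_iff_eq_mul.1 hinv).symm
  have := (hm s hs).symm.trans key
  rw [C.sq_one hcQ, hc, ← hd.kind] at this
  simp only [Datum.inD] at this
  revert this
  cases par (s &&& m) <;> cases qv d.kind (ap d.bs s) <;> simp

end Pt

end Coord

end Cfsg.Agent.ExtraTwoNine
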