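import Mathlib
import Cfsg.Agent.Lib.ExtraTwoNine.Outside

/-!
Interpretation of the finite check: the bound on the order of `C_{Q_u}(z)`.
-/

set_option autoImplicit false
set_option linter.unusedSectionVars false

namespace Cfsg.Agent.ExtraTwoNine

open Subgroup

/-- A set closed under `xor` containing zero: small, or with three independent elements. -/
theorem closed_cases (S : Finset ℕ) (h0 : 0 ∈ S) (hx : ∀ a ∈ S, ∀ b ∈ S, a ^^^ b ∈ S) :
    S = {0} ∨ (∃ a, a ≠ 0 ∧ S = {0, a}) ∨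
      (∃ a b, a ≠ 0 ∧ a < b ∧ S = {0, a, b, a ^^^ b}) ∨
      (∃ a b c, a ≠ 0 ∧ a < b ∧ b < c ∧ c ∈ S ∧ a ∈ S ∧ b ∈ S ∧ c ∉ [a, b, a ^^^ b]) := by
  by_cases h1 : (S.erase 0).Nonempty
  swap
  · left
    rw [Finset.not_nonempty_iff_eq_empty] at h1
    rw [← Finset.insert_erase h0, h1]
    rfl
  right
  set a := (S.erase 0).min' h1 with ha
  obtain ⟨ha0, haS⟩ := Finset.mem_erase.1 ((S.erase 0).min'_mem h1)
  rw [← ha] at ha0 haS
  by_cases h2 : ((S.erase 0).erase a).Nonempty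
  swap
  · left
    refine ⟨a, ha0, Finset.ext fun x => ?_⟩
    rw [Finset.not_nonempty_iff_eq_empty] at h2
    simp only [Finset.mem_insert, Finset.mem_singleton]
    constructor
    · intro hxS
      by_contra hc
      push Not at hc
      have : x ∈ (S.erase 0).erase a := by simp [hc, hxS]
      simp [h2] at this
    · rintro (rfl | rfl) <;> assumption
  right
  set b := ((S.erase 0).erase a).min' h2 with hb
  obtain ⟨hba, hb'⟩ := Finset.mem_erase.1 (((S.erase 0).erase a).min'_mem h2)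
  rw [← hb] at hba hb'
  have hab : a < b := lt_of_le_of_ne ((S.erase 0).min'_le _ hb') hba.symm
  obtain ⟨hb0, hbS⟩ := Finset.mem_erase.1 hb'
  by_cases h3 : ∀ x ∈ S, x = 0 ∨ x = a ∨ x = b ∨ x = a ^^^ b
  · left
    refine ⟨a, b, ha0, hab, Finset.ext fun x => ?_⟩
    simp only [Finset.mem_insert, Finset.mem_singleton]
    refine ⟨h3 x, ?_⟩
    rintro (rfl | rfl | rfl | rfl)
    exacts [h0, haS, hbS, hx a haS b hbS]
  · right
    push Not at h3
    obtain ⟨c, hcS, hc0, hca, hcb, hcab⟩ := h3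
    have hc' : c ∈ (S.erase 0).erase a := by simp [hc0, hca, hcS]
    exact ⟨a, b, c, ha0, hab, lt_of_le_of_ne (((S.erase 0).erase a).min'_le _ hc') (Ne.symm hcb),
      hcS, haS, hbS, by simp [hca, hcb, hcab]⟩

namespace Coord.Pt

variable {G : Type*} [Group G] [Finite G] {z : G} {C : Coord z} {g : G} {d : Datum}
variable (h : C.Pt g) (hn : C.NoPair) (hd : Matches C d g h.mem) (hwf : d.wf = true)

include h hn hd hwf

/-- Coordinates of the members of `B`. -/
theorem BB_coord {v : ℕ} (hv : v ∈ C.im (C.BB g)) : ∃ s < 2 ^ d.bs.length, ap d.bs s = v :=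
  h.DD_coord hd hwf (Set.image_mono BB_le_DD hv)

variable {m : ℕ}

theorem mem_rad (hm : ∀ s < 2 ^ d.bs.length, (ap d.bs s ∈ C.im (C.DD g) ↔ Datum.inD m s = true))
    {s : ℕ} (hs : s < 2 ^ d.bs.length) (hs0 : s ≠ 0) (hv : ap d.bs s ∈ C.im (C.BB g)) :
    s ∈ d.rad m := by
  simp only [Datum.rad, List.mem_filter, Datum.ks, List.mem_range, List.all_eq_true, List.mem_map,
    Bool.and_eq_true, Bool.not_eq_true', bne_iff_ne]
  refine ⟨hs, ⟨⟨hs0, (hm s hs).1 (Set.image_mono BB_le_DD hv)⟩, ?_⟩, ?_⟩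
  · obtain ⟨b, hb, e⟩ := hv
    rw [← e, hd.kind, ← C.sq_one (BB_le_Q hb)]
    exact h.BB_sq hb
  · rintro w ⟨t, ⟨ht, htD⟩, rfl⟩
    obtain ⟨b, hb, e⟩ := hv
    obtain ⟨x, hx, e'⟩ := (hm t ht).2 htD
    rw [← e, ← e', hd.kind]
    exact (C.comm_iff (BB_le_Q hb) (DD_le_Q hx)).1 (h.BB_comm_DD hb hx)

theorem okB (hml : m < 2 ^ d.bs.length)
    (hm : ∀ s < 2 ^ d.bs.length, (ap d.bs s ∈ C.im (C.DD g) ↔ Datum.inD m s = true))
    {B : List ℕ} (hB : ∀ s ∈ B, s < 2 ^ d.bs.length ∧ s ≠ 0 ∧ ap d.bs s ∈ C.im (C.BB g)) :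
    d.okB (d.ks.filter d.inW) m (d.rad m) B = true := by
  have key1 : ∀ s ∈ B, m = 0 ∨ s ∉ d.ks.filter d.inW := by
    intro s hs
    by_contra hc
    push Not at hc
    obtain ⟨hm0, hw⟩ := hc
    obtain ⟨hsl, hs0, b, hb, eb⟩ := hB s hs
    simp only [List.mem_filter, Datum.ks, List.mem_range] at hw
    obtain ⟨y, hy, ey⟩ := (h.inW_iff hd hwf).1 hw.2
    obtain ⟨q1, hq1, rfl⟩ := C.π_surj y hy
    obtain ⟨i, hi⟩ := Nat.exists_testBit_of_ne_zero hm0
    have hil : i < d.bs.length := by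
      by_contra hc
      push Not at hc
      rw [Nat.testBit_lt_two_pow (lt_of_lt_of_le hml (Nat.pow_le_pow_right (by norm_num) hc))] at hi
      exact absurd hi (by simp)
    have hi' : 2 ^ i < 2 ^ d.bs.length := Nat.pow_lt_pow_right (by norm_num) hil
    obtain ⟨f0, l0, -, h8⟩ := h.wf_s hd hwf hi'
    have hnot : ap d.bs (2 ^ i) ∉ C.im (C.DD g) := by
      rw [hm _ hi']; simp [Datum.inD, par_two_pow (by omega : i < 8), hi]
    obtain ⟨q0, hq0, e0⟩ := C.π_surj _ l0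
    have k0 := h.outside hd hwf hq0 (by rw [e0]; exact f0) (by rw [e0]; exact hnot)
    obtain ⟨hcQ, hc⟩ := h.comm_q hd hwf hq1
    have hbe : C.π b = C.π (g * z * g⁻¹ * q1 * (g * z * g⁻¹)⁻¹ * q1⁻¹) := by rw [hc, ey, eb]
    have hb1 : b ≠ 1 := fun e => hs0 ((h.wf_s hd hwf hsl).2.2.1 (by rw [← eb, e, C.pi_one]))
    rcases C.pi_eq (BB_le_Q hb) hcQ hbe with e | e
    · exact hb1 (h.no_q hn hb hq1 e)
    · refine hb1 (h.no_q hn hb (mul_mem hq1 hq0) ?_)
      calc g * z * g⁻¹ * (q1 * q0) * (g * z * g⁻¹)⁻¹ * (q1 * q0)⁻¹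
          = (g * z * g⁻¹ * q1 * (g * z * g⁻¹)⁻¹ * q1⁻¹) *
              (q1 * ((g * z * g⁻¹ * q0 * (g * z * g⁻¹)⁻¹) * q0⁻¹) * q1⁻¹) := by group
        _ = b * z * (q1 * (q0 * z * q0⁻¹) * q1⁻¹) := by rw [e, k0]
        _ = b * z * (q1 * z * q1⁻¹) := by rw [C.cent_z hq0, mul_inv_cancel_right]
        _ = b * (z * z) := by rw [C.cent_z hq1, mul_inv_cancel_right, mul_assoc]
        _ = b := by rw [C.zz, mul_one]
  simp only [Datum.okB, Bool.and_eq_true, List.all_eq_true]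
  refine ⟨fun s hs => ⟨?_, ?_⟩, fun s hs t ht => ?_⟩
  · obtain ⟨hsl, hs0, hv⟩ := hB s hs
    simpa using h.mem_rad hn hd hwf hm hsl hs0 hv
  · rcases key1 s hs with e | e
    · simp [Datum.ok1, e]
    · simp only [Datum.ok1, Bool.or_eq_true, Bool.not_eq_true']
      exact Or.inr (by simpa using e)
  · by_cases hst : s = t
    · simp [hst]
    by_cases hm0 : m = 0
    swap
    · simp [Datum.ok2, hm0]
    simp only [Datum.ok2, hm0, Bool.or_eq_true, Bool.not_eq_true', beq_iff_eq, bne_self_eq_false,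
      Bool.false_eq_true, false_or, List.all_eq_true, List.mem_range, bne_iff_ne, List.contains_iff_mem]
    by_cases hws : s ∈ d.ks.filter d.inW
    swap
    · exact Or.inr (Or.inl (Or.inl (by simpa using hws)))
    by_cases hwt : t ∈ d.ks.filter d.inW
    swap
    · exact Or.inr (Or.inl (Or.inr (by simpa using hwt)))
    refine Or.inr (Or.inr fun y hy => ?_)
    by_cases ey : dif d.L y = ap d.bs s
    swap
    · exact Or.inl ey
    right
    obtain ⟨hsl, hs0, b1, hb1, eb1⟩ := hB s hs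
    obtain ⟨htl, ht0, b2, hb2, eb2⟩ := hB t ht
    simp only [List.mem_filter, Datum.ks, List.mem_range] at hwt
    obtain ⟨y2, hy2, ey2⟩ := (h.inW_iff hd hwf).1 hwt.2
    obtain ⟨q1, hq1, rfl⟩ := C.π_surj y hy
    obtain ⟨q2, hq2, rfl⟩ := C.π_surj y2 hy2
    have hne : ∀ {s : ℕ} {b : G}, s < 2 ^ d.bs.length → s ≠ 0 → C.π b = ap d.bs s → b ≠ 1 :=
      fun hl h0 eb e => h0 ((h.wf_s hd hwf hl).2.2.1 (by rw [← eb, e, C.pi_one]))
    have mk : ∀ {q b : G}, q ∈ C.Q → b ∈ C.BB g → b ≠ 1 → dif d.L (C.π q) = C.π b →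
        g * z * g⁻¹ * q * (g * z * g⁻¹)⁻¹ * q⁻¹ = b * z := by
      intro q b hq hb hb1 e
      obtain ⟨hcQ, hc⟩ := h.comm_q hd hwf hq
      rcases C.pi_eq (BB_le_Q hb) hcQ (by rw [hc, e]) with k | k
      · exact absurd (h.no_q hn hb hq k) hb1
      · exact k
    have k1 := mk hq1 hb1 (hne hsl hs0 eb1) (by rw [ey, eb1])
    have k2 := mk hq2 hb2 (hne htl ht0 eb2) (by rw [ey2, eb2])
    by_contra hbq
    have hcomm : q1 * b2 = b2 * q1 := by
      rw [C.comm_iff hq1 (BB_le_Q hb2), eb2, ← hd.kind]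
      unfold bq
      revert hbq
      cases qv d.kind (C.π q1 ^^^ ap d.bs t) <;> cases qv d.kind (C.π q1) <;>
        cases qv d.kind (ap d.bs t) <;> simp
    have hprod : b1 * b2 ≠ 1 := by
      intro e
      refine hst (h.coord_inj hd hwf hsl htl ?_)
      rw [← eb1, ← eb2, mul_eq_one_iff_eq_inv.1 e, C.pi_inv (BB_le_Q hb2)]
    refine hprod (h.no_q hn (mul_mem hb1 hb2) (mul_mem hq1 hq2) ?_)
    calc g * z * g⁻¹ * (q1 * q2) * (g * z * g⁻¹)⁻¹ * (q1 * q2)⁻¹
        = (g * z * g⁻¹ * q1 * (g * z * g⁻¹)⁻¹ * q1⁻¹) *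
            (q1 * (g * z * g⁻¹ * q2 * (g * z * g⁻¹)⁻¹ * q2⁻¹) * q1⁻¹) := by group
      _ = b1 * z * (q1 * (b2 * z) * q1⁻¹) := by rw [k1, k2]
      _ = b1 * z * (q1 * b2 * (z * q1⁻¹)) := by group
      _ = b1 * z * (b2 * (q1 * z) * q1⁻¹) := by rw [hcomm]; group
      _ = b1 * z * (b2 * z) := by rw [C.cent_z hq1]; group
      _ = b1 * (z * b2) * z := by group
      _ = b1 * (b2 * z) * z := by rw [C.cent_z (BB_le_Q hb2)]
      _ = b1 * b2 * (z * z) := by group
      _ = b1 * b2 := by rw [C.zz, mul_one]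

theorem fit (hcomp : d.Complete)
    (hm : ∀ s < 2 ^ d.bs.length, (ap d.bs s ∈ C.im (C.DD g) ↔ Datum.inD m s = true))
    {B : List ℕ} (hB : ∀ s ∈ B, s < 2 ^ d.bs.length ∧ s ≠ 0 ∧ ap d.bs s ∈ C.im (C.BB g))
    (hBall : ∀ v ∈ C.im (C.BB g), v = 0 ∨ ∃ s ∈ B, ap d.bs s = v) {x : G} (hx : x ∈ C.DP g) :
    ∃ E ∈ d.cand.filter (d.fit (d.gens m) B), E.code = key (C.ψ ⟨x, DP_le hx⟩).1 (C.ψ ⟨x, DP_le hx⟩).2 := by
  set M' := (⟨x, DP_le hx⟩ : ↥(Mz z))
  have hcu : M' * ⟨_, h.mem⟩ = (⟨_, h.mem⟩ : ↥(Mz z)) * M' := Subtype.ext (comm_u hx)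
  have hc := congrArg C.ψ hcu
  rw [map_mul, map_mul, hd.psi, Prod.ext_iff] at hc
  have hsq : C.ψ (M' * M') = 1 ∨ C.ψ (M' * M') = (d.a, d.b) := by
    rcases DP_sq hx with e | e
    · left; rw [show M' * M' = 1 from Subtype.ext e, map_one]
    · right; rw [show M' * M' = ⟨_, h.mem⟩ from Subtype.ext e, hd.psi]
  rw [map_mul, Prod.ext_iff, Prod.ext_iff] at hsq
  have hE := hcomp (C.ψ M').1 hc.1 (C.ψ M').2 hc.2 hsq
  simp only [List.any_eq_true, Bool.and_eq_true, beq_iff_eq] at hE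
  obtain ⟨E, hE, ⟨hcode, h0⟩, h1⟩ := hE
  refine ⟨E, List.mem_filter.2 ⟨hE, ?_⟩, hcode⟩
  -- the list of the element
  have hL : ∃ dd, (dd = E.d0 ∨ dd = E.d1) ∧ dd = d.bs.map (dif (C.act M')) := by
    rcases hb : C.eps M' with _ | _
    · exact ⟨_, Or.inl rfl, by rw [h0, Coord.act, hb, ← hd.kind]⟩
    · exact ⟨_, Or.inr rfl, by rw [h1, Coord.act, hb, ← hd.kind]⟩
  obtain ⟨dd, hdd, hdd'⟩ := hL
  have hlin : ∀ a b, dif (C.act M') (a ^^^ b) = dif (C.act M') a ^^^ dif (C.act M') b := by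
    intro a b
    simp only [dif, ap_xor]
    rw [Nat.xor_assoc, Nat.xor_assoc]
    congr 1
    rw [← Nat.xor_assoc, Nat.xor_comm (ap (C.act M') b) a, Nat.xor_assoc]
  have hap : ∀ s, ap dd s = dif (C.act M') (ap d.bs s) := fun s => by rw [hdd', ap_map _ _ hlin]
  have hf1 : ∀ s ∈ B, ap dd s = 0 := by
    intro s hs
    obtain ⟨-, -, b, hb, eb⟩ := hB s hs
    rw [hap, ← eb, dif, ← C.pi_conj' (DP_le hx) (BB_le_Q hb), ← h.BB_comm hb hx,
      mul_inv_cancel_right, Nat.xor_self]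
  have hf2 : ∀ s ∈ d.gens m, ap dd s = 0 ∨ ∃ t ∈ B, ap dd s = ap d.bs t := by
    intro s hs
    simp only [Datum.gens, List.mem_filter, List.mem_append, List.mem_map, List.mem_range,
      List.mem_flatMap] at hs
    obtain ⟨hs', hin⟩ := hs
    have hsl : s < 2 ^ d.bs.length := by
      rcases hs' with ⟨i, hi, rfl⟩ | ⟨_, ⟨i, hi, rfl⟩, _, ⟨j, hj, rfl⟩, rfl⟩
      · exact Nat.pow_lt_pow_right (by norm_num) hi
      · exact Nat.or_lt_two_pow (Nat.pow_lt_pow_right (by norm_num) hi)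
          (Nat.pow_lt_pow_right (by norm_num) hj)
    obtain ⟨q, hq, eq'⟩ := (hm s hsl).2 hin
    have hmem := h.comm_mem hq hx
    have : ap dd s ∈ C.im (C.BB g) := by
      refine ⟨_, hmem, ?_⟩
      rw [hap, ← eq', dif, ← C.pi_conj' (DP_le hx) (DD_le_Q hq),
        C.π_mul _ (C.conj_mem (DP_le hx) (DD_le_Q hq)) _ (inv_mem (DD_le_Q hq)),
        C.pi_inv (DD_le_Q hq)]
    rcases hBall _ this with e | ⟨t, ht, e⟩
    · exact Or.inl e
    · exact Or.inr ⟨t, ht, e.symm⟩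
  have hall : (B.all (fun s => ap dd s == 0) && (d.gens m).all fun s => ap dd s == 0 ||
      B.any fun t => ap dd s == ap d.bs t) = true := by
    simpa [List.any_eq_true] using And.intro hf1 hf2
  rcases hdd with rfl | rfl <;> simp only [Datum.fit, hall, Bool.true_or, Bool.or_true]

open Classical in
/-- The bound delivered by the check. -/
theorem bound {P : ℕ → List ℕ → List Entry → Bool} (hcomp : d.Complete) (hP : d.check P = true) :
    ∃ n B F, P n B F = true ∧ Nat.card ↥(C.DD g) = 2 * n ∧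
      Nat.card ↥(C.DP g) ≤ F.length * (B.length + 1) ∧
      (Nat.card ↥(C.DP g) = F.length * (B.length + 1) → ∀ E ∈ F, ∃ x, ∃ hx : x ∈ C.DP g,
        E.code = key (C.ψ ⟨x, DP_le hx⟩).1 (C.ψ ⟨x, DP_le hx⟩).2) := by
  obtain ⟨m, hml, hm⟩ := h.exists_m hd hwf
  simp only [Datum.check, List.all_eq_true, Datum.ks, List.mem_range, Bool.or_eq_true,
    Bool.not_eq_true', Bool.and_eq_true] at hP
  rcases hP m hml with e | ⟨h3, hB⟩
  · rw [← Bool.not_eq_true] at e
    exact absurd (by simpa [Datum.ks] using h.okM hd hwf hm) e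
  -- coordinates of `B`
  set S := (Finset.range (2 ^ d.bs.length)).filter (fun s => ap d.bs s ∈ C.im (C.BB g)) with hS
  have hS' : ∀ {s}, s ∈ S ↔ s < 2 ^ d.bs.length ∧ ap d.bs s ∈ C.im (C.BB g) := fun {s} => by simp [hS]
  have h0 : 0 ∈ S := hS'.2 ⟨Nat.two_pow_pos _, by rw [ap_zero]; exact C.im_zero _⟩
  have hxS : ∀ a ∈ S, ∀ b ∈ S, a ^^^ b ∈ S := fun a ha b hb =>
    hS'.2 ⟨xor_lt (hS'.1 ha).1 (hS'.1 hb).1, by
      rw [ap_xor]; exact C.im_xor BB_le_Q (hS'.1 ha).2 (hS'.1 hb).2⟩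
  have hcardB : Nat.card ↥(C.BB g) = S.card := by
    rw [C.card_of_notMem BB_le_Q h.z_notMem, ← Set.ncard_coe_finset S]
    refine (Set.ncard_congr (fun s _ => ap d.bs s) (fun s hs => (hS'.1 hs).2)
      (fun a b ha hb e => h.coord_inj hd hwf (hS'.1 ha).1 (hS'.1 hb).1 e) fun v hv => ?_).symm
    obtain ⟨s, hs, rfl⟩ := h.BB_coord hn hd hwf hv
    exact ⟨s, hS'.2 ⟨hs, hv⟩, rfl⟩
  obtain ⟨B, hBsub, hBlen, hBS⟩ : ∃ B : List ℕ, B ∈ Datum.subsp (d.rad m) ∧
      B.length + 1 = S.card ∧ ∀ s, (s ∈ B ↔ s ∈ S ∧ s ≠ 0) := by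
    have hR : ∀ s ∈ S, s ≠ 0 → s ∈ d.rad m := fun s hs hs0 =>
      h.mem_rad hn hd hwf hm (hS'.1 hs).1 hs0 (hS'.1 hs).2
    rcases closed_cases S h0 hxS with e | ⟨a, ha, e⟩ | ⟨a, b, ha, hab, e⟩ |
        ⟨a, b, c, ha, hab, hbc, hcS, haS, hbS, hcn⟩
    · exact ⟨[], by simp [Datum.subsp], by simp [e], fun s => by simp [e]⟩
    · refine ⟨[a], ?_, ?_, fun s => ?_⟩
      · simp [Datum.subsp, hR a (by simp [e]) ha]
      · rw [e, Finset.card_pair (Ne.symm ha)]; rfl
      · rw [e]; simp only [List.mem_singleton, Finset.mem_insert, Finset.mem_singleton]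
        constructor
        · rintro rfl; exact ⟨Or.inr rfl, ha⟩
        · rintro ⟨h' | h', h''⟩
          exacts [absurd h' h'', h']
    · have hb0 : b ≠ 0 := by omega
      have hx0 : a ^^^ b ≠ 0 := fun k => hab.ne (Nat.xor_eq_zero_iff.1 k)
      have hxa : a ^^^ b ≠ a := fun k => hb0 (by
        have := congrArg (a ^^^ ·) k; simpa [← Nat.xor_assoc] using this)
      have hxb : a ^^^ b ≠ b := fun k => ha (by
        have := congrArg (· ^^^ b) k; simpa [Nat.xor_assoc] using this)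
      refine ⟨[a, b, a ^^^ b], ?_, ?_, fun s => ?_⟩
      · simp [Datum.subsp, hR a (by simp [e]) ha, hR b (by simp [e]) hb0, hab]
      · rw [e, Finset.card_insert_of_notMem (by simp [Ne.symm ha, Ne.symm hb0, hx0.symm]),
          Finset.card_insert_of_notMem (by simp [hab.ne, hxa.symm]),
          Finset.card_pair hxb.symm]
        rfl
      · rw [e]; simp only [List.mem_cons, List.not_mem_nil, or_false, Finset.mem_insert,
          Finset.mem_singleton]
        constructor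
        · rintro (rfl | rfl | rfl) <;> simp [ha, hb0, hx0]
        · rintro ⟨h' | h', h''⟩
          exacts [absurd h' h'', h']
    · exfalso
      have hb0 : b ≠ 0 := by omega
      have hc0 : c ≠ 0 := by omega
      simp only [Datum.noThree, List.all_eq_true, Bool.or_eq_true, decide_eq_true_eq,
        Bool.not_eq_true'] at h3
      rcases h3 a (hR a haS ha) b (hR b hbS hb0) with k | k
      · omega
      rcases k c (hR c hcS hc0) with (k | k) | k
      · omega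
      · exact hcn (by simpa using k)
      rw [← Bool.not_eq_true] at k
      refine k (h.okB hn hd hwf hml hm fun s hs => ?_)
      have hsS : s ∈ S := by
        simp only [List.mem_cons, List.not_mem_nil, or_false] at hs
        rcases hs with rfl | rfl | rfl | rfl | rfl | rfl | rfl
        exacts [haS, hbS, hxS _ haS _ hbS, hcS, hxS _ haS _ hcS, hxS _ hbS _ hcS,
          hxS _ (hxS _ haS _ hbS) _ hcS]
      refine ⟨(hS'.1 hsS).1, ?_, (hS'.1 hsS).2⟩
      intro hs0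
      subst hs0
      simp only [List.mem_cons, List.not_mem_nil, or_false] at hs hcn
      rcases hs with k | k | k | k | k | k | k
      · exact ha k.symm
      · exact hb0 k.symm
      · exact hab.ne (Nat.xor_eq_zero_iff.1 k.symm)
      · exact hc0 k.symm
      · exact hcn (Or.inl (Nat.xor_eq_zero_iff.1 k.symm).symm)
      · exact hcn (Or.inr (Or.inl (Nat.xor_eq_zero_iff.1 k.symm).symm))
      · exact hcn (Or.inr (Or.inr (Nat.xor_eq_zero_iff.1 k.symm).symm))
  have hB' : ∀ s ∈ B, s < 2 ^ d.bs.length ∧ s ≠ 0 ∧ ap d.bs s ∈ C.im (C.BB g) := fun s hs =>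
    ⟨(hS'.1 ((hBS s).1 hs).1).1, ((hBS s).1 hs).2, (hS'.1 ((hBS s).1 hs).1).2⟩
  have hBall : ∀ v ∈ C.im (C.BB g), v = 0 ∨ ∃ s ∈ B, ap d.bs s = v := by
    intro v hv
    obtain ⟨s, hs, rfl⟩ := h.BB_coord hn hd hwf hv
    by_cases hs0 : s = 0
    · exact Or.inl (by rw [hs0, ap_zero])
    · exact Or.inr ⟨s, (hBS s).2 ⟨hS'.2 ⟨hs, hv⟩, hs0⟩, rfl⟩
  rcases hB B hBsub with k | k
  · rw [← Bool.not_eq_true] at k
    exact absurd (by simpa [Datum.ks] using h.okB hn hd hwf hml hm hB') k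
  refine ⟨_, B, _, k, ?_, ?_⟩
  · rw [C.card_of_mem DD_le_Q (C.z_mem_DD h.mem)]
    congr 1
    have hlist : ((List.range (2 ^ d.bs.length)).filter (Datum.inD m)).length =
        ((Finset.range (2 ^ d.bs.length)).filter fun s => Datum.inD m s = true).card := by
      rw [← List.toFinset_card_of_nodup (List.nodup_range.filter _)]
      congr 1; ext; simp
    rw [hlist, ← Set.ncard_coe_finset]
    refine (Set.ncard_congr (fun s _ => ap d.bs s) (fun s hs => ?_)
      (fun a b ha hb e => ?_) fun v hv => ?_).symm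
    · simp only [Finset.coe_filter, Finset.mem_range, Set.mem_setOf_eq] at hs
      exact (hm s hs.1).2 hs.2
    · simp only [Finset.coe_filter, Finset.mem_range, Set.mem_setOf_eq] at ha hb
      exact h.coord_inj hd hwf ha.1 hb.1 e
    · obtain ⟨s, hs, rfl⟩ := h.DD_coord hd hwf hv
      exact ⟨s, by simp [hs, (hm s hs).1 hv], rfl⟩
  set φ := C.ψ.comp (Subgroup.inclusion (DP_le (C := C) (g := g)))
  set F := d.cand.filter (d.fit (d.gens m) B) with hF
  have hsub : (fun p : Equiv.Perm (Fin 3) × Equiv.Perm (Fin 6) => key p.1 p.2) '' (φ.range : Set _) ⊆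
      ↑((F.map Entry.code).toFinset) := by
    rintro _ ⟨_, ⟨⟨x, hx⟩, rfl⟩, rfl⟩
    obtain ⟨E, hE, e⟩ := h.fit hn hd hwf hcomp hm hB' hBall hx
    simp only [List.coe_toFinset, List.mem_map, Set.mem_setOf_eq]
    exact ⟨E, hE, e⟩
  have hinj : Set.InjOn (fun p : Equiv.Perm (Fin 3) × Equiv.Perm (Fin 6) => key p.1 p.2)
      (φ.range : Set _) := fun p _ q _ e => Prod.ext (key_injective e).1 (key_injective e).2
  have hcr : Nat.card ↥φ.range ≤ F.length := by
    calc Nat.card ↥φ.range = ((fun p : Equiv.Perm (Fin 3) × Equiv.Perm (Fin 6) => key p.1 p.2) '' (φ.range : Set _)).ncard := by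
          rw [hinj.ncard_image]; exact Nat.card_coe_set_eq _
      _ ≤ ((F.map Entry.code).toFinset : Set (List ℕ)).ncard := Set.ncard_le_ncard hsub (Finset.finite_toSet _)
      _ ≤ F.length := by
          rw [Set.ncard_coe_finset]; exact (List.toFinset_card_le _).trans (List.length_map _).le
  rw [h.card_DP_eq, hcardB, ← hBlen]
  refine ⟨Nat.mul_le_mul_right _ hcr, fun heq E hE => ?_⟩
  have heq' : Nat.card ↥φ.range = F.length := Nat.eq_of_mul_eq_mul_right (Nat.succ_pos _) heq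
  have hset : (fun p : Equiv.Perm (Fin 3) × Equiv.Perm (Fin 6) => key p.1 p.2) '' (φ.range : Set _) = ↑((F.map Entry.code).toFinset) := by
    refine Set.eq_of_subset_of_ncard_le hsub ?_ (Finset.finite_toSet _)
    rw [hinj.ncard_image, Set.ncard_coe_finset, ← Nat.card_coe_set_eq]
    exact ((List.toFinset_card_le _).trans (List.length_map _).le).trans heq'.ge
  have : E.code ∈ (fun p : Equiv.Perm (Fin 3) × Equiv.Perm (Fin 6) => key p.1 p.2) '' (φ.range : Set _) := by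
    rw [hset]; simp only [List.coe_toFinset, List.mem_map, Set.mem_setOf_eq]; exact ⟨E, hE, rfl⟩
  obtain ⟨_, ⟨⟨x, hx⟩, rfl⟩, e⟩ := this
  exact ⟨x, hx, e.symm⟩

end Coord.Pt

end Cfsg.Agent.ExtraTwoNine
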