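import Mathlib
import Cfsg.Agent.Lib.ExtraTwoNine.Check

/-!
Data for the classes of involutions: bases of fixed spaces and candidates (computed outside).
-/

set_option autoImplicit false

namespace Cfsg.Agent.ExtraTwoNine

/-- tensor: a = 1, b = Equiv.swap 4 5, eps = False -/
def dT01 : Datum where
  kind := Kind.tensor
  a := 1
  b := Equiv.swap 4 5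
  e := false
  bs := [1,2,4,16,32,64]
  cand := [
    ⟨[0,1,2,0,1,2,3,4,5], [0,0,0,0,0,0], [0,0,0,0,0,0]⟩,
    ⟨[0,1,2,0,1,2,3,5,4], [0,0,0,0,0,0], [0,0,0,0,0,0]⟩,
    ⟨[0,1,2,0,1,3,2,4,5], [0,4,0,0,64,0], [0,4,0,0,64,0]⟩,
    ⟨[0,1,2,0,1,3,2,5,4], [0,4,0,0,64,0], [0,4,0,0,64,0]⟩,
    ⟨[0,1,2,0,2,1,3,4,5], [2,0,2,32,0,32], [2,0,2,32,0,32]⟩,
    ⟨[0,1,2,0,2,1,3,5,4], [2,0,2,32,0,32], [2,0,2,32,0,32]⟩,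
    ⟨[0,1,2,0,3,2,1,4,5], [6,6,6,96,96,96], [6,6,6,96,96,96]⟩,
    ⟨[0,1,2,0,3,2,1,5,4], [6,6,6,96,96,96], [6,6,6,96,96,96]⟩,
    ⟨[0,1,2,1,0,2,3,4,5], [0,1,0,0,16,0], [0,1,0,0,16,0]⟩,
    ⟨[0,1,2,1,0,2,3,5,4], [0,1,0,0,16,0], [0,1,0,0,16,0]⟩,
    ⟨[0,1,2,1,0,3,2,4,5], [0,5,0,0,80,0], [0,5,0,0,80,0]⟩,
    ⟨[0,1,2,1,0,3,2,5,4], [0,5,0,0,80,0], [0,5,0,0,80,0]⟩,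
    ⟨[0,1,2,2,1,0,3,4,5], [3,3,3,48,48,48], [3,3,3,48,48,48]⟩,
    ⟨[0,1,2,2,1,0,3,5,4], [3,3,3,48,48,48], [3,3,3,48,48,48]⟩,
    ⟨[0,1,2,2,3,0,1,4,5], [5,5,5,80,80,80], [5,5,5,80,80,80]⟩,
    ⟨[0,1,2,2,3,0,1,5,4], [5,5,5,80,80,80], [5,5,5,80,80,80]⟩,
    ⟨[0,1,2,3,1,2,0,4,5], [7,0,7,112,0,112], [7,0,7,112,0,112]⟩,
    ⟨[0,1,2,3,1,2,0,5,4], [7,0,7,112,0,112], [7,0,7,112,0,112]⟩,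
    ⟨[0,1,2,3,2,1,0,4,5], [5,0,5,80,0,80], [5,0,5,80,0,80]⟩,
    ⟨[0,1,2,3,2,1,0,5,4], [5,0,5,80,0,80], [5,0,5,80,0,80]⟩,
    ⟨[0,2,1,0,1,2,3,4,5], [0,0,0,1,2,4], [0,0,0,1,2,4]⟩,
    ⟨[0,2,1,0,1,2,3,5,4], [0,0,0,1,2,4], [0,0,0,1,2,4]⟩,
    ⟨[0,2,1,0,1,3,2,4,5], [0,4,0,1,70,4], [0,4,0,1,70,4]⟩,
    ⟨[0,2,1,0,1,3,2,5,4], [0,4,0,1,70,4], [0,4,0,1,70,4]⟩,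
    ⟨[0,2,1,0,2,1,3,4,5], [2,0,2,35,2,38], [2,0,2,35,2,38]⟩,
    ⟨[0,2,1,0,2,1,3,5,4], [2,0,2,35,2,38], [2,0,2,35,2,38]⟩,
    ⟨[0,2,1,0,3,2,1,4,5], [6,6,6,103,100,98], [6,6,6,103,100,98]⟩,
    ⟨[0,2,1,0,3,2,1,5,4], [6,6,6,103,100,98], [6,6,6,103,100,98]⟩,
    ⟨[0,2,1,1,0,2,3,4,5], [0,1,0,1,19,4], [0,1,0,1,19,4]⟩,
    ⟨[0,2,1,1,0,2,3,5,4], [0,1,0,1,19,4], [0,1,0,1,19,4]⟩,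
    ⟨[0,2,1,1,0,3,2,4,5], [0,5,0,1,87,4], [0,5,0,1,87,4]⟩,
    ⟨[0,2,1,1,0,3,2,5,4], [0,5,0,1,87,4], [0,5,0,1,87,4]⟩,
    ⟨[0,2,1,2,1,0,3,4,5], [3,3,3,50,49,55], [3,3,3,50,49,55]⟩,
    ⟨[0,2,1,2,1,0,3,5,4], [3,3,3,50,49,55], [3,3,3,50,49,55]⟩,
    ⟨[0,2,1,2,3,0,1,4,5], [5,5,5,84,87,81], [5,5,5,84,87,81]⟩,
    ⟨[0,2,1,2,3,0,1,5,4], [5,5,5,84,87,81], [5,5,5,84,87,81]⟩,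
    ⟨[0,2,1,3,1,2,0,4,5], [7,0,7,118,2,115], [7,0,7,118,2,115]⟩,
    ⟨[0,2,1,3,1,2,0,5,4], [7,0,7,118,2,115], [7,0,7,118,2,115]⟩,
    ⟨[0,2,1,3,2,1,0,4,5], [5,0,5,84,2,81], [5,0,5,84,2,81]⟩,
    ⟨[0,2,1,3,2,1,0,5,4], [5,0,5,84,2,81], [5,0,5,84,2,81]⟩,
    ⟨[1,0,2,0,1,2,3,4,5], [17,34,68,17,34,68], [17,34,68,17,34,68]⟩,
    ⟨[1,0,2,0,1,2,3,5,4], [17,34,68,17,34,68], [17,34,68,17,34,68]⟩,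
    ⟨[1,0,2,0,1,3,2,4,5], [17,98,68,17,38,68], [17,98,68,17,38,68]⟩,
    ⟨[1,0,2,0,1,3,2,5,4], [17,98,68,17,38,68], [17,98,68,17,38,68]⟩,
    ⟨[1,0,2,0,2,1,3,4,5], [49,34,100,19,34,70], [49,34,100,19,34,70]⟩,
    ⟨[1,0,2,0,2,1,3,5,4], [49,34,100,19,34,70], [49,34,100,19,34,70]⟩,
    ⟨[1,0,2,0,3,2,1,4,5], [113,66,36,23,36,66], [113,66,36,23,36,66]⟩,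
    ⟨[1,0,2,0,3,2,1,5,4], [113,66,36,23,36,66], [113,66,36,23,36,66]⟩,
    ⟨[1,0,2,1,0,2,3,4,5], [17,50,68,17,35,68], [17,50,68,17,35,68]⟩,
    ⟨[1,0,2,1,0,2,3,5,4], [17,50,68,17,35,68], [17,50,68,17,35,68]⟩,
    ⟨[1,0,2,1,0,3,2,4,5], [17,114,68,17,39,68], [17,114,68,17,39,68]⟩,
    ⟨[1,0,2,1,0,3,2,5,4], [17,114,68,17,39,68], [17,114,68,17,39,68]⟩,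
    ⟨[1,0,2,2,1,0,3,4,5], [33,18,116,18,33,71], [33,18,116,18,33,71]⟩,
    ⟨[1,0,2,2,1,0,3,5,4], [33,18,116,18,33,71], [33,18,116,18,33,71]⟩,
    ⟨[1,0,2,2,3,0,1,4,5], [65,114,20,20,39,65], [65,114,20,20,39,65]⟩,
    ⟨[1,0,2,2,3,0,1,5,4], [65,114,20,20,39,65], [65,114,20,20,39,65]⟩,
    ⟨[1,0,2,3,1,2,0,4,5], [97,34,52,22,34,67], [97,34,52,22,34,67]⟩,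
    ⟨[1,0,2,3,1,2,0,5,4], [97,34,52,22,34,67], [97,34,52,22,34,67]⟩,
    ⟨[1,0,2,3,2,1,0,4,5], [65,34,20,20,34,65], [65,34,20,20,34,65]⟩,
    ⟨[1,0,2,3,2,1,0,5,4], [65,34,20,20,34,65], [65,34,20,20,34,65]⟩,
    ⟨[2,1,0,0,1,2,3,4,5], [16,32,64,0,0,0], [16,32,64,0,0,0]⟩,
    ⟨[2,1,0,0,1,2,3,5,4], [16,32,64,0,0,0], [16,32,64,0,0,0]⟩,
    ⟨[2,1,0,0,1,3,2,4,5], [16,100,64,0,64,0], [16,100,64,0,64,0]⟩,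
    ⟨[2,1,0,0,1,3,2,5,4], [16,100,64,0,64,0], [16,100,64,0,64,0]⟩,
    ⟨[2,1,0,0,2,1,3,4,5], [50,32,98,32,0,32], [50,32,98,32,0,32]⟩,
    ⟨[2,1,0,0,2,1,3,5,4], [50,32,98,32,0,32], [50,32,98,32,0,32]⟩,
    ⟨[2,1,0,0,3,2,1,4,5], [118,70,38,96,96,96], [118,70,38,96,96,96]⟩,
    ⟨[2,1,0,0,3,2,1,5,4], [118,70,38,96,96,96], [118,70,38,96,96,96]⟩,
    ⟨[2,1,0,1,0,2,3,4,5], [16,49,64,0,16,0], [16,49,64,0,16,0]⟩,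
    ⟨[2,1,0,1,0,2,3,5,4], [16,49,64,0,16,0], [16,49,64,0,16,0]⟩,
    ⟨[2,1,0,1,0,3,2,4,5], [16,117,64,0,80,0], [16,117,64,0,80,0]⟩,
    ⟨[2,1,0,1,0,3,2,5,4], [16,117,64,0,80,0], [16,117,64,0,80,0]⟩,
    ⟨[2,1,0,2,1,0,3,4,5], [35,19,115,48,48,48], [35,19,115,48,48,48]⟩,
    ⟨[2,1,0,2,1,0,3,5,4], [35,19,115,48,48,48], [35,19,115,48,48,48]⟩,
    ⟨[2,1,0,2,3,0,1,4,5], [69,117,21,80,80,80], [69,117,21,80,80,80]⟩,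
    ⟨[2,1,0,2,3,0,1,5,4], [69,117,21,80,80,80], [69,117,21,80,80,80]⟩,
    ⟨[2,1,0,3,1,2,0,4,5], [103,32,55,112,0,112], [103,32,55,112,0,112]⟩,
    ⟨[2,1,0,3,1,2,0,5,4], [103,32,55,112,0,112], [103,32,55,112,0,112]⟩,
    ⟨[2,1,0,3,2,1,0,4,5], [69,32,21,80,0,80], [69,32,21,80,0,80]⟩,
    ⟨[2,1,0,3,2,1,0,5,4], [69,32,21,80,0,80], [69,32,21,80,0,80]⟩]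

/-- tensor: a = 1, b = Equiv.swap 2 3 * Equiv.swap 4 5, eps = False -/
def dT02 : Datum where
  kind := Kind.tensor
  a := 1
  b := Equiv.swap 2 3 * Equiv.swap 4 5
  e := false
  bs := [1,4,16,64]
  cand := [
    ⟨[0,1,2,0,1,2,3,4,5], [0,0,0,0], [0,0,0,0]⟩,
    ⟨[0,1,2,0,1,2,3,5,4], [0,0,0,0], [0,0,0,0]⟩,
    ⟨[0,1,2,0,1,3,2,4,5], [0,0,0,0], [0,0,0,0]⟩,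
    ⟨[0,1,2,0,1,3,2,5,4], [0,0,0,0], [0,0,0,0]⟩,
    ⟨[0,1,2,0,1,4,5,2,3], [0,1,0,16], [0,1,0,16]⟩,
    ⟨[0,1,2,0,1,4,5,3,2], [0,1,0,16], [0,1,0,16]⟩,
    ⟨[0,1,2,0,1,5,4,2,3], [0,1,0,16], [0,1,0,16]⟩,
    ⟨[0,1,2,0,1,5,4,3,2], [0,1,0,16], [0,1,0,16]⟩,
    ⟨[0,1,2,1,0,2,3,4,5], [0,0,0,0], [0,0,0,0]⟩,
    ⟨[0,1,2,1,0,2,3,5,4], [0,0,0,0], [0,0,0,0]⟩,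
    ⟨[0,1,2,1,0,3,2,4,5], [0,0,0,0], [0,0,0,0]⟩,
    ⟨[0,1,2,1,0,3,2,5,4], [0,0,0,0], [0,0,0,0]⟩,
    ⟨[0,1,2,1,0,4,5,2,3], [0,1,0,16], [0,1,0,16]⟩,
    ⟨[0,1,2,1,0,4,5,3,2], [0,1,0,16], [0,1,0,16]⟩,
    ⟨[0,1,2,1,0,5,4,2,3], [0,1,0,16], [0,1,0,16]⟩,
    ⟨[0,1,2,1,0,5,4,3,2], [0,1,0,16], [0,1,0,16]⟩,
    ⟨[0,2,1,0,1,2,3,4,5], [0,0,1,4], [0,0,1,4]⟩,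
    ⟨[0,2,1,0,1,2,3,5,4], [0,0,1,4], [0,0,1,4]⟩,
    ⟨[0,2,1,0,1,3,2,4,5], [0,0,1,4], [0,0,1,4]⟩,
    ⟨[0,2,1,0,1,3,2,5,4], [0,0,1,4], [0,0,1,4]⟩,
    ⟨[0,2,1,0,1,4,5,2,3], [0,1,1,21], [0,1,1,21]⟩,
    ⟨[0,2,1,0,1,4,5,3,2], [0,1,1,21], [0,1,1,21]⟩,
    ⟨[0,2,1,0,1,5,4,2,3], [0,1,1,21], [0,1,1,21]⟩,
    ⟨[0,2,1,0,1,5,4,3,2], [0,1,1,21], [0,1,1,21]⟩,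
    ⟨[0,2,1,1,0,2,3,4,5], [0,0,1,4], [0,0,1,4]⟩,
    ⟨[0,2,1,1,0,2,3,5,4], [0,0,1,4], [0,0,1,4]⟩,
    ⟨[0,2,1,1,0,3,2,4,5], [0,0,1,4], [0,0,1,4]⟩,
    ⟨[0,2,1,1,0,3,2,5,4], [0,0,1,4], [0,0,1,4]⟩,
    ⟨[0,2,1,1,0,4,5,2,3], [0,1,1,21], [0,1,1,21]⟩,
    ⟨[0,2,1,1,0,4,5,3,2], [0,1,1,21], [0,1,1,21]⟩,
    ⟨[0,2,1,1,0,5,4,2,3], [0,1,1,21], [0,1,1,21]⟩,
    ⟨[0,2,1,1,0,5,4,3,2], [0,1,1,21], [0,1,1,21]⟩,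
    ⟨[1,0,2,0,1,2,3,4,5], [17,68,17,68], [17,68,17,68]⟩,
    ⟨[1,0,2,0,1,2,3,5,4], [17,68,17,68], [17,68,17,68]⟩,
    ⟨[1,0,2,0,1,3,2,4,5], [17,68,17,68], [17,68,17,68]⟩,
    ⟨[1,0,2,0,1,3,2,5,4], [17,68,17,68], [17,68,17,68]⟩,
    ⟨[1,0,2,0,1,4,5,2,3], [17,84,17,69], [17,84,17,69]⟩,
    ⟨[1,0,2,0,1,4,5,3,2], [17,84,17,69], [17,84,17,69]⟩,
    ⟨[1,0,2,0,1,5,4,2,3], [17,84,17,69], [17,84,17,69]⟩,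
    ⟨[1,0,2,0,1,5,4,3,2], [17,84,17,69], [17,84,17,69]⟩,
    ⟨[1,0,2,1,0,2,3,4,5], [17,68,17,68], [17,68,17,68]⟩,
    ⟨[1,0,2,1,0,2,3,5,4], [17,68,17,68], [17,68,17,68]⟩,
    ⟨[1,0,2,1,0,3,2,4,5], [17,68,17,68], [17,68,17,68]⟩,
    ⟨[1,0,2,1,0,3,2,5,4], [17,68,17,68], [17,68,17,68]⟩,
    ⟨[1,0,2,1,0,4,5,2,3], [17,84,17,69], [17,84,17,69]⟩,
    ⟨[1,0,2,1,0,4,5,3,2], [17,84,17,69], [17,84,17,69]⟩,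
    ⟨[1,0,2,1,0,5,4,2,3], [17,84,17,69], [17,84,17,69]⟩,
    ⟨[1,0,2,1,0,5,4,3,2], [17,84,17,69], [17,84,17,69]⟩,
    ⟨[2,1,0,0,1,2,3,4,5], [16,64,0,0], [16,64,0,0]⟩,
    ⟨[2,1,0,0,1,2,3,5,4], [16,64,0,0], [16,64,0,0]⟩,
    ⟨[2,1,0,0,1,3,2,4,5], [16,64,0,0], [16,64,0,0]⟩,
    ⟨[2,1,0,0,1,3,2,5,4], [16,64,0,0], [16,64,0,0]⟩,
    ⟨[2,1,0,0,1,4,5,2,3], [16,81,0,16], [16,81,0,16]⟩,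
    ⟨[2,1,0,0,1,4,5,3,2], [16,81,0,16], [16,81,0,16]⟩,
    ⟨[2,1,0,0,1,5,4,2,3], [16,81,0,16], [16,81,0,16]⟩,
    ⟨[2,1,0,0,1,5,4,3,2], [16,81,0,16], [16,81,0,16]⟩,
    ⟨[2,1,0,1,0,2,3,4,5], [16,64,0,0], [16,64,0,0]⟩,
    ⟨[2,1,0,1,0,2,3,5,4], [16,64,0,0], [16,64,0,0]⟩,
    ⟨[2,1,0,1,0,3,2,4,5], [16,64,0,0], [16,64,0,0]⟩,
    ⟨[2,1,0,1,0,3,2,5,4], [16,64,0,0], [16,64,0,0]⟩,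
    ⟨[2,1,0,1,0,4,5,2,3], [16,81,0,16], [16,81,0,16]⟩,
    ⟨[2,1,0,1,0,4,5,3,2], [16,81,0,16], [16,81,0,16]⟩,
    ⟨[2,1,0,1,0,5,4,2,3], [16,81,0,16], [16,81,0,16]⟩,
    ⟨[2,1,0,1,0,5,4,3,2], [16,81,0,16], [16,81,0,16]⟩]

/-- tensor: a = 1, b = Equiv.swap 0 1 * Equiv.swap 2 3 * Equiv.swap 4 5, eps = False -/
def dT03 : Datum where
  kind := Kind.tensor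
  a := 1
  b := Equiv.swap 0 1 * Equiv.swap 2 3 * Equiv.swap 4 5
  e := false
  bs := [1,4,16,64]
  cand := [
    ⟨[0,1,2,0,1,2,3,4,5], [0,0,0,0], [0,0,0,0]⟩,
    ⟨[0,1,2,0,1,2,3,5,4], [0,0,0,0], [0,0,0,0]⟩,
    ⟨[0,1,2,0,1,3,2,4,5], [0,0,0,0], [0,0,0,0]⟩,
    ⟨[0,1,2,0,1,3,2,5,4], [0,0,0,0], [0,0,0,0]⟩,
    ⟨[0,1,2,0,1,4,5,2,3], [0,1,0,16], [0,1,0,16]⟩,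
    ⟨[0,1,2,0,1,5,4,3,2], [0,1,0,16], [0,1,0,16]⟩,
    ⟨[0,1,2,1,0,2,3,4,5], [0,0,0,0], [0,0,0,0]⟩,
    ⟨[0,1,2,1,0,2,3,5,4], [0,0,0,0], [0,0,0,0]⟩,
    ⟨[0,1,2,1,0,3,2,4,5], [0,0,0,0], [0,0,0,0]⟩,
    ⟨[0,1,2,1,0,3,2,5,4], [0,0,0,0], [0,0,0,0]⟩,
    ⟨[0,1,2,1,0,4,5,2,3], [0,1,0,16], [0,1,0,16]⟩,
    ⟨[0,1,2,1,0,5,4,3,2], [0,1,0,16], [0,1,0,16]⟩,
    ⟨[0,1,2,2,3,0,1,4,5], [5,5,80,80], [5,5,80,80]⟩,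
    ⟨[0,1,2,2,3,0,1,5,4], [5,5,80,80], [5,5,80,80]⟩,
    ⟨[0,1,2,3,2,1,0,4,5], [5,5,80,80], [5,5,80,80]⟩,
    ⟨[0,1,2,3,2,1,0,5,4], [5,5,80,80], [5,5,80,80]⟩,
    ⟨[0,1,2,4,5,2,3,0,1], [4,0,64,0], [4,0,64,0]⟩,
    ⟨[0,1,2,4,5,3,2,0,1], [4,0,64,0], [4,0,64,0]⟩,
    ⟨[0,1,2,5,4,2,3,1,0], [4,0,64,0], [4,0,64,0]⟩,
    ⟨[0,1,2,5,4,3,2,1,0], [4,0,64,0], [4,0,64,0]⟩,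
    ⟨[0,2,1,0,1,2,3,4,5], [0,0,1,4], [0,0,1,4]⟩,
    ⟨[0,2,1,0,1,2,3,5,4], [0,0,1,4], [0,0,1,4]⟩,
    ⟨[0,2,1,0,1,3,2,4,5], [0,0,1,4], [0,0,1,4]⟩,
    ⟨[0,2,1,0,1,3,2,5,4], [0,0,1,4], [0,0,1,4]⟩,
    ⟨[0,2,1,0,1,4,5,2,3], [0,1,1,21], [0,1,1,21]⟩,
    ⟨[0,2,1,0,1,5,4,3,2], [0,1,1,21], [0,1,1,21]⟩,
    ⟨[0,2,1,1,0,2,3,4,5], [0,0,1,4], [0,0,1,4]⟩,
    ⟨[0,2,1,1,0,2,3,5,4], [0,0,1,4], [0,0,1,4]⟩,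
    ⟨[0,2,1,1,0,3,2,4,5], [0,0,1,4], [0,0,1,4]⟩,
    ⟨[0,2,1,1,0,3,2,5,4], [0,0,1,4], [0,0,1,4]⟩,
    ⟨[0,2,1,1,0,4,5,2,3], [0,1,1,21], [0,1,1,21]⟩,
    ⟨[0,2,1,1,0,5,4,3,2], [0,1,1,21], [0,1,1,21]⟩,
    ⟨[0,2,1,2,3,0,1,4,5], [5,5,84,81], [5,5,84,81]⟩,
    ⟨[0,2,1,2,3,0,1,5,4], [5,5,84,81], [5,5,84,81]⟩,
    ⟨[0,2,1,3,2,1,0,4,5], [5,5,84,81], [5,5,84,81]⟩,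
    ⟨[0,2,1,3,2,1,0,5,4], [5,5,84,81], [5,5,84,81]⟩,
    ⟨[0,2,1,4,5,2,3,0,1], [4,0,69,4], [4,0,69,4]⟩,
    ⟨[0,2,1,4,5,3,2,0,1], [4,0,69,4], [4,0,69,4]⟩,
    ⟨[0,2,1,5,4,2,3,1,0], [4,0,69,4], [4,0,69,4]⟩,
    ⟨[0,2,1,5,4,3,2,1,0], [4,0,69,4], [4,0,69,4]⟩,
    ⟨[1,0,2,0,1,2,3,4,5], [17,68,17,68], [17,68,17,68]⟩,
    ⟨[1,0,2,0,1,2,3,5,4], [17,68,17,68], [17,68,17,68]⟩,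
    ⟨[1,0,2,0,1,3,2,4,5], [17,68,17,68], [17,68,17,68]⟩,
    ⟨[1,0,2,0,1,3,2,5,4], [17,68,17,68], [17,68,17,68]⟩,
    ⟨[1,0,2,0,1,4,5,2,3], [17,84,17,69], [17,84,17,69]⟩,
    ⟨[1,0,2,0,1,5,4,3,2], [17,84,17,69], [17,84,17,69]⟩,
    ⟨[1,0,2,1,0,2,3,4,5], [17,68,17,68], [17,68,17,68]⟩,
    ⟨[1,0,2,1,0,2,3,5,4], [17,68,17,68], [17,68,17,68]⟩,
    ⟨[1,0,2,1,0,3,2,4,5], [17,68,17,68], [17,68,17,68]⟩,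
    ⟨[1,0,2,1,0,3,2,5,4], [17,68,17,68], [17,68,17,68]⟩,
    ⟨[1,0,2,1,0,4,5,2,3], [17,84,17,69], [17,84,17,69]⟩,
    ⟨[1,0,2,1,0,5,4,3,2], [17,84,17,69], [17,84,17,69]⟩,
    ⟨[1,0,2,2,3,0,1,4,5], [65,20,20,65], [65,20,20,65]⟩,
    ⟨[1,0,2,2,3,0,1,5,4], [65,20,20,65], [65,20,20,65]⟩,
    ⟨[1,0,2,3,2,1,0,4,5], [65,20,20,65], [65,20,20,65]⟩,
    ⟨[1,0,2,3,2,1,0,5,4], [65,20,20,65], [65,20,20,65]⟩,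
    ⟨[1,0,2,4,5,2,3,0,1], [81,68,21,68], [81,68,21,68]⟩,
    ⟨[1,0,2,4,5,3,2,0,1], [81,68,21,68], [81,68,21,68]⟩,
    ⟨[1,0,2,5,4,2,3,1,0], [81,68,21,68], [81,68,21,68]⟩,
    ⟨[1,0,2,5,4,3,2,1,0], [81,68,21,68], [81,68,21,68]⟩,
    ⟨[2,1,0,0,1,2,3,4,5], [16,64,0,0], [16,64,0,0]⟩,
    ⟨[2,1,0,0,1,2,3,5,4], [16,64,0,0], [16,64,0,0]⟩,
    ⟨[2,1,0,0,1,3,2,4,5], [16,64,0,0], [16,64,0,0]⟩,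
    ⟨[2,1,0,0,1,3,2,5,4], [16,64,0,0], [16,64,0,0]⟩,
    ⟨[2,1,0,0,1,4,5,2,3], [16,81,0,16], [16,81,0,16]⟩,
    ⟨[2,1,0,0,1,5,4,3,2], [16,81,0,16], [16,81,0,16]⟩,
    ⟨[2,1,0,1,0,2,3,4,5], [16,64,0,0], [16,64,0,0]⟩,
    ⟨[2,1,0,1,0,2,3,5,4], [16,64,0,0], [16,64,0,0]⟩,
    ⟨[2,1,0,1,0,3,2,4,5], [16,64,0,0], [16,64,0,0]⟩,
    ⟨[2,1,0,1,0,3,2,5,4], [16,64,0,0], [16,64,0,0]⟩,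
    ⟨[2,1,0,1,0,4,5,2,3], [16,81,0,16], [16,81,0,16]⟩,
    ⟨[2,1,0,1,0,5,4,3,2], [16,81,0,16], [16,81,0,16]⟩,
    ⟨[2,1,0,2,3,0,1,4,5], [69,21,80,80], [69,21,80,80]⟩,
    ⟨[2,1,0,2,3,0,1,5,4], [69,21,80,80], [69,21,80,80]⟩,
    ⟨[2,1,0,3,2,1,0,4,5], [69,21,80,80], [69,21,80,80]⟩,
    ⟨[2,1,0,3,2,1,0,5,4], [69,21,80,80], [69,21,80,80]⟩,
    ⟨[2,1,0,4,5,2,3,0,1], [84,64,64,0], [84,64,64,0]⟩,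
    ⟨[2,1,0,4,5,3,2,0,1], [84,64,64,0], [84,64,64,0]⟩,
    ⟨[2,1,0,5,4,2,3,1,0], [84,64,64,0], [84,64,64,0]⟩,
    ⟨[2,1,0,5,4,3,2,1,0], [84,64,64,0], [84,64,64,0]⟩]

/-- tensor: a = Equiv.swap 1 2, b = 1, eps = False -/
def dT10 : Datum where
  kind := Kind.tensor
  a := Equiv.swap 1 2
  b := 1
  e := false
  bs := [1,2,4,8]
  cand := [
    ⟨[0,1,2,0,1,2,3,4,5], [0,0,0,0], [0,0,0,0]⟩,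
    ⟨[0,1,2,0,1,2,3,5,4], [0,0,0,5], [0,0,0,5]⟩,
    ⟨[0,1,2,0,1,2,4,3,5], [0,0,8,0], [0,0,8,0]⟩,
    ⟨[0,1,2,0,1,2,5,4,3], [0,0,13,13], [0,0,13,13]⟩,
    ⟨[0,1,2,0,1,3,2,4,5], [0,4,0,4], [0,4,0,4]⟩,
    ⟨[0,1,2,0,1,3,2,5,4], [0,4,0,1], [0,4,0,1]⟩,
    ⟨[0,1,2,0,1,4,3,2,5], [0,12,12,12], [0,12,12,12]⟩,
    ⟨[0,1,2,0,1,4,5,2,3], [0,12,1,1], [0,12,1,1]⟩,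
    ⟨[0,1,2,0,1,5,3,4,2], [0,9,9,0], [0,9,9,0]⟩,
    ⟨[0,1,2,0,1,5,4,3,2], [0,9,1,0], [0,9,1,0]⟩,
    ⟨[0,1,2,0,2,1,3,4,5], [2,0,2,0], [2,0,2,0]⟩,
    ⟨[0,1,2,0,2,1,3,5,4], [2,0,2,5], [2,0,2,5]⟩,
    ⟨[0,1,2,0,2,1,4,3,5], [2,0,10,0], [2,0,10,0]⟩,
    ⟨[0,1,2,0,2,1,5,4,3], [2,0,15,13], [2,0,15,13]⟩,
    ⟨[0,1,2,0,3,2,1,4,5], [6,6,6,6], [6,6,6,6]⟩,
    ⟨[0,1,2,0,3,2,1,5,4], [6,6,6,3], [6,6,6,3]⟩,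
    ⟨[0,1,2,0,3,4,1,2,5], [6,10,10,10], [6,10,10,10]⟩,
    ⟨[0,1,2,0,3,5,1,4,2], [6,15,15,6], [6,15,15,6]⟩,
    ⟨[0,1,2,0,4,2,3,1,5], [14,14,0,14], [14,14,0,14]⟩,
    ⟨[0,1,2,0,4,2,5,1,3], [14,14,13,3], [14,14,13,3]⟩,
    ⟨[0,1,2,0,4,3,2,1,5], [14,10,0,10], [14,10,0,10]⟩,
    ⟨[0,1,2,0,4,5,3,1,2], [14,7,9,14], [14,7,9,14]⟩,
    ⟨[0,1,2,0,5,2,3,4,1], [11,11,0,0], [11,11,0,0]⟩,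
    ⟨[0,1,2,0,5,2,4,3,1], [11,11,8,0], [11,11,8,0]⟩,
    ⟨[0,1,2,0,5,3,2,4,1], [11,15,0,4], [11,15,0,4]⟩,
    ⟨[0,1,2,0,5,4,3,2,1], [11,7,12,12], [11,7,12,12]⟩,
    ⟨[0,1,2,1,0,2,3,4,5], [0,1,0,0], [0,1,0,0]⟩,
    ⟨[0,1,2,1,0,2,3,5,4], [0,1,0,5], [0,1,0,5]⟩,
    ⟨[0,1,2,1,0,2,4,3,5], [0,1,8,0], [0,1,8,0]⟩,
    ⟨[0,1,2,1,0,2,5,4,3], [0,1,13,13], [0,1,13,13]⟩,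
    ⟨[0,1,2,1,0,3,2,4,5], [0,5,0,4], [0,5,0,4]⟩,
    ⟨[0,1,2,1,0,3,2,5,4], [0,5,0,1], [0,5,0,1]⟩,
    ⟨[0,1,2,1,0,4,3,2,5], [0,13,12,12], [0,13,12,12]⟩,
    ⟨[0,1,2,1,0,4,5,2,3], [0,13,1,1], [0,13,1,1]⟩,
    ⟨[0,1,2,1,0,5,3,4,2], [0,8,9,0], [0,8,9,0]⟩,
    ⟨[0,1,2,1,0,5,4,3,2], [0,8,1,0], [0,8,1,0]⟩,
    ⟨[0,1,2,2,1,0,3,4,5], [3,3,3,0], [3,3,3,0]⟩,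
    ⟨[0,1,2,2,1,0,3,5,4], [3,3,3,5], [3,3,3,5]⟩,
    ⟨[0,1,2,2,1,0,4,3,5], [3,3,11,0], [3,3,11,0]⟩,
    ⟨[0,1,2,2,1,0,5,4,3], [3,3,14,13], [3,3,14,13]⟩,
    ⟨[0,1,2,2,3,0,1,4,5], [5,5,5,6], [5,5,5,6]⟩,
    ⟨[0,1,2,2,3,0,1,5,4], [5,5,5,3], [5,5,5,3]⟩,
    ⟨[0,1,2,2,4,0,3,1,5], [13,13,3,14], [13,13,3,14]⟩,
    ⟨[0,1,2,2,4,0,5,1,3], [13,13,14,3], [13,13,14,3]⟩,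
    ⟨[0,1,2,2,5,0,3,4,1], [8,8,3,0], [8,8,3,0]⟩,
    ⟨[0,1,2,2,5,0,4,3,1], [8,8,11,0], [8,8,11,0]⟩,
    ⟨[0,1,2,3,1,2,0,4,5], [7,0,7,7], [7,0,7,7]⟩,
    ⟨[0,1,2,3,1,2,0,5,4], [7,0,7,2], [7,0,7,2]⟩,
    ⟨[0,1,2,3,1,4,0,2,5], [7,12,11,11], [7,12,11,11]⟩,
    ⟨[0,1,2,3,1,5,0,4,2], [7,9,14,7], [7,9,14,7]⟩,
    ⟨[0,1,2,3,2,1,0,4,5], [5,0,5,7], [5,0,5,7]⟩,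
    ⟨[0,1,2,3,2,1,0,5,4], [5,0,5,2], [5,0,5,2]⟩,
    ⟨[0,1,2,3,4,2,0,1,5], [9,14,7,9], [9,14,7,9]⟩,
    ⟨[0,1,2,3,4,5,0,1,2], [9,7,14,9], [9,7,14,9]⟩,
    ⟨[0,1,2,3,5,2,0,4,1], [12,11,7,7], [12,11,7,7]⟩,
    ⟨[0,1,2,3,5,4,0,2,1], [12,7,11,11], [12,7,11,11]⟩,
    ⟨[0,1,2,4,1,2,3,0,5], [15,0,0,15], [15,0,0,15]⟩,
    ⟨[0,1,2,4,1,2,5,0,3], [15,0,13,2], [15,0,13,2]⟩,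
    ⟨[0,1,2,4,1,3,2,0,5], [15,4,0,11], [15,4,0,11]⟩,
    ⟨[0,1,2,4,1,5,3,0,2], [15,9,9,15], [15,9,9,15]⟩,
    ⟨[0,1,2,4,2,1,3,0,5], [13,0,2,15], [13,0,2,15]⟩,
    ⟨[0,1,2,4,2,1,5,0,3], [13,0,15,2], [13,0,15,2]⟩,
    ⟨[0,1,2,4,3,2,1,0,5], [9,6,6,9], [9,6,6,9]⟩,
    ⟨[0,1,2,4,3,5,1,0,2], [9,15,15,9], [9,15,15,9]⟩,
    ⟨[0,1,2,4,5,2,3,0,1], [4,11,0,15], [4,11,0,15]⟩,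
    ⟨[0,1,2,4,5,3,2,0,1], [4,15,0,11], [4,15,0,11]⟩,
    ⟨[0,1,2,5,1,2,3,4,0], [10,0,0,0], [10,0,0,0]⟩,
    ⟨[0,1,2,5,1,2,4,3,0], [10,0,8,0], [10,0,8,0]⟩,
    ⟨[0,1,2,5,1,3,2,4,0], [10,4,0,4], [10,4,0,4]⟩,
    ⟨[0,1,2,5,1,4,3,2,0], [10,12,12,12], [10,12,12,12]⟩,
    ⟨[0,1,2,5,2,1,3,4,0], [8,0,2,0], [8,0,2,0]⟩,
    ⟨[0,1,2,5,2,1,4,3,0], [8,0,10,0], [8,0,10,0]⟩,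
    ⟨[0,1,2,5,3,2,1,4,0], [12,6,6,6], [12,6,6,6]⟩,
    ⟨[0,1,2,5,3,4,1,2,0], [12,10,10,10], [12,10,10,10]⟩,
    ⟨[0,1,2,5,4,2,3,1,0], [4,14,0,14], [4,14,0,14]⟩,
    ⟨[0,1,2,5,4,3,2,1,0], [4,10,0,10], [4,10,0,10]⟩,
    ⟨[0,2,1,0,1,2,3,4,5], [0,0,0,0], [0,0,0,0]⟩,
    ⟨[0,2,1,0,1,2,3,5,4], [0,0,0,5], [0,0,0,5]⟩,
    ⟨[0,2,1,0,1,2,4,3,5], [0,0,8,0], [0,0,8,0]⟩,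
    ⟨[0,2,1,0,1,2,5,4,3], [0,0,13,13], [0,0,13,13]⟩,
    ⟨[0,2,1,0,1,3,2,4,5], [0,4,0,4], [0,4,0,4]⟩,
    ⟨[0,2,1,0,1,3,2,5,4], [0,4,0,1], [0,4,0,1]⟩,
    ⟨[0,2,1,0,1,4,3,2,5], [0,12,12,12], [0,12,12,12]⟩,
    ⟨[0,2,1,0,1,4,5,2,3], [0,12,1,1], [0,12,1,1]⟩,
    ⟨[0,2,1,0,1,5,3,4,2], [0,9,9,0], [0,9,9,0]⟩,
    ⟨[0,2,1,0,1,5,4,3,2], [0,9,1,0], [0,9,1,0]⟩,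
    ⟨[0,2,1,0,2,1,3,4,5], [2,0,2,0], [2,0,2,0]⟩,
    ⟨[0,2,1,0,2,1,3,5,4], [2,0,2,5], [2,0,2,5]⟩,
    ⟨[0,2,1,0,2,1,4,3,5], [2,0,10,0], [2,0,10,0]⟩,
    ⟨[0,2,1,0,2,1,5,4,3], [2,0,15,13], [2,0,15,13]⟩,
    ⟨[0,2,1,0,3,2,1,4,5], [6,6,6,6], [6,6,6,6]⟩,
    ⟨[0,2,1,0,3,2,1,5,4], [6,6,6,3], [6,6,6,3]⟩,
    ⟨[0,2,1,0,3,4,1,2,5], [6,10,10,10], [6,10,10,10]⟩,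
    ⟨[0,2,1,0,3,5,1,4,2], [6,15,15,6], [6,15,15,6]⟩,
    ⟨[0,2,1,0,4,2,3,1,5], [14,14,0,14], [14,14,0,14]⟩,
    ⟨[0,2,1,0,4,2,5,1,3], [14,14,13,3], [14,14,13,3]⟩,
    ⟨[0,2,1,0,4,3,2,1,5], [14,10,0,10], [14,10,0,10]⟩,
    ⟨[0,2,1,0,4,5,3,1,2], [14,7,9,14], [14,7,9,14]⟩,
    ⟨[0,2,1,0,5,2,3,4,1], [11,11,0,0], [11,11,0,0]⟩,
    ⟨[0,2,1,0,5,2,4,3,1], [11,11,8,0], [11,11,8,0]⟩,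
    ⟨[0,2,1,0,5,3,2,4,1], [11,15,0,4], [11,15,0,4]⟩,
    ⟨[0,2,1,0,5,4,3,2,1], [11,7,12,12], [11,7,12,12]⟩,
    ⟨[0,2,1,1,0,2,3,4,5], [0,1,0,0], [0,1,0,0]⟩,
    ⟨[0,2,1,1,0,2,3,5,4], [0,1,0,5], [0,1,0,5]⟩,
    ⟨[0,2,1,1,0,2,4,3,5], [0,1,8,0], [0,1,8,0]⟩,
    ⟨[0,2,1,1,0,2,5,4,3], [0,1,13,13], [0,1,13,13]⟩,
    ⟨[0,2,1,1,0,3,2,4,5], [0,5,0,4], [0,5,0,4]⟩,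
    ⟨[0,2,1,1,0,3,2,5,4], [0,5,0,1], [0,5,0,1]⟩,
    ⟨[0,2,1,1,0,4,3,2,5], [0,13,12,12], [0,13,12,12]⟩,
    ⟨[0,2,1,1,0,4,5,2,3], [0,13,1,1], [0,13,1,1]⟩,
    ⟨[0,2,1,1,0,5,3,4,2], [0,8,9,0], [0,8,9,0]⟩,
    ⟨[0,2,1,1,0,5,4,3,2], [0,8,1,0], [0,8,1,0]⟩,
    ⟨[0,2,1,2,1,0,3,4,5], [3,3,3,0], [3,3,3,0]⟩,
    ⟨[0,2,1,2,1,0,3,5,4], [3,3,3,5], [3,3,3,5]⟩,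
    ⟨[0,2,1,2,1,0,4,3,5], [3,3,11,0], [3,3,11,0]⟩,
    ⟨[0,2,1,2,1,0,5,4,3], [3,3,14,13], [3,3,14,13]⟩,
    ⟨[0,2,1,2,3,0,1,4,5], [5,5,5,6], [5,5,5,6]⟩,
    ⟨[0,2,1,2,3,0,1,5,4], [5,5,5,3], [5,5,5,3]⟩,
    ⟨[0,2,1,2,4,0,3,1,5], [13,13,3,14], [13,13,3,14]⟩,
    ⟨[0,2,1,2,4,0,5,1,3], [13,13,14,3], [13,13,14,3]⟩,
    ⟨[0,2,1,2,5,0,3,4,1], [8,8,3,0], [8,8,3,0]⟩,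
    ⟨[0,2,1,2,5,0,4,3,1], [8,8,11,0], [8,8,11,0]⟩,
    ⟨[0,2,1,3,1,2,0,4,5], [7,0,7,7], [7,0,7,7]⟩,
    ⟨[0,2,1,3,1,2,0,5,4], [7,0,7,2], [7,0,7,2]⟩,
    ⟨[0,2,1,3,1,4,0,2,5], [7,12,11,11], [7,12,11,11]⟩,
    ⟨[0,2,1,3,1,5,0,4,2], [7,9,14,7], [7,9,14,7]⟩,
    ⟨[0,2,1,3,2,1,0,4,5], [5,0,5,7], [5,0,5,7]⟩,
    ⟨[0,2,1,3,2,1,0,5,4], [5,0,5,2], [5,0,5,2]⟩,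
    ⟨[0,2,1,3,4,2,0,1,5], [9,14,7,9], [9,14,7,9]⟩,
    ⟨[0,2,1,3,4,5,0,1,2], [9,7,14,9], [9,7,14,9]⟩,
    ⟨[0,2,1,3,5,2,0,4,1], [12,11,7,7], [12,11,7,7]⟩,
    ⟨[0,2,1,3,5,4,0,2,1], [12,7,11,11], [12,7,11,11]⟩,
    ⟨[0,2,1,4,1,2,3,0,5], [15,0,0,15], [15,0,0,15]⟩,
    ⟨[0,2,1,4,1,2,5,0,3], [15,0,13,2], [15,0,13,2]⟩,
    ⟨[0,2,1,4,1,3,2,0,5], [15,4,0,11], [15,4,0,11]⟩,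
    ⟨[0,2,1,4,1,5,3,0,2], [15,9,9,15], [15,9,9,15]⟩,
    ⟨[0,2,1,4,2,1,3,0,5], [13,0,2,15], [13,0,2,15]⟩,
    ⟨[0,2,1,4,2,1,5,0,3], [13,0,15,2], [13,0,15,2]⟩,
    ⟨[0,2,1,4,3,2,1,0,5], [9,6,6,9], [9,6,6,9]⟩,
    ⟨[0,2,1,4,3,5,1,0,2], [9,15,15,9], [9,15,15,9]⟩,
    ⟨[0,2,1,4,5,2,3,0,1], [4,11,0,15], [4,11,0,15]⟩,
    ⟨[0,2,1,4,5,3,2,0,1], [4,15,0,11], [4,15,0,11]⟩,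
    ⟨[0,2,1,5,1,2,3,4,0], [10,0,0,0], [10,0,0,0]⟩,
    ⟨[0,2,1,5,1,2,4,3,0], [10,0,8,0], [10,0,8,0]⟩,
    ⟨[0,2,1,5,1,3,2,4,0], [10,4,0,4], [10,4,0,4]⟩,
    ⟨[0,2,1,5,1,4,3,2,0], [10,12,12,12], [10,12,12,12]⟩,
    ⟨[0,2,1,5,2,1,3,4,0], [8,0,2,0], [8,0,2,0]⟩,
    ⟨[0,2,1,5,2,1,4,3,0], [8,0,10,0], [8,0,10,0]⟩,
    ⟨[0,2,1,5,3,2,1,4,0], [12,6,6,6], [12,6,6,6]⟩,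
    ⟨[0,2,1,5,3,4,1,2,0], [12,10,10,10], [12,10,10,10]⟩,
    ⟨[0,2,1,5,4,2,3,1,0], [4,14,0,14], [4,14,0,14]⟩,
    ⟨[0,2,1,5,4,3,2,1,0], [4,10,0,10], [4,10,0,10]⟩]

/-- tensor: a = Equiv.swap 1 2, b = Equiv.swap 4 5, eps = False -/
def dT11 : Datum where
  kind := Kind.tensor
  a := Equiv.swap 1 2
  b := Equiv.swap 4 5
  e := false
  bs := [1,2,4,88]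
  cand := [
    ⟨[0,1,2,0,1,2,3,4,5], [0,0,0,0], [0,0,0,0]⟩,
    ⟨[0,1,2,0,1,2,3,5,4], [0,0,0,5], [0,0,0,5]⟩,
    ⟨[0,1,2,0,1,3,2,4,5], [0,4,0,4], [0,4,0,4]⟩,
    ⟨[0,1,2,0,1,3,2,5,4], [0,4,0,1], [0,4,0,1]⟩,
    ⟨[0,1,2,0,2,1,3,4,5], [2,0,2,0], [2,0,2,0]⟩,
    ⟨[0,1,2,0,2,1,3,5,4], [2,0,2,5], [2,0,2,5]⟩,
    ⟨[0,1,2,0,3,2,1,4,5], [6,6,6,6], [6,6,6,6]⟩,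
    ⟨[0,1,2,0,3,2,1,5,4], [6,6,6,3], [6,6,6,3]⟩,
    ⟨[0,1,2,1,0,2,3,4,5], [0,1,0,0], [0,1,0,0]⟩,
    ⟨[0,1,2,1,0,2,3,5,4], [0,1,0,5], [0,1,0,5]⟩,
    ⟨[0,1,2,1,0,3,2,4,5], [0,5,0,4], [0,5,0,4]⟩,
    ⟨[0,1,2,1,0,3,2,5,4], [0,5,0,1], [0,5,0,1]⟩,
    ⟨[0,1,2,2,1,0,3,4,5], [3,3,3,0], [3,3,3,0]⟩,
    ⟨[0,1,2,2,1,0,3,5,4], [3,3,3,5], [3,3,3,5]⟩,
    ⟨[0,1,2,2,3,0,1,4,5], [5,5,5,6], [5,5,5,6]⟩,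
    ⟨[0,1,2,2,3,0,1,5,4], [5,5,5,3], [5,5,5,3]⟩,
    ⟨[0,1,2,3,1,2,0,4,5], [7,0,7,7], [7,0,7,7]⟩,
    ⟨[0,1,2,3,1,2,0,5,4], [7,0,7,2], [7,0,7,2]⟩,
    ⟨[0,1,2,3,2,1,0,4,5], [5,0,5,7], [5,0,5,7]⟩,
    ⟨[0,1,2,3,2,1,0,5,4], [5,0,5,2], [5,0,5,2]⟩,
    ⟨[0,2,1,0,1,2,3,4,5], [0,0,0,5], [0,0,0,5]⟩,
    ⟨[0,2,1,0,1,2,3,5,4], [0,0,0,0], [0,0,0,0]⟩,
    ⟨[0,2,1,0,1,3,2,4,5], [0,4,0,1], [0,4,0,1]⟩,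
    ⟨[0,2,1,0,1,3,2,5,4], [0,4,0,4], [0,4,0,4]⟩,
    ⟨[0,2,1,0,2,1,3,4,5], [2,0,2,5], [2,0,2,5]⟩,
    ⟨[0,2,1,0,2,1,3,5,4], [2,0,2,0], [2,0,2,0]⟩,
    ⟨[0,2,1,0,3,2,1,4,5], [6,6,6,3], [6,6,6,3]⟩,
    ⟨[0,2,1,0,3,2,1,5,4], [6,6,6,6], [6,6,6,6]⟩,
    ⟨[0,2,1,1,0,2,3,4,5], [0,1,0,5], [0,1,0,5]⟩,
    ⟨[0,2,1,1,0,2,3,5,4], [0,1,0,0], [0,1,0,0]⟩,
    ⟨[0,2,1,1,0,3,2,4,5], [0,5,0,1], [0,5,0,1]⟩,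
    ⟨[0,2,1,1,0,3,2,5,4], [0,5,0,4], [0,5,0,4]⟩,
    ⟨[0,2,1,2,1,0,3,4,5], [3,3,3,5], [3,3,3,5]⟩,
    ⟨[0,2,1,2,1,0,3,5,4], [3,3,3,0], [3,3,3,0]⟩,
    ⟨[0,2,1,2,3,0,1,4,5], [5,5,5,3], [5,5,5,3]⟩,
    ⟨[0,2,1,2,3,0,1,5,4], [5,5,5,6], [5,5,5,6]⟩,
    ⟨[0,2,1,3,1,2,0,4,5], [7,0,7,2], [7,0,7,2]⟩,
    ⟨[0,2,1,3,1,2,0,5,4], [7,0,7,7], [7,0,7,7]⟩,
    ⟨[0,2,1,3,2,1,0,4,5], [5,0,5,2], [5,0,5,2]⟩,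
    ⟨[0,2,1,3,2,1,0,5,4], [5,0,5,7], [5,0,5,7]⟩]

/-- tensor: a = Equiv.swap 1 2, b = Equiv.swap 2 3 * Equiv.swap 4 5, eps = False -/
def dT12 : Datum where
  kind := Kind.tensor
  a := Equiv.swap 1 2
  b := Equiv.swap 2 3 * Equiv.swap 4 5
  e := false
  bs := [1,4,24,66]
  cand := [
    ⟨[0,1,2,0,1,2,3,4,5], [0,0,0,0], [0,0,0,0]⟩,
    ⟨[0,1,2,0,1,2,3,5,4], [0,0,5,0], [0,0,5,0]⟩,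
    ⟨[0,1,2,0,1,3,2,4,5], [0,0,4,4], [0,0,4,4]⟩,
    ⟨[0,1,2,0,1,3,2,5,4], [0,0,1,4], [0,0,1,4]⟩,
    ⟨[0,1,2,0,1,4,5,2,3], [0,1,1,28], [0,1,1,28]⟩,
    ⟨[0,1,2,0,1,5,4,3,2], [0,1,0,25], [0,1,0,25]⟩,
    ⟨[0,1,2,1,0,2,3,4,5], [0,0,0,1], [0,0,0,1]⟩,
    ⟨[0,1,2,1,0,2,3,5,4], [0,0,5,1], [0,0,5,1]⟩,
    ⟨[0,1,2,1,0,3,2,4,5], [0,0,4,5], [0,0,4,5]⟩,
    ⟨[0,1,2,1,0,3,2,5,4], [0,0,1,5], [0,0,1,5]⟩,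
    ⟨[0,1,2,1,0,4,5,2,3], [0,1,1,29], [0,1,1,29]⟩,
    ⟨[0,1,2,1,0,5,4,3,2], [0,1,0,24], [0,1,0,24]⟩,
    ⟨[0,2,1,0,1,2,3,4,5], [0,0,1,4], [0,0,1,4]⟩,
    ⟨[0,2,1,0,1,2,3,5,4], [0,0,4,4], [0,0,4,4]⟩,
    ⟨[0,2,1,0,1,3,2,4,5], [0,0,5,0], [0,0,5,0]⟩,
    ⟨[0,2,1,0,1,3,2,5,4], [0,0,0,0], [0,0,0,0]⟩,
    ⟨[0,2,1,0,1,4,5,2,3], [0,1,0,25], [0,1,0,25]⟩,
    ⟨[0,2,1,0,1,5,4,3,2], [0,1,1,28], [0,1,1,28]⟩,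
    ⟨[0,2,1,1,0,2,3,4,5], [0,0,1,5], [0,0,1,5]⟩,
    ⟨[0,2,1,1,0,2,3,5,4], [0,0,4,5], [0,0,4,5]⟩,
    ⟨[0,2,1,1,0,3,2,4,5], [0,0,5,1], [0,0,5,1]⟩,
    ⟨[0,2,1,1,0,3,2,5,4], [0,0,0,1], [0,0,0,1]⟩,
    ⟨[0,2,1,1,0,4,5,2,3], [0,1,0,24], [0,1,0,24]⟩,
    ⟨[0,2,1,1,0,5,4,3,2], [0,1,1,29], [0,1,1,29]⟩]

/-- tensor: a = Equiv.swap 1 2, b = Equiv.swap 0 1 * Equiv.swap 2 3 * Equiv.swap 4 5, eps = False -/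
def dT13 : Datum where
  kind := Kind.tensor
  a := Equiv.swap 1 2
  b := Equiv.swap 0 1 * Equiv.swap 2 3 * Equiv.swap 4 5
  e := false
  bs := [1,4,24,74]
  cand := [
    ⟨[0,1,2,0,1,2,3,4,5], [0,0,0,0], [0,0,0,0]⟩,
    ⟨[0,1,2,0,1,2,3,5,4], [0,0,5,5], [0,0,5,5]⟩,
    ⟨[0,1,2,0,1,3,2,4,5], [0,0,4,0], [0,0,4,0]⟩,
    ⟨[0,1,2,0,1,3,2,5,4], [0,0,1,5], [0,0,1,5]⟩,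
    ⟨[0,1,2,0,1,4,5,2,3], [0,1,1,29], [0,1,1,29]⟩,
    ⟨[0,1,2,0,1,5,4,3,2], [0,1,0,25], [0,1,0,25]⟩,
    ⟨[0,1,2,1,0,2,3,4,5], [0,0,0,1], [0,0,0,1]⟩,
    ⟨[0,1,2,1,0,2,3,5,4], [0,0,5,4], [0,0,5,4]⟩,
    ⟨[0,1,2,1,0,3,2,4,5], [0,0,4,1], [0,0,4,1]⟩,
    ⟨[0,1,2,1,0,3,2,5,4], [0,0,1,4], [0,0,1,4]⟩,
    ⟨[0,1,2,1,0,4,5,2,3], [0,1,1,28], [0,1,1,28]⟩,
    ⟨[0,1,2,1,0,5,4,3,2], [0,1,0,24], [0,1,0,24]⟩,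
    ⟨[0,1,2,2,3,0,1,4,5], [5,5,86,83], [5,5,86,83]⟩,
    ⟨[0,1,2,2,3,0,1,5,4], [5,5,83,86], [5,5,83,86]⟩,
    ⟨[0,1,2,3,2,1,0,4,5], [5,5,87,87], [5,5,87,87]⟩,
    ⟨[0,1,2,3,2,1,0,5,4], [5,5,82,82], [5,5,82,82]⟩,
    ⟨[0,1,2,4,5,2,3,0,1], [4,0,79,4], [4,0,79,4]⟩,
    ⟨[0,1,2,4,5,3,2,0,1], [4,0,75,4], [4,0,75,4]⟩,
    ⟨[0,1,2,5,4,2,3,1,0], [4,0,78,0], [4,0,78,0]⟩,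
    ⟨[0,1,2,5,4,3,2,1,0], [4,0,74,0], [4,0,74,0]⟩,
    ⟨[0,2,1,0,1,2,3,4,5], [0,0,1,4], [0,0,1,4]⟩,
    ⟨[0,2,1,0,1,2,3,5,4], [0,0,4,1], [0,0,4,1]⟩,
    ⟨[0,2,1,0,1,3,2,4,5], [0,0,5,4], [0,0,5,4]⟩,
    ⟨[0,2,1,0,1,3,2,5,4], [0,0,0,1], [0,0,0,1]⟩,
    ⟨[0,2,1,0,1,4,5,2,3], [0,1,0,24], [0,1,0,24]⟩,
    ⟨[0,2,1,0,1,5,4,3,2], [0,1,1,28], [0,1,1,28]⟩,
    ⟨[0,2,1,1,0,2,3,4,5], [0,0,1,5], [0,0,1,5]⟩,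
    ⟨[0,2,1,1,0,2,3,5,4], [0,0,4,0], [0,0,4,0]⟩,
    ⟨[0,2,1,1,0,3,2,4,5], [0,0,5,5], [0,0,5,5]⟩,
    ⟨[0,2,1,1,0,3,2,5,4], [0,0,0,0], [0,0,0,0]⟩,
    ⟨[0,2,1,1,0,4,5,2,3], [0,1,0,25], [0,1,0,25]⟩,
    ⟨[0,2,1,1,0,5,4,3,2], [0,1,1,29], [0,1,1,29]⟩,
    ⟨[0,2,1,2,3,0,1,4,5], [5,5,82,82], [5,5,82,82]⟩,
    ⟨[0,2,1,2,3,0,1,5,4], [5,5,87,87], [5,5,87,87]⟩,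
    ⟨[0,2,1,3,2,1,0,4,5], [5,5,83,86], [5,5,83,86]⟩,
    ⟨[0,2,1,3,2,1,0,5,4], [5,5,86,83], [5,5,86,83]⟩,
    ⟨[0,2,1,4,5,2,3,0,1], [4,0,74,0], [4,0,74,0]⟩,
    ⟨[0,2,1,4,5,3,2,0,1], [4,0,78,0], [4,0,78,0]⟩,
    ⟨[0,2,1,5,4,2,3,1,0], [4,0,75,4], [4,0,75,4]⟩,
    ⟨[0,2,1,5,4,3,2,1,0], [4,0,79,4], [4,0,79,4]⟩]

/-- sum false: a = 1, b = Equiv.swap 4 5, eps = False -/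
def dF01n : Datum where
  kind := Kind.sum false
  a := 1
  b := Equiv.swap 4 5
  e := false
  bs := [1,2,4,8,48,64,128]
  cand := [
    ⟨[0,1,2,0,1,2,3,4,5], [0,0,0,0,0,0,0], [63,63,63,63,0,0,0]⟩,
    ⟨[0,1,2,0,1,2,3,5,4], [0,0,0,0,0,0,0], [63,63,63,63,0,0,0]⟩,
    ⟨[0,1,2,0,1,3,2,4,5], [0,0,12,12,0,0,0], [63,63,51,51,0,0,0]⟩,
    ⟨[0,1,2,0,1,3,2,5,4], [0,0,12,12,0,0,0], [63,63,51,51,0,0,0]⟩,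
    ⟨[0,1,2,0,2,1,3,4,5], [0,6,6,0,0,0,0], [63,57,57,63,0,0,0]⟩,
    ⟨[0,1,2,0,2,1,3,5,4], [0,6,6,0,0,0,0], [63,57,57,63,0,0,0]⟩,
    ⟨[0,1,2,0,3,2,1,4,5], [0,10,0,10,0,0,0], [63,53,63,53,0,0,0]⟩,
    ⟨[0,1,2,0,3,2,1,5,4], [0,10,0,10,0,0,0], [63,53,63,53,0,0,0]⟩,
    ⟨[0,1,2,1,0,2,3,4,5], [3,3,0,0,0,0,0], [60,60,63,63,0,0,0]⟩,
    ⟨[0,1,2,1,0,2,3,5,4], [3,3,0,0,0,0,0], [60,60,63,63,0,0,0]⟩,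
    ⟨[0,1,2,1,0,3,2,4,5], [3,3,12,12,0,0,0], [60,60,51,51,0,0,0]⟩,
    ⟨[0,1,2,1,0,3,2,5,4], [3,3,12,12,0,0,0], [60,60,51,51,0,0,0]⟩,
    ⟨[0,1,2,2,1,0,3,4,5], [5,0,5,0,0,0,0], [58,63,58,63,0,0,0]⟩,
    ⟨[0,1,2,2,1,0,3,5,4], [5,0,5,0,0,0,0], [58,63,58,63,0,0,0]⟩,
    ⟨[0,1,2,2,3,0,1,4,5], [5,10,5,10,0,0,0], [58,53,58,53,0,0,0]⟩,
    ⟨[0,1,2,2,3,0,1,5,4], [5,10,5,10,0,0,0], [58,53,58,53,0,0,0]⟩,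
    ⟨[0,1,2,3,1,2,0,4,5], [9,0,0,9,0,0,0], [54,63,63,54,0,0,0]⟩,
    ⟨[0,1,2,3,1,2,0,5,4], [9,0,0,9,0,0,0], [54,63,63,54,0,0,0]⟩,
    ⟨[0,1,2,3,2,1,0,4,5], [9,6,6,9,0,0,0], [54,57,57,54,0,0,0]⟩,
    ⟨[0,1,2,3,2,1,0,5,4], [9,6,6,9,0,0,0], [54,57,57,54,0,0,0]⟩,
    ⟨[0,2,1,0,1,2,3,4,5], [0,0,0,0,0,0,64], [63,63,63,63,0,0,64]⟩,
    ⟨[0,2,1,0,1,2,3,5,4], [0,0,0,0,0,0,64], [63,63,63,63,0,0,64]⟩,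
    ⟨[0,2,1,0,1,3,2,4,5], [0,0,12,12,0,0,64], [63,63,51,51,0,0,64]⟩,
    ⟨[0,2,1,0,1,3,2,5,4], [0,0,12,12,0,0,64], [63,63,51,51,0,0,64]⟩,
    ⟨[0,2,1,0,2,1,3,4,5], [0,6,6,0,0,0,64], [63,57,57,63,0,0,64]⟩,
    ⟨[0,2,1,0,2,1,3,5,4], [0,6,6,0,0,0,64], [63,57,57,63,0,0,64]⟩,
    ⟨[0,2,1,0,3,2,1,4,5], [0,10,0,10,0,0,64], [63,53,63,53,0,0,64]⟩,
    ⟨[0,2,1,0,3,2,1,5,4], [0,10,0,10,0,0,64], [63,53,63,53,0,0,64]⟩,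
    ⟨[0,2,1,1,0,2,3,4,5], [3,3,0,0,0,0,64], [60,60,63,63,0,0,64]⟩,
    ⟨[0,2,1,1,0,2,3,5,4], [3,3,0,0,0,0,64], [60,60,63,63,0,0,64]⟩,
    ⟨[0,2,1,1,0,3,2,4,5], [3,3,12,12,0,0,64], [60,60,51,51,0,0,64]⟩,
    ⟨[0,2,1,1,0,3,2,5,4], [3,3,12,12,0,0,64], [60,60,51,51,0,0,64]⟩,
    ⟨[0,2,1,2,1,0,3,4,5], [5,0,5,0,0,0,64], [58,63,58,63,0,0,64]⟩,
    ⟨[0,2,1,2,1,0,3,5,4], [5,0,5,0,0,0,64], [58,63,58,63,0,0,64]⟩,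
    ⟨[0,2,1,2,3,0,1,4,5], [5,10,5,10,0,0,64], [58,53,58,53,0,0,64]⟩,
    ⟨[0,2,1,2,3,0,1,5,4], [5,10,5,10,0,0,64], [58,53,58,53,0,0,64]⟩,
    ⟨[0,2,1,3,1,2,0,4,5], [9,0,0,9,0,0,64], [54,63,63,54,0,0,64]⟩,
    ⟨[0,2,1,3,1,2,0,5,4], [9,0,0,9,0,0,64], [54,63,63,54,0,0,64]⟩,
    ⟨[0,2,1,3,2,1,0,4,5], [9,6,6,9,0,0,64], [54,57,57,54,0,0,64]⟩,
    ⟨[0,2,1,3,2,1,0,5,4], [9,6,6,9,0,0,64], [54,57,57,54,0,0,64]⟩,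
    ⟨[1,0,2,0,1,2,3,4,5], [0,0,0,0,0,192,192], [63,63,63,63,0,192,192]⟩,
    ⟨[1,0,2,0,1,2,3,5,4], [0,0,0,0,0,192,192], [63,63,63,63,0,192,192]⟩,
    ⟨[1,0,2,0,1,3,2,4,5], [0,0,12,12,0,192,192], [63,63,51,51,0,192,192]⟩,
    ⟨[1,0,2,0,1,3,2,5,4], [0,0,12,12,0,192,192], [63,63,51,51,0,192,192]⟩,
    ⟨[1,0,2,0,2,1,3,4,5], [0,6,6,0,0,192,192], [63,57,57,63,0,192,192]⟩,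
    ⟨[1,0,2,0,2,1,3,5,4], [0,6,6,0,0,192,192], [63,57,57,63,0,192,192]⟩,
    ⟨[1,0,2,0,3,2,1,4,5], [0,10,0,10,0,192,192], [63,53,63,53,0,192,192]⟩,
    ⟨[1,0,2,0,3,2,1,5,4], [0,10,0,10,0,192,192], [63,53,63,53,0,192,192]⟩,
    ⟨[1,0,2,1,0,2,3,4,5], [3,3,0,0,0,192,192], [60,60,63,63,0,192,192]⟩,
    ⟨[1,0,2,1,0,2,3,5,4], [3,3,0,0,0,192,192], [60,60,63,63,0,192,192]⟩,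
    ⟨[1,0,2,1,0,3,2,4,5], [3,3,12,12,0,192,192], [60,60,51,51,0,192,192]⟩,
    ⟨[1,0,2,1,0,3,2,5,4], [3,3,12,12,0,192,192], [60,60,51,51,0,192,192]⟩,
    ⟨[1,0,2,2,1,0,3,4,5], [5,0,5,0,0,192,192], [58,63,58,63,0,192,192]⟩,
    ⟨[1,0,2,2,1,0,3,5,4], [5,0,5,0,0,192,192], [58,63,58,63,0,192,192]⟩,
    ⟨[1,0,2,2,3,0,1,4,5], [5,10,5,10,0,192,192], [58,53,58,53,0,192,192]⟩,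
    ⟨[1,0,2,2,3,0,1,5,4], [5,10,5,10,0,192,192], [58,53,58,53,0,192,192]⟩,
    ⟨[1,0,2,3,1,2,0,4,5], [9,0,0,9,0,192,192], [54,63,63,54,0,192,192]⟩,
    ⟨[1,0,2,3,1,2,0,5,4], [9,0,0,9,0,192,192], [54,63,63,54,0,192,192]⟩,
    ⟨[1,0,2,3,2,1,0,4,5], [9,6,6,9,0,192,192], [54,57,57,54,0,192,192]⟩,
    ⟨[1,0,2,3,2,1,0,5,4], [9,6,6,9,0,192,192], [54,57,57,54,0,192,192]⟩,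
    ⟨[2,1,0,0,1,2,3,4,5], [0,0,0,0,0,128,0], [63,63,63,63,0,128,0]⟩,
    ⟨[2,1,0,0,1,2,3,5,4], [0,0,0,0,0,128,0], [63,63,63,63,0,128,0]⟩,
    ⟨[2,1,0,0,1,3,2,4,5], [0,0,12,12,0,128,0], [63,63,51,51,0,128,0]⟩,
    ⟨[2,1,0,0,1,3,2,5,4], [0,0,12,12,0,128,0], [63,63,51,51,0,128,0]⟩,
    ⟨[2,1,0,0,2,1,3,4,5], [0,6,6,0,0,128,0], [63,57,57,63,0,128,0]⟩,
    ⟨[2,1,0,0,2,1,3,5,4], [0,6,6,0,0,128,0], [63,57,57,63,0,128,0]⟩,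
    ⟨[2,1,0,0,3,2,1,4,5], [0,10,0,10,0,128,0], [63,53,63,53,0,128,0]⟩,
    ⟨[2,1,0,0,3,2,1,5,4], [0,10,0,10,0,128,0], [63,53,63,53,0,128,0]⟩,
    ⟨[2,1,0,1,0,2,3,4,5], [3,3,0,0,0,128,0], [60,60,63,63,0,128,0]⟩,
    ⟨[2,1,0,1,0,2,3,5,4], [3,3,0,0,0,128,0], [60,60,63,63,0,128,0]⟩,
    ⟨[2,1,0,1,0,3,2,4,5], [3,3,12,12,0,128,0], [60,60,51,51,0,128,0]⟩,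
    ⟨[2,1,0,1,0,3,2,5,4], [3,3,12,12,0,128,0], [60,60,51,51,0,128,0]⟩,
    ⟨[2,1,0,2,1,0,3,4,5], [5,0,5,0,0,128,0], [58,63,58,63,0,128,0]⟩,
    ⟨[2,1,0,2,1,0,3,5,4], [5,0,5,0,0,128,0], [58,63,58,63,0,128,0]⟩,
    ⟨[2,1,0,2,3,0,1,4,5], [5,10,5,10,0,128,0], [58,53,58,53,0,128,0]⟩,
    ⟨[2,1,0,2,3,0,1,5,4], [5,10,5,10,0,128,0], [58,53,58,53,0,128,0]⟩,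
    ⟨[2,1,0,3,1,2,0,4,5], [9,0,0,9,0,128,0], [54,63,63,54,0,128,0]⟩,
    ⟨[2,1,0,3,1,2,0,5,4], [9,0,0,9,0,128,0], [54,63,63,54,0,128,0]⟩,
    ⟨[2,1,0,3,2,1,0,4,5], [9,6,6,9,0,128,0], [54,57,57,54,0,128,0]⟩,
    ⟨[2,1,0,3,2,1,0,5,4], [9,6,6,9,0,128,0], [54,57,57,54,0,128,0]⟩]

/-- sum false: a = 1, b = Equiv.swap 4 5, eps = True -/
def dF01e : Datum where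
  kind := Kind.sum false
  a := 1
  b := Equiv.swap 4 5
  e := true
  bs := [3,5,9,48,64,128]
  cand := [
    ⟨[0,1,2,0,1,2,3,4,5], [0,0,0,0,0,0], [0,0,0,0,0,0]⟩,
    ⟨[0,1,2,0,1,2,3,5,4], [0,0,0,0,0,0], [0,0,0,0,0,0]⟩,
    ⟨[0,1,2,0,1,3,2,4,5], [0,12,12,0,0,0], [0,12,12,0,0,0]⟩,
    ⟨[0,1,2,0,1,3,2,5,4], [0,12,12,0,0,0], [0,12,12,0,0,0]⟩,
    ⟨[0,1,2,0,2,1,3,4,5], [6,6,0,0,0,0], [6,6,0,0,0,0]⟩,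
    ⟨[0,1,2,0,2,1,3,5,4], [6,6,0,0,0,0], [6,6,0,0,0,0]⟩,
    ⟨[0,1,2,0,3,2,1,4,5], [10,0,10,0,0,0], [10,0,10,0,0,0]⟩,
    ⟨[0,1,2,0,3,2,1,5,4], [10,0,10,0,0,0], [10,0,10,0,0,0]⟩,
    ⟨[0,1,2,1,0,2,3,4,5], [0,3,3,0,0,0], [0,3,3,0,0,0]⟩,
    ⟨[0,1,2,1,0,2,3,5,4], [0,3,3,0,0,0], [0,3,3,0,0,0]⟩,
    ⟨[0,1,2,1,0,3,2,4,5], [0,15,15,0,0,0], [0,15,15,0,0,0]⟩,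
    ⟨[0,1,2,1,0,3,2,5,4], [0,15,15,0,0,0], [0,15,15,0,0,0]⟩,
    ⟨[0,1,2,2,1,0,3,4,5], [5,0,5,0,0,0], [5,0,5,0,0,0]⟩,
    ⟨[0,1,2,2,1,0,3,5,4], [5,0,5,0,0,0], [5,0,5,0,0,0]⟩,
    ⟨[0,1,2,2,3,0,1,4,5], [15,0,15,0,0,0], [15,0,15,0,0,0]⟩,
    ⟨[0,1,2,2,3,0,1,5,4], [15,0,15,0,0,0], [15,0,15,0,0,0]⟩,
    ⟨[0,1,2,3,1,2,0,4,5], [9,9,0,0,0,0], [9,9,0,0,0,0]⟩,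
    ⟨[0,1,2,3,1,2,0,5,4], [9,9,0,0,0,0], [9,9,0,0,0,0]⟩,
    ⟨[0,1,2,3,2,1,0,4,5], [15,15,0,0,0,0], [15,15,0,0,0,0]⟩,
    ⟨[0,1,2,3,2,1,0,5,4], [15,15,0,0,0,0], [15,15,0,0,0,0]⟩,
    ⟨[0,2,1,0,1,2,3,4,5], [0,0,0,0,0,64], [0,0,0,0,0,64]⟩,
    ⟨[0,2,1,0,1,2,3,5,4], [0,0,0,0,0,64], [0,0,0,0,0,64]⟩,
    ⟨[0,2,1,0,1,3,2,4,5], [0,12,12,0,0,64], [0,12,12,0,0,64]⟩,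
    ⟨[0,2,1,0,1,3,2,5,4], [0,12,12,0,0,64], [0,12,12,0,0,64]⟩,
    ⟨[0,2,1,0,2,1,3,4,5], [6,6,0,0,0,64], [6,6,0,0,0,64]⟩,
    ⟨[0,2,1,0,2,1,3,5,4], [6,6,0,0,0,64], [6,6,0,0,0,64]⟩,
    ⟨[0,2,1,0,3,2,1,4,5], [10,0,10,0,0,64], [10,0,10,0,0,64]⟩,
    ⟨[0,2,1,0,3,2,1,5,4], [10,0,10,0,0,64], [10,0,10,0,0,64]⟩,
    ⟨[0,2,1,1,0,2,3,4,5], [0,3,3,0,0,64], [0,3,3,0,0,64]⟩,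
    ⟨[0,2,1,1,0,2,3,5,4], [0,3,3,0,0,64], [0,3,3,0,0,64]⟩,
    ⟨[0,2,1,1,0,3,2,4,5], [0,15,15,0,0,64], [0,15,15,0,0,64]⟩,
    ⟨[0,2,1,1,0,3,2,5,4], [0,15,15,0,0,64], [0,15,15,0,0,64]⟩,
    ⟨[0,2,1,2,1,0,3,4,5], [5,0,5,0,0,64], [5,0,5,0,0,64]⟩,
    ⟨[0,2,1,2,1,0,3,5,4], [5,0,5,0,0,64], [5,0,5,0,0,64]⟩,
    ⟨[0,2,1,2,3,0,1,4,5], [15,0,15,0,0,64], [15,0,15,0,0,64]⟩,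
    ⟨[0,2,1,2,3,0,1,5,4], [15,0,15,0,0,64], [15,0,15,0,0,64]⟩,
    ⟨[0,2,1,3,1,2,0,4,5], [9,9,0,0,0,64], [9,9,0,0,0,64]⟩,
    ⟨[0,2,1,3,1,2,0,5,4], [9,9,0,0,0,64], [9,9,0,0,0,64]⟩,
    ⟨[0,2,1,3,2,1,0,4,5], [15,15,0,0,0,64], [15,15,0,0,0,64]⟩,
    ⟨[0,2,1,3,2,1,0,5,4], [15,15,0,0,0,64], [15,15,0,0,0,64]⟩,
    ⟨[1,0,2,0,1,2,3,4,5], [0,0,0,0,192,192], [0,0,0,0,192,192]⟩,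
    ⟨[1,0,2,0,1,2,3,5,4], [0,0,0,0,192,192], [0,0,0,0,192,192]⟩,
    ⟨[1,0,2,0,1,3,2,4,5], [0,12,12,0,192,192], [0,12,12,0,192,192]⟩,
    ⟨[1,0,2,0,1,3,2,5,4], [0,12,12,0,192,192], [0,12,12,0,192,192]⟩,
    ⟨[1,0,2,0,2,1,3,4,5], [6,6,0,0,192,192], [6,6,0,0,192,192]⟩,
    ⟨[1,0,2,0,2,1,3,5,4], [6,6,0,0,192,192], [6,6,0,0,192,192]⟩,
    ⟨[1,0,2,0,3,2,1,4,5], [10,0,10,0,192,192], [10,0,10,0,192,192]⟩,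
    ⟨[1,0,2,0,3,2,1,5,4], [10,0,10,0,192,192], [10,0,10,0,192,192]⟩,
    ⟨[1,0,2,1,0,2,3,4,5], [0,3,3,0,192,192], [0,3,3,0,192,192]⟩,
    ⟨[1,0,2,1,0,2,3,5,4], [0,3,3,0,192,192], [0,3,3,0,192,192]⟩,
    ⟨[1,0,2,1,0,3,2,4,5], [0,15,15,0,192,192], [0,15,15,0,192,192]⟩,
    ⟨[1,0,2,1,0,3,2,5,4], [0,15,15,0,192,192], [0,15,15,0,192,192]⟩,
    ⟨[1,0,2,2,1,0,3,4,5], [5,0,5,0,192,192], [5,0,5,0,192,192]⟩,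
    ⟨[1,0,2,2,1,0,3,5,4], [5,0,5,0,192,192], [5,0,5,0,192,192]⟩,
    ⟨[1,0,2,2,3,0,1,4,5], [15,0,15,0,192,192], [15,0,15,0,192,192]⟩,
    ⟨[1,0,2,2,3,0,1,5,4], [15,0,15,0,192,192], [15,0,15,0,192,192]⟩,
    ⟨[1,0,2,3,1,2,0,4,5], [9,9,0,0,192,192], [9,9,0,0,192,192]⟩,
    ⟨[1,0,2,3,1,2,0,5,4], [9,9,0,0,192,192], [9,9,0,0,192,192]⟩,
    ⟨[1,0,2,3,2,1,0,4,5], [15,15,0,0,192,192], [15,15,0,0,192,192]⟩,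
    ⟨[1,0,2,3,2,1,0,5,4], [15,15,0,0,192,192], [15,15,0,0,192,192]⟩,
    ⟨[2,1,0,0,1,2,3,4,5], [0,0,0,0,128,0], [0,0,0,0,128,0]⟩,
    ⟨[2,1,0,0,1,2,3,5,4], [0,0,0,0,128,0], [0,0,0,0,128,0]⟩,
    ⟨[2,1,0,0,1,3,2,4,5], [0,12,12,0,128,0], [0,12,12,0,128,0]⟩,
    ⟨[2,1,0,0,1,3,2,5,4], [0,12,12,0,128,0], [0,12,12,0,128,0]⟩,
    ⟨[2,1,0,0,2,1,3,4,5], [6,6,0,0,128,0], [6,6,0,0,128,0]⟩,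
    ⟨[2,1,0,0,2,1,3,5,4], [6,6,0,0,128,0], [6,6,0,0,128,0]⟩,
    ⟨[2,1,0,0,3,2,1,4,5], [10,0,10,0,128,0], [10,0,10,0,128,0]⟩,
    ⟨[2,1,0,0,3,2,1,5,4], [10,0,10,0,128,0], [10,0,10,0,128,0]⟩,
    ⟨[2,1,0,1,0,2,3,4,5], [0,3,3,0,128,0], [0,3,3,0,128,0]⟩,
    ⟨[2,1,0,1,0,2,3,5,4], [0,3,3,0,128,0], [0,3,3,0,128,0]⟩,
    ⟨[2,1,0,1,0,3,2,4,5], [0,15,15,0,128,0], [0,15,15,0,128,0]⟩,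
    ⟨[2,1,0,1,0,3,2,5,4], [0,15,15,0,128,0], [0,15,15,0,128,0]⟩,
    ⟨[2,1,0,2,1,0,3,4,5], [5,0,5,0,128,0], [5,0,5,0,128,0]⟩,
    ⟨[2,1,0,2,1,0,3,5,4], [5,0,5,0,128,0], [5,0,5,0,128,0]⟩,
    ⟨[2,1,0,2,3,0,1,4,5], [15,0,15,0,128,0], [15,0,15,0,128,0]⟩,
    ⟨[2,1,0,2,3,0,1,5,4], [15,0,15,0,128,0], [15,0,15,0,128,0]⟩,
    ⟨[2,1,0,3,1,2,0,4,5], [9,9,0,0,128,0], [9,9,0,0,128,0]⟩,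
    ⟨[2,1,0,3,1,2,0,5,4], [9,9,0,0,128,0], [9,9,0,0,128,0]⟩,
    ⟨[2,1,0,3,2,1,0,4,5], [15,15,0,0,128,0], [15,15,0,0,128,0]⟩,
    ⟨[2,1,0,3,2,1,0,5,4], [15,15,0,0,128,0], [15,15,0,0,128,0]⟩]

/-- sum false: a = 1, b = Equiv.swap 2 3 * Equiv.swap 4 5, eps = False -/
def dF02n : Datum where
  kind := Kind.sum false
  a := 1
  b := Equiv.swap 2 3 * Equiv.swap 4 5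
  e := false
  bs := [1,2,12,48,64,128]
  cand := [
    ⟨[0,1,2,0,1,2,3,4,5], [0,0,0,0,0,0], [63,63,0,0,0,0]⟩,
    ⟨[0,1,2,0,1,2,3,5,4], [0,0,0,0,0,0], [63,63,0,0,0,0]⟩,
    ⟨[0,1,2,0,1,3,2,4,5], [0,0,0,0,0,0], [63,63,0,0,0,0]⟩,
    ⟨[0,1,2,0,1,3,2,5,4], [0,0,0,0,0,0], [63,63,0,0,0,0]⟩,
    ⟨[0,1,2,0,1,4,5,2,3], [0,0,60,60,0,0], [63,63,60,60,0,0]⟩,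
    ⟨[0,1,2,0,1,4,5,3,2], [0,0,60,60,0,0], [63,63,60,60,0,0]⟩,
    ⟨[0,1,2,0,1,5,4,2,3], [0,0,60,60,0,0], [63,63,60,60,0,0]⟩,
    ⟨[0,1,2,0,1,5,4,3,2], [0,0,60,60,0,0], [63,63,60,60,0,0]⟩,
    ⟨[0,1,2,1,0,2,3,4,5], [3,3,0,0,0,0], [60,60,0,0,0,0]⟩,
    ⟨[0,1,2,1,0,2,3,5,4], [3,3,0,0,0,0], [60,60,0,0,0,0]⟩,
    ⟨[0,1,2,1,0,3,2,4,5], [3,3,0,0,0,0], [60,60,0,0,0,0]⟩,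
    ⟨[0,1,2,1,0,3,2,5,4], [3,3,0,0,0,0], [60,60,0,0,0,0]⟩,
    ⟨[0,1,2,1,0,4,5,2,3], [3,3,60,60,0,0], [60,60,60,60,0,0]⟩,
    ⟨[0,1,2,1,0,4,5,3,2], [3,3,60,60,0,0], [60,60,60,60,0,0]⟩,
    ⟨[0,1,2,1,0,5,4,2,3], [3,3,60,60,0,0], [60,60,60,60,0,0]⟩,
    ⟨[0,1,2,1,0,5,4,3,2], [3,3,60,60,0,0], [60,60,60,60,0,0]⟩,
    ⟨[0,2,1,0,1,2,3,4,5], [0,0,0,0,0,64], [63,63,0,0,0,64]⟩,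
    ⟨[0,2,1,0,1,2,3,5,4], [0,0,0,0,0,64], [63,63,0,0,0,64]⟩,
    ⟨[0,2,1,0,1,3,2,4,5], [0,0,0,0,0,64], [63,63,0,0,0,64]⟩,
    ⟨[0,2,1,0,1,3,2,5,4], [0,0,0,0,0,64], [63,63,0,0,0,64]⟩,
    ⟨[0,2,1,0,1,4,5,2,3], [0,0,60,60,0,64], [63,63,60,60,0,64]⟩,
    ⟨[0,2,1,0,1,4,5,3,2], [0,0,60,60,0,64], [63,63,60,60,0,64]⟩,
    ⟨[0,2,1,0,1,5,4,2,3], [0,0,60,60,0,64], [63,63,60,60,0,64]⟩,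
    ⟨[0,2,1,0,1,5,4,3,2], [0,0,60,60,0,64], [63,63,60,60,0,64]⟩,
    ⟨[0,2,1,1,0,2,3,4,5], [3,3,0,0,0,64], [60,60,0,0,0,64]⟩,
    ⟨[0,2,1,1,0,2,3,5,4], [3,3,0,0,0,64], [60,60,0,0,0,64]⟩,
    ⟨[0,2,1,1,0,3,2,4,5], [3,3,0,0,0,64], [60,60,0,0,0,64]⟩,
    ⟨[0,2,1,1,0,3,2,5,4], [3,3,0,0,0,64], [60,60,0,0,0,64]⟩,
    ⟨[0,2,1,1,0,4,5,2,3], [3,3,60,60,0,64], [60,60,60,60,0,64]⟩,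
    ⟨[0,2,1,1,0,4,5,3,2], [3,3,60,60,0,64], [60,60,60,60,0,64]⟩,
    ⟨[0,2,1,1,0,5,4,2,3], [3,3,60,60,0,64], [60,60,60,60,0,64]⟩,
    ⟨[0,2,1,1,0,5,4,3,2], [3,3,60,60,0,64], [60,60,60,60,0,64]⟩,
    ⟨[1,0,2,0,1,2,3,4,5], [0,0,0,0,192,192], [63,63,0,0,192,192]⟩,
    ⟨[1,0,2,0,1,2,3,5,4], [0,0,0,0,192,192], [63,63,0,0,192,192]⟩,
    ⟨[1,0,2,0,1,3,2,4,5], [0,0,0,0,192,192], [63,63,0,0,192,192]⟩,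
    ⟨[1,0,2,0,1,3,2,5,4], [0,0,0,0,192,192], [63,63,0,0,192,192]⟩,
    ⟨[1,0,2,0,1,4,5,2,3], [0,0,60,60,192,192], [63,63,60,60,192,192]⟩,
    ⟨[1,0,2,0,1,4,5,3,2], [0,0,60,60,192,192], [63,63,60,60,192,192]⟩,
    ⟨[1,0,2,0,1,5,4,2,3], [0,0,60,60,192,192], [63,63,60,60,192,192]⟩,
    ⟨[1,0,2,0,1,5,4,3,2], [0,0,60,60,192,192], [63,63,60,60,192,192]⟩,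
    ⟨[1,0,2,1,0,2,3,4,5], [3,3,0,0,192,192], [60,60,0,0,192,192]⟩,
    ⟨[1,0,2,1,0,2,3,5,4], [3,3,0,0,192,192], [60,60,0,0,192,192]⟩,
    ⟨[1,0,2,1,0,3,2,4,5], [3,3,0,0,192,192], [60,60,0,0,192,192]⟩,
    ⟨[1,0,2,1,0,3,2,5,4], [3,3,0,0,192,192], [60,60,0,0,192,192]⟩,
    ⟨[1,0,2,1,0,4,5,2,3], [3,3,60,60,192,192], [60,60,60,60,192,192]⟩,
    ⟨[1,0,2,1,0,4,5,3,2], [3,3,60,60,192,192], [60,60,60,60,192,192]⟩,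
    ⟨[1,0,2,1,0,5,4,2,3], [3,3,60,60,192,192], [60,60,60,60,192,192]⟩,
    ⟨[1,0,2,1,0,5,4,3,2], [3,3,60,60,192,192], [60,60,60,60,192,192]⟩,
    ⟨[2,1,0,0,1,2,3,4,5], [0,0,0,0,128,0], [63,63,0,0,128,0]⟩,
    ⟨[2,1,0,0,1,2,3,5,4], [0,0,0,0,128,0], [63,63,0,0,128,0]⟩,
    ⟨[2,1,0,0,1,3,2,4,5], [0,0,0,0,128,0], [63,63,0,0,128,0]⟩,
    ⟨[2,1,0,0,1,3,2,5,4], [0,0,0,0,128,0], [63,63,0,0,128,0]⟩,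
    ⟨[2,1,0,0,1,4,5,2,3], [0,0,60,60,128,0], [63,63,60,60,128,0]⟩,
    ⟨[2,1,0,0,1,4,5,3,2], [0,0,60,60,128,0], [63,63,60,60,128,0]⟩,
    ⟨[2,1,0,0,1,5,4,2,3], [0,0,60,60,128,0], [63,63,60,60,128,0]⟩,
    ⟨[2,1,0,0,1,5,4,3,2], [0,0,60,60,128,0], [63,63,60,60,128,0]⟩,
    ⟨[2,1,0,1,0,2,3,4,5], [3,3,0,0,128,0], [60,60,0,0,128,0]⟩,
    ⟨[2,1,0,1,0,2,3,5,4], [3,3,0,0,128,0], [60,60,0,0,128,0]⟩,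
    ⟨[2,1,0,1,0,3,2,4,5], [3,3,0,0,128,0], [60,60,0,0,128,0]⟩,
    ⟨[2,1,0,1,0,3,2,5,4], [3,3,0,0,128,0], [60,60,0,0,128,0]⟩,
    ⟨[2,1,0,1,0,4,5,2,3], [3,3,60,60,128,0], [60,60,60,60,128,0]⟩,
    ⟨[2,1,0,1,0,4,5,3,2], [3,3,60,60,128,0], [60,60,60,60,128,0]⟩,
    ⟨[2,1,0,1,0,5,4,2,3], [3,3,60,60,128,0], [60,60,60,60,128,0]⟩,
    ⟨[2,1,0,1,0,5,4,3,2], [3,3,60,60,128,0], [60,60,60,60,128,0]⟩]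

/-- sum false: a = 1, b = Equiv.swap 2 3 * Equiv.swap 4 5, eps = True -/
def dF02e : Datum where
  kind := Kind.sum false
  a := 1
  b := Equiv.swap 2 3 * Equiv.swap 4 5
  e := true
  bs := [3,12,48,64,128]
  cand := [
    ⟨[0,1,2,0,1,2,3,4,5], [0,0,0,0,0], [0,0,0,0,0]⟩,
    ⟨[0,1,2,0,1,2,3,5,4], [0,0,0,0,0], [0,0,0,0,0]⟩,
    ⟨[0,1,2,0,1,3,2,4,5], [0,0,0,0,0], [0,0,0,0,0]⟩,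
    ⟨[0,1,2,0,1,3,2,5,4], [0,0,0,0,0], [0,0,0,0,0]⟩,
    ⟨[0,1,2,0,1,4,5,2,3], [0,60,60,0,0], [0,60,60,0,0]⟩,
    ⟨[0,1,2,0,1,4,5,3,2], [0,60,60,0,0], [0,60,60,0,0]⟩,
    ⟨[0,1,2,0,1,5,4,2,3], [0,60,60,0,0], [0,60,60,0,0]⟩,
    ⟨[0,1,2,0,1,5,4,3,2], [0,60,60,0,0], [0,60,60,0,0]⟩,
    ⟨[0,1,2,1,0,2,3,4,5], [0,0,0,0,0], [0,0,0,0,0]⟩,
    ⟨[0,1,2,1,0,2,3,5,4], [0,0,0,0,0], [0,0,0,0,0]⟩,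
    ⟨[0,1,2,1,0,3,2,4,5], [0,0,0,0,0], [0,0,0,0,0]⟩,
    ⟨[0,1,2,1,0,3,2,5,4], [0,0,0,0,0], [0,0,0,0,0]⟩,
    ⟨[0,1,2,1,0,4,5,2,3], [0,60,60,0,0], [0,60,60,0,0]⟩,
    ⟨[0,1,2,1,0,4,5,3,2], [0,60,60,0,0], [0,60,60,0,0]⟩,
    ⟨[0,1,2,1,0,5,4,2,3], [0,60,60,0,0], [0,60,60,0,0]⟩,
    ⟨[0,1,2,1,0,5,4,3,2], [0,60,60,0,0], [0,60,60,0,0]⟩,
    ⟨[0,2,1,0,1,2,3,4,5], [0,0,0,0,64], [0,0,0,0,64]⟩,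
    ⟨[0,2,1,0,1,2,3,5,4], [0,0,0,0,64], [0,0,0,0,64]⟩,
    ⟨[0,2,1,0,1,3,2,4,5], [0,0,0,0,64], [0,0,0,0,64]⟩,
    ⟨[0,2,1,0,1,3,2,5,4], [0,0,0,0,64], [0,0,0,0,64]⟩,
    ⟨[0,2,1,0,1,4,5,2,3], [0,60,60,0,64], [0,60,60,0,64]⟩,
    ⟨[0,2,1,0,1,4,5,3,2], [0,60,60,0,64], [0,60,60,0,64]⟩,
    ⟨[0,2,1,0,1,5,4,2,3], [0,60,60,0,64], [0,60,60,0,64]⟩,
    ⟨[0,2,1,0,1,5,4,3,2], [0,60,60,0,64], [0,60,60,0,64]⟩,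
    ⟨[0,2,1,1,0,2,3,4,5], [0,0,0,0,64], [0,0,0,0,64]⟩,
    ⟨[0,2,1,1,0,2,3,5,4], [0,0,0,0,64], [0,0,0,0,64]⟩,
    ⟨[0,2,1,1,0,3,2,4,5], [0,0,0,0,64], [0,0,0,0,64]⟩,
    ⟨[0,2,1,1,0,3,2,5,4], [0,0,0,0,64], [0,0,0,0,64]⟩,
    ⟨[0,2,1,1,0,4,5,2,3], [0,60,60,0,64], [0,60,60,0,64]⟩,
    ⟨[0,2,1,1,0,4,5,3,2], [0,60,60,0,64], [0,60,60,0,64]⟩,
    ⟨[0,2,1,1,0,5,4,2,3], [0,60,60,0,64], [0,60,60,0,64]⟩,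
    ⟨[0,2,1,1,0,5,4,3,2], [0,60,60,0,64], [0,60,60,0,64]⟩,
    ⟨[1,0,2,0,1,2,3,4,5], [0,0,0,192,192], [0,0,0,192,192]⟩,
    ⟨[1,0,2,0,1,2,3,5,4], [0,0,0,192,192], [0,0,0,192,192]⟩,
    ⟨[1,0,2,0,1,3,2,4,5], [0,0,0,192,192], [0,0,0,192,192]⟩,
    ⟨[1,0,2,0,1,3,2,5,4], [0,0,0,192,192], [0,0,0,192,192]⟩,
    ⟨[1,0,2,0,1,4,5,2,3], [0,60,60,192,192], [0,60,60,192,192]⟩,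
    ⟨[1,0,2,0,1,4,5,3,2], [0,60,60,192,192], [0,60,60,192,192]⟩,
    ⟨[1,0,2,0,1,5,4,2,3], [0,60,60,192,192], [0,60,60,192,192]⟩,
    ⟨[1,0,2,0,1,5,4,3,2], [0,60,60,192,192], [0,60,60,192,192]⟩,
    ⟨[1,0,2,1,0,2,3,4,5], [0,0,0,192,192], [0,0,0,192,192]⟩,
    ⟨[1,0,2,1,0,2,3,5,4], [0,0,0,192,192], [0,0,0,192,192]⟩,
    ⟨[1,0,2,1,0,3,2,4,5], [0,0,0,192,192], [0,0,0,192,192]⟩,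
    ⟨[1,0,2,1,0,3,2,5,4], [0,0,0,192,192], [0,0,0,192,192]⟩,
    ⟨[1,0,2,1,0,4,5,2,3], [0,60,60,192,192], [0,60,60,192,192]⟩,
    ⟨[1,0,2,1,0,4,5,3,2], [0,60,60,192,192], [0,60,60,192,192]⟩,
    ⟨[1,0,2,1,0,5,4,2,3], [0,60,60,192,192], [0,60,60,192,192]⟩,
    ⟨[1,0,2,1,0,5,4,3,2], [0,60,60,192,192], [0,60,60,192,192]⟩,
    ⟨[2,1,0,0,1,2,3,4,5], [0,0,0,128,0], [0,0,0,128,0]⟩,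
    ⟨[2,1,0,0,1,2,3,5,4], [0,0,0,128,0], [0,0,0,128,0]⟩,
    ⟨[2,1,0,0,1,3,2,4,5], [0,0,0,128,0], [0,0,0,128,0]⟩,
    ⟨[2,1,0,0,1,3,2,5,4], [0,0,0,128,0], [0,0,0,128,0]⟩,
    ⟨[2,1,0,0,1,4,5,2,3], [0,60,60,128,0], [0,60,60,128,0]⟩,
    ⟨[2,1,0,0,1,4,5,3,2], [0,60,60,128,0], [0,60,60,128,0]⟩,
    ⟨[2,1,0,0,1,5,4,2,3], [0,60,60,128,0], [0,60,60,128,0]⟩,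
    ⟨[2,1,0,0,1,5,4,3,2], [0,60,60,128,0], [0,60,60,128,0]⟩,
    ⟨[2,1,0,1,0,2,3,4,5], [0,0,0,128,0], [0,0,0,128,0]⟩,
    ⟨[2,1,0,1,0,2,3,5,4], [0,0,0,128,0], [0,0,0,128,0]⟩,
    ⟨[2,1,0,1,0,3,2,4,5], [0,0,0,128,0], [0,0,0,128,0]⟩,
    ⟨[2,1,0,1,0,3,2,5,4], [0,0,0,128,0], [0,0,0,128,0]⟩,
    ⟨[2,1,0,1,0,4,5,2,3], [0,60,60,128,0], [0,60,60,128,0]⟩,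
    ⟨[2,1,0,1,0,4,5,3,2], [0,60,60,128,0], [0,60,60,128,0]⟩,
    ⟨[2,1,0,1,0,5,4,2,3], [0,60,60,128,0], [0,60,60,128,0]⟩,
    ⟨[2,1,0,1,0,5,4,3,2], [0,60,60,128,0], [0,60,60,128,0]⟩]

/-- sum false: a = 1, b = Equiv.swap 0 1 * Equiv.swap 2 3 * Equiv.swap 4 5, eps = False -/
def dF03n : Datum where
  kind := Kind.sum false
  a := 1
  b := Equiv.swap 0 1 * Equiv.swap 2 3 * Equiv.swap 4 5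
  e := false
  bs := [3,12,48,64,128]
  cand := [
    ⟨[0,1,2,0,1,2,3,4,5], [0,0,0,0,0], [0,0,0,0,0]⟩,
    ⟨[0,1,2,0,1,2,3,5,4], [0,0,0,0,0], [0,0,0,0,0]⟩,
    ⟨[0,1,2,0,1,3,2,4,5], [0,0,0,0,0], [0,0,0,0,0]⟩,
    ⟨[0,1,2,0,1,3,2,5,4], [0,0,0,0,0], [0,0,0,0,0]⟩,
    ⟨[0,1,2,0,1,4,5,2,3], [0,60,60,0,0], [0,60,60,0,0]⟩,
    ⟨[0,1,2,0,1,5,4,3,2], [0,60,60,0,0], [0,60,60,0,0]⟩,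
    ⟨[0,1,2,1,0,2,3,4,5], [0,0,0,0,0], [0,0,0,0,0]⟩,
    ⟨[0,1,2,1,0,2,3,5,4], [0,0,0,0,0], [0,0,0,0,0]⟩,
    ⟨[0,1,2,1,0,3,2,4,5], [0,0,0,0,0], [0,0,0,0,0]⟩,
    ⟨[0,1,2,1,0,3,2,5,4], [0,0,0,0,0], [0,0,0,0,0]⟩,
    ⟨[0,1,2,1,0,4,5,2,3], [0,60,60,0,0], [0,60,60,0,0]⟩,
    ⟨[0,1,2,1,0,5,4,3,2], [0,60,60,0,0], [0,60,60,0,0]⟩,
    ⟨[0,1,2,2,3,0,1,4,5], [15,15,0,0,0], [15,15,0,0,0]⟩,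
    ⟨[0,1,2,2,3,0,1,5,4], [15,15,0,0,0], [15,15,0,0,0]⟩,
    ⟨[0,1,2,3,2,1,0,4,5], [15,15,0,0,0], [15,15,0,0,0]⟩,
    ⟨[0,1,2,3,2,1,0,5,4], [15,15,0,0,0], [15,15,0,0,0]⟩,
    ⟨[0,1,2,4,5,2,3,0,1], [51,0,51,0,0], [51,0,51,0,0]⟩,
    ⟨[0,1,2,4,5,3,2,0,1], [51,0,51,0,0], [51,0,51,0,0]⟩,
    ⟨[0,1,2,5,4,2,3,1,0], [51,0,51,0,0], [51,0,51,0,0]⟩,
    ⟨[0,1,2,5,4,3,2,1,0], [51,0,51,0,0], [51,0,51,0,0]⟩,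
    ⟨[0,2,1,0,1,2,3,4,5], [0,0,0,0,64], [0,0,0,0,64]⟩,
    ⟨[0,2,1,0,1,2,3,5,4], [0,0,0,0,64], [0,0,0,0,64]⟩,
    ⟨[0,2,1,0,1,3,2,4,5], [0,0,0,0,64], [0,0,0,0,64]⟩,
    ⟨[0,2,1,0,1,3,2,5,4], [0,0,0,0,64], [0,0,0,0,64]⟩,
    ⟨[0,2,1,0,1,4,5,2,3], [0,60,60,0,64], [0,60,60,0,64]⟩,
    ⟨[0,2,1,0,1,5,4,3,2], [0,60,60,0,64], [0,60,60,0,64]⟩,
    ⟨[0,2,1,1,0,2,3,4,5], [0,0,0,0,64], [0,0,0,0,64]⟩,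
    ⟨[0,2,1,1,0,2,3,5,4], [0,0,0,0,64], [0,0,0,0,64]⟩,
    ⟨[0,2,1,1,0,3,2,4,5], [0,0,0,0,64], [0,0,0,0,64]⟩,
    ⟨[0,2,1,1,0,3,2,5,4], [0,0,0,0,64], [0,0,0,0,64]⟩,
    ⟨[0,2,1,1,0,4,5,2,3], [0,60,60,0,64], [0,60,60,0,64]⟩,
    ⟨[0,2,1,1,0,5,4,3,2], [0,60,60,0,64], [0,60,60,0,64]⟩,
    ⟨[0,2,1,2,3,0,1,4,5], [15,15,0,0,64], [15,15,0,0,64]⟩,
    ⟨[0,2,1,2,3,0,1,5,4], [15,15,0,0,64], [15,15,0,0,64]⟩,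
    ⟨[0,2,1,3,2,1,0,4,5], [15,15,0,0,64], [15,15,0,0,64]⟩,
    ⟨[0,2,1,3,2,1,0,5,4], [15,15,0,0,64], [15,15,0,0,64]⟩,
    ⟨[0,2,1,4,5,2,3,0,1], [51,0,51,0,64], [51,0,51,0,64]⟩,
    ⟨[0,2,1,4,5,3,2,0,1], [51,0,51,0,64], [51,0,51,0,64]⟩,
    ⟨[0,2,1,5,4,2,3,1,0], [51,0,51,0,64], [51,0,51,0,64]⟩,
    ⟨[0,2,1,5,4,3,2,1,0], [51,0,51,0,64], [51,0,51,0,64]⟩,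
    ⟨[1,0,2,0,1,2,3,4,5], [0,0,0,192,192], [0,0,0,192,192]⟩,
    ⟨[1,0,2,0,1,2,3,5,4], [0,0,0,192,192], [0,0,0,192,192]⟩,
    ⟨[1,0,2,0,1,3,2,4,5], [0,0,0,192,192], [0,0,0,192,192]⟩,
    ⟨[1,0,2,0,1,3,2,5,4], [0,0,0,192,192], [0,0,0,192,192]⟩,
    ⟨[1,0,2,0,1,4,5,2,3], [0,60,60,192,192], [0,60,60,192,192]⟩,
    ⟨[1,0,2,0,1,5,4,3,2], [0,60,60,192,192], [0,60,60,192,192]⟩,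
    ⟨[1,0,2,1,0,2,3,4,5], [0,0,0,192,192], [0,0,0,192,192]⟩,
    ⟨[1,0,2,1,0,2,3,5,4], [0,0,0,192,192], [0,0,0,192,192]⟩,
    ⟨[1,0,2,1,0,3,2,4,5], [0,0,0,192,192], [0,0,0,192,192]⟩,
    ⟨[1,0,2,1,0,3,2,5,4], [0,0,0,192,192], [0,0,0,192,192]⟩,
    ⟨[1,0,2,1,0,4,5,2,3], [0,60,60,192,192], [0,60,60,192,192]⟩,
    ⟨[1,0,2,1,0,5,4,3,2], [0,60,60,192,192], [0,60,60,192,192]⟩,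
    ⟨[1,0,2,2,3,0,1,4,5], [15,15,0,192,192], [15,15,0,192,192]⟩,
    ⟨[1,0,2,2,3,0,1,5,4], [15,15,0,192,192], [15,15,0,192,192]⟩,
    ⟨[1,0,2,3,2,1,0,4,5], [15,15,0,192,192], [15,15,0,192,192]⟩,
    ⟨[1,0,2,3,2,1,0,5,4], [15,15,0,192,192], [15,15,0,192,192]⟩,
    ⟨[1,0,2,4,5,2,3,0,1], [51,0,51,192,192], [51,0,51,192,192]⟩,
    ⟨[1,0,2,4,5,3,2,0,1], [51,0,51,192,192], [51,0,51,192,192]⟩,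
    ⟨[1,0,2,5,4,2,3,1,0], [51,0,51,192,192], [51,0,51,192,192]⟩,
    ⟨[1,0,2,5,4,3,2,1,0], [51,0,51,192,192], [51,0,51,192,192]⟩,
    ⟨[2,1,0,0,1,2,3,4,5], [0,0,0,128,0], [0,0,0,128,0]⟩,
    ⟨[2,1,0,0,1,2,3,5,4], [0,0,0,128,0], [0,0,0,128,0]⟩,
    ⟨[2,1,0,0,1,3,2,4,5], [0,0,0,128,0], [0,0,0,128,0]⟩,
    ⟨[2,1,0,0,1,3,2,5,4], [0,0,0,128,0], [0,0,0,128,0]⟩,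
    ⟨[2,1,0,0,1,4,5,2,3], [0,60,60,128,0], [0,60,60,128,0]⟩,
    ⟨[2,1,0,0,1,5,4,3,2], [0,60,60,128,0], [0,60,60,128,0]⟩,
    ⟨[2,1,0,1,0,2,3,4,5], [0,0,0,128,0], [0,0,0,128,0]⟩,
    ⟨[2,1,0,1,0,2,3,5,4], [0,0,0,128,0], [0,0,0,128,0]⟩,
    ⟨[2,1,0,1,0,3,2,4,5], [0,0,0,128,0], [0,0,0,128,0]⟩,
    ⟨[2,1,0,1,0,3,2,5,4], [0,0,0,128,0], [0,0,0,128,0]⟩,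
    ⟨[2,1,0,1,0,4,5,2,3], [0,60,60,128,0], [0,60,60,128,0]⟩,
    ⟨[2,1,0,1,0,5,4,3,2], [0,60,60,128,0], [0,60,60,128,0]⟩,
    ⟨[2,1,0,2,3,0,1,4,5], [15,15,0,128,0], [15,15,0,128,0]⟩,
    ⟨[2,1,0,2,3,0,1,5,4], [15,15,0,128,0], [15,15,0,128,0]⟩,
    ⟨[2,1,0,3,2,1,0,4,5], [15,15,0,128,0], [15,15,0,128,0]⟩,
    ⟨[2,1,0,3,2,1,0,5,4], [15,15,0,128,0], [15,15,0,128,0]⟩,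
    ⟨[2,1,0,4,5,2,3,0,1], [51,0,51,128,0], [51,0,51,128,0]⟩,
    ⟨[2,1,0,4,5,3,2,0,1], [51,0,51,128,0], [51,0,51,128,0]⟩,
    ⟨[2,1,0,5,4,2,3,1,0], [51,0,51,128,0], [51,0,51,128,0]⟩,
    ⟨[2,1,0,5,4,3,2,1,0], [51,0,51,128,0], [51,0,51,128,0]⟩]

/-- sum false: a = 1, b = Equiv.swap 0 1 * Equiv.swap 2 3 * Equiv.swap 4 5, eps = True -/
def dF03e : Datum where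
  kind := Kind.sum false
  a := 1
  b := Equiv.swap 0 1 * Equiv.swap 2 3 * Equiv.swap 4 5
  e := true
  bs := [3,12,21,37,64,128]
  cand := [
    ⟨[0,1,2,0,1,2,3,4,5], [0,0,0,0,0,0], [0,0,63,63,0,0]⟩,
    ⟨[0,1,2,0,1,2,3,5,4], [0,0,48,48,0,0], [0,0,15,15,0,0]⟩,
    ⟨[0,1,2,0,1,3,2,4,5], [0,0,12,12,0,0], [0,0,51,51,0,0]⟩,
    ⟨[0,1,2,0,1,3,2,5,4], [0,0,60,60,0,0], [0,0,3,3,0,0]⟩,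
    ⟨[0,1,2,0,1,4,5,2,3], [0,60,0,60,0,0], [0,60,63,3,0,0]⟩,
    ⟨[0,1,2,0,1,5,4,3,2], [0,60,60,0,0,0], [0,60,3,63,0,0]⟩,
    ⟨[0,1,2,1,0,2,3,4,5], [0,0,3,3,0,0], [0,0,60,60,0,0]⟩,
    ⟨[0,1,2,1,0,2,3,5,4], [0,0,51,51,0,0], [0,0,12,12,0,0]⟩,
    ⟨[0,1,2,1,0,3,2,4,5], [0,0,15,15,0,0], [0,0,48,48,0,0]⟩,
    ⟨[0,1,2,1,0,3,2,5,4], [0,0,63,63,0,0], [0,0,0,0,0,0]⟩,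
    ⟨[0,1,2,1,0,4,5,2,3], [0,60,3,63,0,0], [0,60,60,0,0,0]⟩,
    ⟨[0,1,2,1,0,5,4,3,2], [0,60,63,3,0,0], [0,60,0,60,0,0]⟩,
    ⟨[0,1,2,2,3,0,1,4,5], [15,15,0,0,0,0], [15,15,63,63,0,0]⟩,
    ⟨[0,1,2,2,3,0,1,5,4], [15,15,48,48,0,0], [15,15,15,15,0,0]⟩,
    ⟨[0,1,2,3,2,1,0,4,5], [15,15,15,15,0,0], [15,15,48,48,0,0]⟩,
    ⟨[0,1,2,3,2,1,0,5,4], [15,15,63,63,0,0], [15,15,0,0,0,0]⟩,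
    ⟨[0,1,2,4,5,2,3,0,1], [51,0,0,51,0,0], [51,0,63,12,0,0]⟩,
    ⟨[0,1,2,4,5,3,2,0,1], [51,0,12,63,0,0], [51,0,51,0,0,0]⟩,
    ⟨[0,1,2,5,4,2,3,1,0], [51,0,51,0,0,0], [51,0,12,63,0,0]⟩,
    ⟨[0,1,2,5,4,3,2,1,0], [51,0,63,12,0,0], [51,0,0,51,0,0]⟩,
    ⟨[0,2,1,0,1,2,3,4,5], [0,0,0,0,0,64], [0,0,63,63,0,64]⟩,
    ⟨[0,2,1,0,1,2,3,5,4], [0,0,48,48,0,64], [0,0,15,15,0,64]⟩,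
    ⟨[0,2,1,0,1,3,2,4,5], [0,0,12,12,0,64], [0,0,51,51,0,64]⟩,
    ⟨[0,2,1,0,1,3,2,5,4], [0,0,60,60,0,64], [0,0,3,3,0,64]⟩,
    ⟨[0,2,1,0,1,4,5,2,3], [0,60,0,60,0,64], [0,60,63,3,0,64]⟩,
    ⟨[0,2,1,0,1,5,4,3,2], [0,60,60,0,0,64], [0,60,3,63,0,64]⟩,
    ⟨[0,2,1,1,0,2,3,4,5], [0,0,3,3,0,64], [0,0,60,60,0,64]⟩,
    ⟨[0,2,1,1,0,2,3,5,4], [0,0,51,51,0,64], [0,0,12,12,0,64]⟩,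
    ⟨[0,2,1,1,0,3,2,4,5], [0,0,15,15,0,64], [0,0,48,48,0,64]⟩,
    ⟨[0,2,1,1,0,3,2,5,4], [0,0,63,63,0,64], [0,0,0,0,0,64]⟩,
    ⟨[0,2,1,1,0,4,5,2,3], [0,60,3,63,0,64], [0,60,60,0,0,64]⟩,
    ⟨[0,2,1,1,0,5,4,3,2], [0,60,63,3,0,64], [0,60,0,60,0,64]⟩,
    ⟨[0,2,1,2,3,0,1,4,5], [15,15,0,0,0,64], [15,15,63,63,0,64]⟩,
    ⟨[0,2,1,2,3,0,1,5,4], [15,15,48,48,0,64], [15,15,15,15,0,64]⟩,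
    ⟨[0,2,1,3,2,1,0,4,5], [15,15,15,15,0,64], [15,15,48,48,0,64]⟩,
    ⟨[0,2,1,3,2,1,0,5,4], [15,15,63,63,0,64], [15,15,0,0,0,64]⟩,
    ⟨[0,2,1,4,5,2,3,0,1], [51,0,0,51,0,64], [51,0,63,12,0,64]⟩,
    ⟨[0,2,1,4,5,3,2,0,1], [51,0,12,63,0,64], [51,0,51,0,0,64]⟩,
    ⟨[0,2,1,5,4,2,3,1,0], [51,0,51,0,0,64], [51,0,12,63,0,64]⟩,
    ⟨[0,2,1,5,4,3,2,1,0], [51,0,63,12,0,64], [51,0,0,51,0,64]⟩,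
    ⟨[1,0,2,0,1,2,3,4,5], [0,0,0,0,192,192], [0,0,63,63,192,192]⟩,
    ⟨[1,0,2,0,1,2,3,5,4], [0,0,48,48,192,192], [0,0,15,15,192,192]⟩,
    ⟨[1,0,2,0,1,3,2,4,5], [0,0,12,12,192,192], [0,0,51,51,192,192]⟩,
    ⟨[1,0,2,0,1,3,2,5,4], [0,0,60,60,192,192], [0,0,3,3,192,192]⟩,
    ⟨[1,0,2,0,1,4,5,2,3], [0,60,0,60,192,192], [0,60,63,3,192,192]⟩,
    ⟨[1,0,2,0,1,5,4,3,2], [0,60,60,0,192,192], [0,60,3,63,192,192]⟩,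
    ⟨[1,0,2,1,0,2,3,4,5], [0,0,3,3,192,192], [0,0,60,60,192,192]⟩,
    ⟨[1,0,2,1,0,2,3,5,4], [0,0,51,51,192,192], [0,0,12,12,192,192]⟩,
    ⟨[1,0,2,1,0,3,2,4,5], [0,0,15,15,192,192], [0,0,48,48,192,192]⟩,
    ⟨[1,0,2,1,0,3,2,5,4], [0,0,63,63,192,192], [0,0,0,0,192,192]⟩,
    ⟨[1,0,2,1,0,4,5,2,3], [0,60,3,63,192,192], [0,60,60,0,192,192]⟩,
    ⟨[1,0,2,1,0,5,4,3,2], [0,60,63,3,192,192], [0,60,0,60,192,192]⟩,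
    ⟨[1,0,2,2,3,0,1,4,5], [15,15,0,0,192,192], [15,15,63,63,192,192]⟩,
    ⟨[1,0,2,2,3,0,1,5,4], [15,15,48,48,192,192], [15,15,15,15,192,192]⟩,
    ⟨[1,0,2,3,2,1,0,4,5], [15,15,15,15,192,192], [15,15,48,48,192,192]⟩,
    ⟨[1,0,2,3,2,1,0,5,4], [15,15,63,63,192,192], [15,15,0,0,192,192]⟩,
    ⟨[1,0,2,4,5,2,3,0,1], [51,0,0,51,192,192], [51,0,63,12,192,192]⟩,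
    ⟨[1,0,2,4,5,3,2,0,1], [51,0,12,63,192,192], [51,0,51,0,192,192]⟩,
    ⟨[1,0,2,5,4,2,3,1,0], [51,0,51,0,192,192], [51,0,12,63,192,192]⟩,
    ⟨[1,0,2,5,4,3,2,1,0], [51,0,63,12,192,192], [51,0,0,51,192,192]⟩,
    ⟨[2,1,0,0,1,2,3,4,5], [0,0,0,0,128,0], [0,0,63,63,128,0]⟩,
    ⟨[2,1,0,0,1,2,3,5,4], [0,0,48,48,128,0], [0,0,15,15,128,0]⟩,
    ⟨[2,1,0,0,1,3,2,4,5], [0,0,12,12,128,0], [0,0,51,51,128,0]⟩,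
    ⟨[2,1,0,0,1,3,2,5,4], [0,0,60,60,128,0], [0,0,3,3,128,0]⟩,
    ⟨[2,1,0,0,1,4,5,2,3], [0,60,0,60,128,0], [0,60,63,3,128,0]⟩,
    ⟨[2,1,0,0,1,5,4,3,2], [0,60,60,0,128,0], [0,60,3,63,128,0]⟩,
    ⟨[2,1,0,1,0,2,3,4,5], [0,0,3,3,128,0], [0,0,60,60,128,0]⟩,
    ⟨[2,1,0,1,0,2,3,5,4], [0,0,51,51,128,0], [0,0,12,12,128,0]⟩,
    ⟨[2,1,0,1,0,3,2,4,5], [0,0,15,15,128,0], [0,0,48,48,128,0]⟩,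
    ⟨[2,1,0,1,0,3,2,5,4], [0,0,63,63,128,0], [0,0,0,0,128,0]⟩,
    ⟨[2,1,0,1,0,4,5,2,3], [0,60,3,63,128,0], [0,60,60,0,128,0]⟩,
    ⟨[2,1,0,1,0,5,4,3,2], [0,60,63,3,128,0], [0,60,0,60,128,0]⟩,
    ⟨[2,1,0,2,3,0,1,4,5], [15,15,0,0,128,0], [15,15,63,63,128,0]⟩,
    ⟨[2,1,0,2,3,0,1,5,4], [15,15,48,48,128,0], [15,15,15,15,128,0]⟩,
    ⟨[2,1,0,3,2,1,0,4,5], [15,15,15,15,128,0], [15,15,48,48,128,0]⟩,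
    ⟨[2,1,0,3,2,1,0,5,4], [15,15,63,63,128,0], [15,15,0,0,128,0]⟩,
    ⟨[2,1,0,4,5,2,3,0,1], [51,0,0,51,128,0], [51,0,63,12,128,0]⟩,
    ⟨[2,1,0,4,5,3,2,0,1], [51,0,12,63,128,0], [51,0,51,0,128,0]⟩,
    ⟨[2,1,0,5,4,2,3,1,0], [51,0,51,0,128,0], [51,0,12,63,128,0]⟩,
    ⟨[2,1,0,5,4,3,2,1,0], [51,0,63,12,128,0], [51,0,0,51,128,0]⟩]

/-- sum false: a = Equiv.swap 1 2, b = 1, eps = False -/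
def dF10n : Datum where
  kind := Kind.sum false
  a := Equiv.swap 1 2
  b := 1
  e := false
  bs := [1,2,4,8,16,32,64]
  cand := [
    ⟨[0,1,2,0,1,2,3,4,5], [0,0,0,0,0,0,0], [63,63,63,63,63,63,0]⟩,
    ⟨[0,1,2,0,1,2,3,5,4], [0,0,0,0,48,48,0], [63,63,63,63,15,15,0]⟩,
    ⟨[0,1,2,0,1,2,4,3,5], [0,0,0,24,24,0,0], [63,63,63,39,39,63,0]⟩,
    ⟨[0,1,2,0,1,2,5,4,3], [0,0,0,40,0,40,0], [63,63,63,23,63,23,0]⟩,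
    ⟨[0,1,2,0,1,3,2,4,5], [0,0,12,12,0,0,0], [63,63,51,51,63,63,0]⟩,
    ⟨[0,1,2,0,1,3,2,5,4], [0,0,12,12,48,48,0], [63,63,51,51,15,15,0]⟩,
    ⟨[0,1,2,0,1,4,3,2,5], [0,0,20,0,20,0,0], [63,63,43,63,43,63,0]⟩,
    ⟨[0,1,2,0,1,4,5,2,3], [0,0,20,40,20,40,0], [63,63,43,23,43,23,0]⟩,
    ⟨[0,1,2,0,1,5,3,4,2], [0,0,36,0,0,36,0], [63,63,27,63,63,27,0]⟩,
    ⟨[0,1,2,0,1,5,4,3,2], [0,0,36,24,24,36,0], [63,63,27,39,39,27,0]⟩,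
    ⟨[0,1,2,0,2,1,3,4,5], [0,6,6,0,0,0,0], [63,57,57,63,63,63,0]⟩,
    ⟨[0,1,2,0,2,1,3,5,4], [0,6,6,0,48,48,0], [63,57,57,63,15,15,0]⟩,
    ⟨[0,1,2,0,2,1,4,3,5], [0,6,6,24,24,0,0], [63,57,57,39,39,63,0]⟩,
    ⟨[0,1,2,0,2,1,5,4,3], [0,6,6,40,0,40,0], [63,57,57,23,63,23,0]⟩,
    ⟨[0,1,2,0,3,2,1,4,5], [0,10,0,10,0,0,0], [63,53,63,53,63,63,0]⟩,
    ⟨[0,1,2,0,3,2,1,5,4], [0,10,0,10,48,48,0], [63,53,63,53,15,15,0]⟩,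
    ⟨[0,1,2,0,3,4,1,2,5], [0,10,20,10,20,0,0], [63,53,43,53,43,63,0]⟩,
    ⟨[0,1,2,0,3,5,1,4,2], [0,10,36,10,0,36,0], [63,53,27,53,63,27,0]⟩,
    ⟨[0,1,2,0,4,2,3,1,5], [0,18,0,0,18,0,0], [63,45,63,63,45,63,0]⟩,
    ⟨[0,1,2,0,4,2,5,1,3], [0,18,0,40,18,40,0], [63,45,63,23,45,23,0]⟩,
    ⟨[0,1,2,0,4,3,2,1,5], [0,18,12,12,18,0,0], [63,45,51,51,45,63,0]⟩,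
    ⟨[0,1,2,0,4,5,3,1,2], [0,18,36,0,18,36,0], [63,45,27,63,45,27,0]⟩,
    ⟨[0,1,2,0,5,2,3,4,1], [0,34,0,0,0,34,0], [63,29,63,63,63,29,0]⟩,
    ⟨[0,1,2,0,5,2,4,3,1], [0,34,0,24,24,34,0], [63,29,63,39,39,29,0]⟩,
    ⟨[0,1,2,0,5,3,2,4,1], [0,34,12,12,0,34,0], [63,29,51,51,63,29,0]⟩,
    ⟨[0,1,2,0,5,4,3,2,1], [0,34,20,0,20,34,0], [63,29,43,63,43,29,0]⟩,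
    ⟨[0,1,2,1,0,2,3,4,5], [3,3,0,0,0,0,0], [60,60,63,63,63,63,0]⟩,
    ⟨[0,1,2,1,0,2,3,5,4], [3,3,0,0,48,48,0], [60,60,63,63,15,15,0]⟩,
    ⟨[0,1,2,1,0,2,4,3,5], [3,3,0,24,24,0,0], [60,60,63,39,39,63,0]⟩,
    ⟨[0,1,2,1,0,2,5,4,3], [3,3,0,40,0,40,0], [60,60,63,23,63,23,0]⟩,
    ⟨[0,1,2,1,0,3,2,4,5], [3,3,12,12,0,0,0], [60,60,51,51,63,63,0]⟩,
    ⟨[0,1,2,1,0,3,2,5,4], [3,3,12,12,48,48,0], [60,60,51,51,15,15,0]⟩,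
    ⟨[0,1,2,1,0,4,3,2,5], [3,3,20,0,20,0,0], [60,60,43,63,43,63,0]⟩,
    ⟨[0,1,2,1,0,4,5,2,3], [3,3,20,40,20,40,0], [60,60,43,23,43,23,0]⟩,
    ⟨[0,1,2,1,0,5,3,4,2], [3,3,36,0,0,36,0], [60,60,27,63,63,27,0]⟩,
    ⟨[0,1,2,1,0,5,4,3,2], [3,3,36,24,24,36,0], [60,60,27,39,39,27,0]⟩,
    ⟨[0,1,2,2,1,0,3,4,5], [5,0,5,0,0,0,0], [58,63,58,63,63,63,0]⟩,
    ⟨[0,1,2,2,1,0,3,5,4], [5,0,5,0,48,48,0], [58,63,58,63,15,15,0]⟩,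
    ⟨[0,1,2,2,1,0,4,3,5], [5,0,5,24,24,0,0], [58,63,58,39,39,63,0]⟩,
    ⟨[0,1,2,2,1,0,5,4,3], [5,0,5,40,0,40,0], [58,63,58,23,63,23,0]⟩,
    ⟨[0,1,2,2,3,0,1,4,5], [5,10,5,10,0,0,0], [58,53,58,53,63,63,0]⟩,
    ⟨[0,1,2,2,3,0,1,5,4], [5,10,5,10,48,48,0], [58,53,58,53,15,15,0]⟩,
    ⟨[0,1,2,2,4,0,3,1,5], [5,18,5,0,18,0,0], [58,45,58,63,45,63,0]⟩,
    ⟨[0,1,2,2,4,0,5,1,3], [5,18,5,40,18,40,0], [58,45,58,23,45,23,0]⟩,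
    ⟨[0,1,2,2,5,0,3,4,1], [5,34,5,0,0,34,0], [58,29,58,63,63,29,0]⟩,
    ⟨[0,1,2,2,5,0,4,3,1], [5,34,5,24,24,34,0], [58,29,58,39,39,29,0]⟩,
    ⟨[0,1,2,3,1,2,0,4,5], [9,0,0,9,0,0,0], [54,63,63,54,63,63,0]⟩,
    ⟨[0,1,2,3,1,2,0,5,4], [9,0,0,9,48,48,0], [54,63,63,54,15,15,0]⟩,
    ⟨[0,1,2,3,1,4,0,2,5], [9,0,20,9,20,0,0], [54,63,43,54,43,63,0]⟩,
    ⟨[0,1,2,3,1,5,0,4,2], [9,0,36,9,0,36,0], [54,63,27,54,63,27,0]⟩,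
    ⟨[0,1,2,3,2,1,0,4,5], [9,6,6,9,0,0,0], [54,57,57,54,63,63,0]⟩,
    ⟨[0,1,2,3,2,1,0,5,4], [9,6,6,9,48,48,0], [54,57,57,54,15,15,0]⟩,
    ⟨[0,1,2,3,4,2,0,1,5], [9,18,0,9,18,0,0], [54,45,63,54,45,63,0]⟩,
    ⟨[0,1,2,3,4,5,0,1,2], [9,18,36,9,18,36,0], [54,45,27,54,45,27,0]⟩,
    ⟨[0,1,2,3,5,2,0,4,1], [9,34,0,9,0,34,0], [54,29,63,54,63,29,0]⟩,
    ⟨[0,1,2,3,5,4,0,2,1], [9,34,20,9,20,34,0], [54,29,43,54,43,29,0]⟩,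
    ⟨[0,1,2,4,1,2,3,0,5], [17,0,0,0,17,0,0], [46,63,63,63,46,63,0]⟩,
    ⟨[0,1,2,4,1,2,5,0,3], [17,0,0,40,17,40,0], [46,63,63,23,46,23,0]⟩,
    ⟨[0,1,2,4,1,3,2,0,5], [17,0,12,12,17,0,0], [46,63,51,51,46,63,0]⟩,
    ⟨[0,1,2,4,1,5,3,0,2], [17,0,36,0,17,36,0], [46,63,27,63,46,27,0]⟩,
    ⟨[0,1,2,4,2,1,3,0,5], [17,6,6,0,17,0,0], [46,57,57,63,46,63,0]⟩,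
    ⟨[0,1,2,4,2,1,5,0,3], [17,6,6,40,17,40,0], [46,57,57,23,46,23,0]⟩,
    ⟨[0,1,2,4,3,2,1,0,5], [17,10,0,10,17,0,0], [46,53,63,53,46,63,0]⟩,
    ⟨[0,1,2,4,3,5,1,0,2], [17,10,36,10,17,36,0], [46,53,27,53,46,27,0]⟩,
    ⟨[0,1,2,4,5,2,3,0,1], [17,34,0,0,17,34,0], [46,29,63,63,46,29,0]⟩,
    ⟨[0,1,2,4,5,3,2,0,1], [17,34,12,12,17,34,0], [46,29,51,51,46,29,0]⟩,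
    ⟨[0,1,2,5,1,2,3,4,0], [33,0,0,0,0,33,0], [30,63,63,63,63,30,0]⟩,
    ⟨[0,1,2,5,1,2,4,3,0], [33,0,0,24,24,33,0], [30,63,63,39,39,30,0]⟩,
    ⟨[0,1,2,5,1,3,2,4,0], [33,0,12,12,0,33,0], [30,63,51,51,63,30,0]⟩,
    ⟨[0,1,2,5,1,4,3,2,0], [33,0,20,0,20,33,0], [30,63,43,63,43,30,0]⟩,
    ⟨[0,1,2,5,2,1,3,4,0], [33,6,6,0,0,33,0], [30,57,57,63,63,30,0]⟩,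
    ⟨[0,1,2,5,2,1,4,3,0], [33,6,6,24,24,33,0], [30,57,57,39,39,30,0]⟩,
    ⟨[0,1,2,5,3,2,1,4,0], [33,10,0,10,0,33,0], [30,53,63,53,63,30,0]⟩,
    ⟨[0,1,2,5,3,4,1,2,0], [33,10,20,10,20,33,0], [30,53,43,53,43,30,0]⟩,
    ⟨[0,1,2,5,4,2,3,1,0], [33,18,0,0,18,33,0], [30,45,63,63,45,30,0]⟩,
    ⟨[0,1,2,5,4,3,2,1,0], [33,18,12,12,18,33,0], [30,45,51,51,45,30,0]⟩,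
    ⟨[0,2,1,0,1,2,3,4,5], [0,0,0,0,0,0,0], [63,63,63,63,63,63,0]⟩,
    ⟨[0,2,1,0,1,2,3,5,4], [0,0,0,0,48,48,0], [63,63,63,63,15,15,0]⟩,
    ⟨[0,2,1,0,1,2,4,3,5], [0,0,0,24,24,0,0], [63,63,63,39,39,63,0]⟩,
    ⟨[0,2,1,0,1,2,5,4,3], [0,0,0,40,0,40,0], [63,63,63,23,63,23,0]⟩,
    ⟨[0,2,1,0,1,3,2,4,5], [0,0,12,12,0,0,0], [63,63,51,51,63,63,0]⟩,
    ⟨[0,2,1,0,1,3,2,5,4], [0,0,12,12,48,48,0], [63,63,51,51,15,15,0]⟩,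
    ⟨[0,2,1,0,1,4,3,2,5], [0,0,20,0,20,0,0], [63,63,43,63,43,63,0]⟩,
    ⟨[0,2,1,0,1,4,5,2,3], [0,0,20,40,20,40,0], [63,63,43,23,43,23,0]⟩,
    ⟨[0,2,1,0,1,5,3,4,2], [0,0,36,0,0,36,0], [63,63,27,63,63,27,0]⟩,
    ⟨[0,2,1,0,1,5,4,3,2], [0,0,36,24,24,36,0], [63,63,27,39,39,27,0]⟩,
    ⟨[0,2,1,0,2,1,3,4,5], [0,6,6,0,0,0,0], [63,57,57,63,63,63,0]⟩,
    ⟨[0,2,1,0,2,1,3,5,4], [0,6,6,0,48,48,0], [63,57,57,63,15,15,0]⟩,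
    ⟨[0,2,1,0,2,1,4,3,5], [0,6,6,24,24,0,0], [63,57,57,39,39,63,0]⟩,
    ⟨[0,2,1,0,2,1,5,4,3], [0,6,6,40,0,40,0], [63,57,57,23,63,23,0]⟩,
    ⟨[0,2,1,0,3,2,1,4,5], [0,10,0,10,0,0,0], [63,53,63,53,63,63,0]⟩,
    ⟨[0,2,1,0,3,2,1,5,4], [0,10,0,10,48,48,0], [63,53,63,53,15,15,0]⟩,
    ⟨[0,2,1,0,3,4,1,2,5], [0,10,20,10,20,0,0], [63,53,43,53,43,63,0]⟩,
    ⟨[0,2,1,0,3,5,1,4,2], [0,10,36,10,0,36,0], [63,53,27,53,63,27,0]⟩,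
    ⟨[0,2,1,0,4,2,3,1,5], [0,18,0,0,18,0,0], [63,45,63,63,45,63,0]⟩,
    ⟨[0,2,1,0,4,2,5,1,3], [0,18,0,40,18,40,0], [63,45,63,23,45,23,0]⟩,
    ⟨[0,2,1,0,4,3,2,1,5], [0,18,12,12,18,0,0], [63,45,51,51,45,63,0]⟩,
    ⟨[0,2,1,0,4,5,3,1,2], [0,18,36,0,18,36,0], [63,45,27,63,45,27,0]⟩,
    ⟨[0,2,1,0,5,2,3,4,1], [0,34,0,0,0,34,0], [63,29,63,63,63,29,0]⟩,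
    ⟨[0,2,1,0,5,2,4,3,1], [0,34,0,24,24,34,0], [63,29,63,39,39,29,0]⟩,
    ⟨[0,2,1,0,5,3,2,4,1], [0,34,12,12,0,34,0], [63,29,51,51,63,29,0]⟩,
    ⟨[0,2,1,0,5,4,3,2,1], [0,34,20,0,20,34,0], [63,29,43,63,43,29,0]⟩,
    ⟨[0,2,1,1,0,2,3,4,5], [3,3,0,0,0,0,0], [60,60,63,63,63,63,0]⟩,
    ⟨[0,2,1,1,0,2,3,5,4], [3,3,0,0,48,48,0], [60,60,63,63,15,15,0]⟩,
    ⟨[0,2,1,1,0,2,4,3,5], [3,3,0,24,24,0,0], [60,60,63,39,39,63,0]⟩,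
    ⟨[0,2,1,1,0,2,5,4,3], [3,3,0,40,0,40,0], [60,60,63,23,63,23,0]⟩,
    ⟨[0,2,1,1,0,3,2,4,5], [3,3,12,12,0,0,0], [60,60,51,51,63,63,0]⟩,
    ⟨[0,2,1,1,0,3,2,5,4], [3,3,12,12,48,48,0], [60,60,51,51,15,15,0]⟩,
    ⟨[0,2,1,1,0,4,3,2,5], [3,3,20,0,20,0,0], [60,60,43,63,43,63,0]⟩,
    ⟨[0,2,1,1,0,4,5,2,3], [3,3,20,40,20,40,0], [60,60,43,23,43,23,0]⟩,
    ⟨[0,2,1,1,0,5,3,4,2], [3,3,36,0,0,36,0], [60,60,27,63,63,27,0]⟩,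
    ⟨[0,2,1,1,0,5,4,3,2], [3,3,36,24,24,36,0], [60,60,27,39,39,27,0]⟩,
    ⟨[0,2,1,2,1,0,3,4,5], [5,0,5,0,0,0,0], [58,63,58,63,63,63,0]⟩,
    ⟨[0,2,1,2,1,0,3,5,4], [5,0,5,0,48,48,0], [58,63,58,63,15,15,0]⟩,
    ⟨[0,2,1,2,1,0,4,3,5], [5,0,5,24,24,0,0], [58,63,58,39,39,63,0]⟩,
    ⟨[0,2,1,2,1,0,5,4,3], [5,0,5,40,0,40,0], [58,63,58,23,63,23,0]⟩,
    ⟨[0,2,1,2,3,0,1,4,5], [5,10,5,10,0,0,0], [58,53,58,53,63,63,0]⟩,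
    ⟨[0,2,1,2,3,0,1,5,4], [5,10,5,10,48,48,0], [58,53,58,53,15,15,0]⟩,
    ⟨[0,2,1,2,4,0,3,1,5], [5,18,5,0,18,0,0], [58,45,58,63,45,63,0]⟩,
    ⟨[0,2,1,2,4,0,5,1,3], [5,18,5,40,18,40,0], [58,45,58,23,45,23,0]⟩,
    ⟨[0,2,1,2,5,0,3,4,1], [5,34,5,0,0,34,0], [58,29,58,63,63,29,0]⟩,
    ⟨[0,2,1,2,5,0,4,3,1], [5,34,5,24,24,34,0], [58,29,58,39,39,29,0]⟩,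
    ⟨[0,2,1,3,1,2,0,4,5], [9,0,0,9,0,0,0], [54,63,63,54,63,63,0]⟩,
    ⟨[0,2,1,3,1,2,0,5,4], [9,0,0,9,48,48,0], [54,63,63,54,15,15,0]⟩,
    ⟨[0,2,1,3,1,4,0,2,5], [9,0,20,9,20,0,0], [54,63,43,54,43,63,0]⟩,
    ⟨[0,2,1,3,1,5,0,4,2], [9,0,36,9,0,36,0], [54,63,27,54,63,27,0]⟩,
    ⟨[0,2,1,3,2,1,0,4,5], [9,6,6,9,0,0,0], [54,57,57,54,63,63,0]⟩,
    ⟨[0,2,1,3,2,1,0,5,4], [9,6,6,9,48,48,0], [54,57,57,54,15,15,0]⟩,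
    ⟨[0,2,1,3,4,2,0,1,5], [9,18,0,9,18,0,0], [54,45,63,54,45,63,0]⟩,
    ⟨[0,2,1,3,4,5,0,1,2], [9,18,36,9,18,36,0], [54,45,27,54,45,27,0]⟩,
    ⟨[0,2,1,3,5,2,0,4,1], [9,34,0,9,0,34,0], [54,29,63,54,63,29,0]⟩,
    ⟨[0,2,1,3,5,4,0,2,1], [9,34,20,9,20,34,0], [54,29,43,54,43,29,0]⟩,
    ⟨[0,2,1,4,1,2,3,0,5], [17,0,0,0,17,0,0], [46,63,63,63,46,63,0]⟩,
    ⟨[0,2,1,4,1,2,5,0,3], [17,0,0,40,17,40,0], [46,63,63,23,46,23,0]⟩,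
    ⟨[0,2,1,4,1,3,2,0,5], [17,0,12,12,17,0,0], [46,63,51,51,46,63,0]⟩,
    ⟨[0,2,1,4,1,5,3,0,2], [17,0,36,0,17,36,0], [46,63,27,63,46,27,0]⟩,
    ⟨[0,2,1,4,2,1,3,0,5], [17,6,6,0,17,0,0], [46,57,57,63,46,63,0]⟩,
    ⟨[0,2,1,4,2,1,5,0,3], [17,6,6,40,17,40,0], [46,57,57,23,46,23,0]⟩,
    ⟨[0,2,1,4,3,2,1,0,5], [17,10,0,10,17,0,0], [46,53,63,53,46,63,0]⟩,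
    ⟨[0,2,1,4,3,5,1,0,2], [17,10,36,10,17,36,0], [46,53,27,53,46,27,0]⟩,
    ⟨[0,2,1,4,5,2,3,0,1], [17,34,0,0,17,34,0], [46,29,63,63,46,29,0]⟩,
    ⟨[0,2,1,4,5,3,2,0,1], [17,34,12,12,17,34,0], [46,29,51,51,46,29,0]⟩,
    ⟨[0,2,1,5,1,2,3,4,0], [33,0,0,0,0,33,0], [30,63,63,63,63,30,0]⟩,
    ⟨[0,2,1,5,1,2,4,3,0], [33,0,0,24,24,33,0], [30,63,63,39,39,30,0]⟩,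
    ⟨[0,2,1,5,1,3,2,4,0], [33,0,12,12,0,33,0], [30,63,51,51,63,30,0]⟩,
    ⟨[0,2,1,5,1,4,3,2,0], [33,0,20,0,20,33,0], [30,63,43,63,43,30,0]⟩,
    ⟨[0,2,1,5,2,1,3,4,0], [33,6,6,0,0,33,0], [30,57,57,63,63,30,0]⟩,
    ⟨[0,2,1,5,2,1,4,3,0], [33,6,6,24,24,33,0], [30,57,57,39,39,30,0]⟩,
    ⟨[0,2,1,5,3,2,1,4,0], [33,10,0,10,0,33,0], [30,53,63,53,63,30,0]⟩,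
    ⟨[0,2,1,5,3,4,1,2,0], [33,10,20,10,20,33,0], [30,53,43,53,43,30,0]⟩,
    ⟨[0,2,1,5,4,2,3,1,0], [33,18,0,0,18,33,0], [30,45,63,63,45,30,0]⟩,
    ⟨[0,2,1,5,4,3,2,1,0], [33,18,12,12,18,33,0], [30,45,51,51,45,30,0]⟩]

/-- sum false: a = Equiv.swap 1 2, b = 1, eps = True -/
def dF10e : Datum where
  kind := Kind.sum false
  a := Equiv.swap 1 2
  b := 1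
  e := true
  bs := [3,5,9,17,33,64]
  cand := [
    ⟨[0,1,2,0,1,2,3,4,5], [0,0,0,0,0,0], [0,0,0,0,0,0]⟩,
    ⟨[0,1,2,0,1,2,3,5,4], [0,0,0,48,48,0], [0,0,0,48,48,0]⟩,
    ⟨[0,1,2,0,1,2,4,3,5], [0,0,24,24,0,0], [0,0,24,24,0,0]⟩,
    ⟨[0,1,2,0,1,2,5,4,3], [0,0,40,0,40,0], [0,0,40,0,40,0]⟩,
    ⟨[0,1,2,0,1,3,2,4,5], [0,12,12,0,0,0], [0,12,12,0,0,0]⟩,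
    ⟨[0,1,2,0,1,3,2,5,4], [0,12,12,48,48,0], [0,12,12,48,48,0]⟩,
    ⟨[0,1,2,0,1,4,3,2,5], [0,20,0,20,0,0], [0,20,0,20,0,0]⟩,
    ⟨[0,1,2,0,1,4,5,2,3], [0,20,40,20,40,0], [0,20,40,20,40,0]⟩,
    ⟨[0,1,2,0,1,5,3,4,2], [0,36,0,0,36,0], [0,36,0,0,36,0]⟩,
    ⟨[0,1,2,0,1,5,4,3,2], [0,36,24,24,36,0], [0,36,24,24,36,0]⟩,
    ⟨[0,1,2,0,2,1,3,4,5], [6,6,0,0,0,0], [6,6,0,0,0,0]⟩,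
    ⟨[0,1,2,0,2,1,3,5,4], [6,6,0,48,48,0], [6,6,0,48,48,0]⟩,
    ⟨[0,1,2,0,2,1,4,3,5], [6,6,24,24,0,0], [6,6,24,24,0,0]⟩,
    ⟨[0,1,2,0,2,1,5,4,3], [6,6,40,0,40,0], [6,6,40,0,40,0]⟩,
    ⟨[0,1,2,0,3,2,1,4,5], [10,0,10,0,0,0], [10,0,10,0,0,0]⟩,
    ⟨[0,1,2,0,3,2,1,5,4], [10,0,10,48,48,0], [10,0,10,48,48,0]⟩,
    ⟨[0,1,2,0,3,4,1,2,5], [10,20,10,20,0,0], [10,20,10,20,0,0]⟩,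
    ⟨[0,1,2,0,3,5,1,4,2], [10,36,10,0,36,0], [10,36,10,0,36,0]⟩,
    ⟨[0,1,2,0,4,2,3,1,5], [18,0,0,18,0,0], [18,0,0,18,0,0]⟩,
    ⟨[0,1,2,0,4,2,5,1,3], [18,0,40,18,40,0], [18,0,40,18,40,0]⟩,
    ⟨[0,1,2,0,4,3,2,1,5], [18,12,12,18,0,0], [18,12,12,18,0,0]⟩,
    ⟨[0,1,2,0,4,5,3,1,2], [18,36,0,18,36,0], [18,36,0,18,36,0]⟩,
    ⟨[0,1,2,0,5,2,3,4,1], [34,0,0,0,34,0], [34,0,0,0,34,0]⟩,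
    ⟨[0,1,2,0,5,2,4,3,1], [34,0,24,24,34,0], [34,0,24,24,34,0]⟩,
    ⟨[0,1,2,0,5,3,2,4,1], [34,12,12,0,34,0], [34,12,12,0,34,0]⟩,
    ⟨[0,1,2,0,5,4,3,2,1], [34,20,0,20,34,0], [34,20,0,20,34,0]⟩,
    ⟨[0,1,2,1,0,2,3,4,5], [0,3,3,3,3,0], [0,3,3,3,3,0]⟩,
    ⟨[0,1,2,1,0,2,3,5,4], [0,3,3,51,51,0], [0,3,3,51,51,0]⟩,
    ⟨[0,1,2,1,0,2,4,3,5], [0,3,27,27,3,0], [0,3,27,27,3,0]⟩,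
    ⟨[0,1,2,1,0,2,5,4,3], [0,3,43,3,43,0], [0,3,43,3,43,0]⟩,
    ⟨[0,1,2,1,0,3,2,4,5], [0,15,15,3,3,0], [0,15,15,3,3,0]⟩,
    ⟨[0,1,2,1,0,3,2,5,4], [0,15,15,51,51,0], [0,15,15,51,51,0]⟩,
    ⟨[0,1,2,1,0,4,3,2,5], [0,23,3,23,3,0], [0,23,3,23,3,0]⟩,
    ⟨[0,1,2,1,0,4,5,2,3], [0,23,43,23,43,0], [0,23,43,23,43,0]⟩,
    ⟨[0,1,2,1,0,5,3,4,2], [0,39,3,3,39,0], [0,39,3,3,39,0]⟩,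
    ⟨[0,1,2,1,0,5,4,3,2], [0,39,27,27,39,0], [0,39,27,27,39,0]⟩,
    ⟨[0,1,2,2,1,0,3,4,5], [5,0,5,5,5,0], [5,0,5,5,5,0]⟩,
    ⟨[0,1,2,2,1,0,3,5,4], [5,0,5,53,53,0], [5,0,5,53,53,0]⟩,
    ⟨[0,1,2,2,1,0,4,3,5], [5,0,29,29,5,0], [5,0,29,29,5,0]⟩,
    ⟨[0,1,2,2,1,0,5,4,3], [5,0,45,5,45,0], [5,0,45,5,45,0]⟩,
    ⟨[0,1,2,2,3,0,1,4,5], [15,0,15,5,5,0], [15,0,15,5,5,0]⟩,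
    ⟨[0,1,2,2,3,0,1,5,4], [15,0,15,53,53,0], [15,0,15,53,53,0]⟩,
    ⟨[0,1,2,2,4,0,3,1,5], [23,0,5,23,5,0], [23,0,5,23,5,0]⟩,
    ⟨[0,1,2,2,4,0,5,1,3], [23,0,45,23,45,0], [23,0,45,23,45,0]⟩,
    ⟨[0,1,2,2,5,0,3,4,1], [39,0,5,5,39,0], [39,0,5,5,39,0]⟩,
    ⟨[0,1,2,2,5,0,4,3,1], [39,0,29,29,39,0], [39,0,29,29,39,0]⟩,
    ⟨[0,1,2,3,1,2,0,4,5], [9,9,0,9,9,0], [9,9,0,9,9,0]⟩,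
    ⟨[0,1,2,3,1,2,0,5,4], [9,9,0,57,57,0], [9,9,0,57,57,0]⟩,
    ⟨[0,1,2,3,1,4,0,2,5], [9,29,0,29,9,0], [9,29,0,29,9,0]⟩,
    ⟨[0,1,2,3,1,5,0,4,2], [9,45,0,9,45,0], [9,45,0,9,45,0]⟩,
    ⟨[0,1,2,3,2,1,0,4,5], [15,15,0,9,9,0], [15,15,0,9,9,0]⟩,
    ⟨[0,1,2,3,2,1,0,5,4], [15,15,0,57,57,0], [15,15,0,57,57,0]⟩,
    ⟨[0,1,2,3,4,2,0,1,5], [27,9,0,27,9,0], [27,9,0,27,9,0]⟩,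
    ⟨[0,1,2,3,4,5,0,1,2], [27,45,0,27,45,0], [27,45,0,27,45,0]⟩,
    ⟨[0,1,2,3,5,2,0,4,1], [43,9,0,9,43,0], [43,9,0,9,43,0]⟩,
    ⟨[0,1,2,3,5,4,0,2,1], [43,29,0,29,43,0], [43,29,0,29,43,0]⟩,
    ⟨[0,1,2,4,1,2,3,0,5], [17,17,17,0,17,0], [17,17,17,0,17,0]⟩,
    ⟨[0,1,2,4,1,2,5,0,3], [17,17,57,0,57,0], [17,17,57,0,57,0]⟩,
    ⟨[0,1,2,4,1,3,2,0,5], [17,29,29,0,17,0], [17,29,29,0,17,0]⟩,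
    ⟨[0,1,2,4,1,5,3,0,2], [17,53,17,0,53,0], [17,53,17,0,53,0]⟩,
    ⟨[0,1,2,4,2,1,3,0,5], [23,23,17,0,17,0], [23,23,17,0,17,0]⟩,
    ⟨[0,1,2,4,2,1,5,0,3], [23,23,57,0,57,0], [23,23,57,0,57,0]⟩,
    ⟨[0,1,2,4,3,2,1,0,5], [27,17,27,0,17,0], [27,17,27,0,17,0]⟩,
    ⟨[0,1,2,4,3,5,1,0,2], [27,53,27,0,53,0], [27,53,27,0,53,0]⟩,
    ⟨[0,1,2,4,5,2,3,0,1], [51,17,17,0,51,0], [51,17,17,0,51,0]⟩,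
    ⟨[0,1,2,4,5,3,2,0,1], [51,29,29,0,51,0], [51,29,29,0,51,0]⟩,
    ⟨[0,1,2,5,1,2,3,4,0], [33,33,33,33,0,0], [33,33,33,33,0,0]⟩,
    ⟨[0,1,2,5,1,2,4,3,0], [33,33,57,57,0,0], [33,33,57,57,0,0]⟩,
    ⟨[0,1,2,5,1,3,2,4,0], [33,45,45,33,0,0], [33,45,45,33,0,0]⟩,
    ⟨[0,1,2,5,1,4,3,2,0], [33,53,33,53,0,0], [33,53,33,53,0,0]⟩,
    ⟨[0,1,2,5,2,1,3,4,0], [39,39,33,33,0,0], [39,39,33,33,0,0]⟩,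
    ⟨[0,1,2,5,2,1,4,3,0], [39,39,57,57,0,0], [39,39,57,57,0,0]⟩,
    ⟨[0,1,2,5,3,2,1,4,0], [43,33,43,33,0,0], [43,33,43,33,0,0]⟩,
    ⟨[0,1,2,5,3,4,1,2,0], [43,53,43,53,0,0], [43,53,43,53,0,0]⟩,
    ⟨[0,1,2,5,4,2,3,1,0], [51,33,33,51,0,0], [51,33,33,51,0,0]⟩,
    ⟨[0,1,2,5,4,3,2,1,0], [51,45,45,51,0,0], [51,45,45,51,0,0]⟩,
    ⟨[0,2,1,0,1,2,3,4,5], [0,0,0,0,0,0], [0,0,0,0,0,0]⟩,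
    ⟨[0,2,1,0,1,2,3,5,4], [0,0,0,48,48,0], [0,0,0,48,48,0]⟩,
    ⟨[0,2,1,0,1,2,4,3,5], [0,0,24,24,0,0], [0,0,24,24,0,0]⟩,
    ⟨[0,2,1,0,1,2,5,4,3], [0,0,40,0,40,0], [0,0,40,0,40,0]⟩,
    ⟨[0,2,1,0,1,3,2,4,5], [0,12,12,0,0,0], [0,12,12,0,0,0]⟩,
    ⟨[0,2,1,0,1,3,2,5,4], [0,12,12,48,48,0], [0,12,12,48,48,0]⟩,
    ⟨[0,2,1,0,1,4,3,2,5], [0,20,0,20,0,0], [0,20,0,20,0,0]⟩,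
    ⟨[0,2,1,0,1,4,5,2,3], [0,20,40,20,40,0], [0,20,40,20,40,0]⟩,
    ⟨[0,2,1,0,1,5,3,4,2], [0,36,0,0,36,0], [0,36,0,0,36,0]⟩,
    ⟨[0,2,1,0,1,5,4,3,2], [0,36,24,24,36,0], [0,36,24,24,36,0]⟩,
    ⟨[0,2,1,0,2,1,3,4,5], [6,6,0,0,0,0], [6,6,0,0,0,0]⟩,
    ⟨[0,2,1,0,2,1,3,5,4], [6,6,0,48,48,0], [6,6,0,48,48,0]⟩,
    ⟨[0,2,1,0,2,1,4,3,5], [6,6,24,24,0,0], [6,6,24,24,0,0]⟩,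
    ⟨[0,2,1,0,2,1,5,4,3], [6,6,40,0,40,0], [6,6,40,0,40,0]⟩,
    ⟨[0,2,1,0,3,2,1,4,5], [10,0,10,0,0,0], [10,0,10,0,0,0]⟩,
    ⟨[0,2,1,0,3,2,1,5,4], [10,0,10,48,48,0], [10,0,10,48,48,0]⟩,
    ⟨[0,2,1,0,3,4,1,2,5], [10,20,10,20,0,0], [10,20,10,20,0,0]⟩,
    ⟨[0,2,1,0,3,5,1,4,2], [10,36,10,0,36,0], [10,36,10,0,36,0]⟩,
    ⟨[0,2,1,0,4,2,3,1,5], [18,0,0,18,0,0], [18,0,0,18,0,0]⟩,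
    ⟨[0,2,1,0,4,2,5,1,3], [18,0,40,18,40,0], [18,0,40,18,40,0]⟩,
    ⟨[0,2,1,0,4,3,2,1,5], [18,12,12,18,0,0], [18,12,12,18,0,0]⟩,
    ⟨[0,2,1,0,4,5,3,1,2], [18,36,0,18,36,0], [18,36,0,18,36,0]⟩,
    ⟨[0,2,1,0,5,2,3,4,1], [34,0,0,0,34,0], [34,0,0,0,34,0]⟩,
    ⟨[0,2,1,0,5,2,4,3,1], [34,0,24,24,34,0], [34,0,24,24,34,0]⟩,
    ⟨[0,2,1,0,5,3,2,4,1], [34,12,12,0,34,0], [34,12,12,0,34,0]⟩,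
    ⟨[0,2,1,0,5,4,3,2,1], [34,20,0,20,34,0], [34,20,0,20,34,0]⟩,
    ⟨[0,2,1,1,0,2,3,4,5], [0,3,3,3,3,0], [0,3,3,3,3,0]⟩,
    ⟨[0,2,1,1,0,2,3,5,4], [0,3,3,51,51,0], [0,3,3,51,51,0]⟩,
    ⟨[0,2,1,1,0,2,4,3,5], [0,3,27,27,3,0], [0,3,27,27,3,0]⟩,
    ⟨[0,2,1,1,0,2,5,4,3], [0,3,43,3,43,0], [0,3,43,3,43,0]⟩,
    ⟨[0,2,1,1,0,3,2,4,5], [0,15,15,3,3,0], [0,15,15,3,3,0]⟩,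
    ⟨[0,2,1,1,0,3,2,5,4], [0,15,15,51,51,0], [0,15,15,51,51,0]⟩,
    ⟨[0,2,1,1,0,4,3,2,5], [0,23,3,23,3,0], [0,23,3,23,3,0]⟩,
    ⟨[0,2,1,1,0,4,5,2,3], [0,23,43,23,43,0], [0,23,43,23,43,0]⟩,
    ⟨[0,2,1,1,0,5,3,4,2], [0,39,3,3,39,0], [0,39,3,3,39,0]⟩,
    ⟨[0,2,1,1,0,5,4,3,2], [0,39,27,27,39,0], [0,39,27,27,39,0]⟩,
    ⟨[0,2,1,2,1,0,3,4,5], [5,0,5,5,5,0], [5,0,5,5,5,0]⟩,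
    ⟨[0,2,1,2,1,0,3,5,4], [5,0,5,53,53,0], [5,0,5,53,53,0]⟩,
    ⟨[0,2,1,2,1,0,4,3,5], [5,0,29,29,5,0], [5,0,29,29,5,0]⟩,
    ⟨[0,2,1,2,1,0,5,4,3], [5,0,45,5,45,0], [5,0,45,5,45,0]⟩,
    ⟨[0,2,1,2,3,0,1,4,5], [15,0,15,5,5,0], [15,0,15,5,5,0]⟩,
    ⟨[0,2,1,2,3,0,1,5,4], [15,0,15,53,53,0], [15,0,15,53,53,0]⟩,
    ⟨[0,2,1,2,4,0,3,1,5], [23,0,5,23,5,0], [23,0,5,23,5,0]⟩,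
    ⟨[0,2,1,2,4,0,5,1,3], [23,0,45,23,45,0], [23,0,45,23,45,0]⟩,
    ⟨[0,2,1,2,5,0,3,4,1], [39,0,5,5,39,0], [39,0,5,5,39,0]⟩,
    ⟨[0,2,1,2,5,0,4,3,1], [39,0,29,29,39,0], [39,0,29,29,39,0]⟩,
    ⟨[0,2,1,3,1,2,0,4,5], [9,9,0,9,9,0], [9,9,0,9,9,0]⟩,
    ⟨[0,2,1,3,1,2,0,5,4], [9,9,0,57,57,0], [9,9,0,57,57,0]⟩,
    ⟨[0,2,1,3,1,4,0,2,5], [9,29,0,29,9,0], [9,29,0,29,9,0]⟩,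
    ⟨[0,2,1,3,1,5,0,4,2], [9,45,0,9,45,0], [9,45,0,9,45,0]⟩,
    ⟨[0,2,1,3,2,1,0,4,5], [15,15,0,9,9,0], [15,15,0,9,9,0]⟩,
    ⟨[0,2,1,3,2,1,0,5,4], [15,15,0,57,57,0], [15,15,0,57,57,0]⟩,
    ⟨[0,2,1,3,4,2,0,1,5], [27,9,0,27,9,0], [27,9,0,27,9,0]⟩,
    ⟨[0,2,1,3,4,5,0,1,2], [27,45,0,27,45,0], [27,45,0,27,45,0]⟩,
    ⟨[0,2,1,3,5,2,0,4,1], [43,9,0,9,43,0], [43,9,0,9,43,0]⟩,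
    ⟨[0,2,1,3,5,4,0,2,1], [43,29,0,29,43,0], [43,29,0,29,43,0]⟩,
    ⟨[0,2,1,4,1,2,3,0,5], [17,17,17,0,17,0], [17,17,17,0,17,0]⟩,
    ⟨[0,2,1,4,1,2,5,0,3], [17,17,57,0,57,0], [17,17,57,0,57,0]⟩,
    ⟨[0,2,1,4,1,3,2,0,5], [17,29,29,0,17,0], [17,29,29,0,17,0]⟩,
    ⟨[0,2,1,4,1,5,3,0,2], [17,53,17,0,53,0], [17,53,17,0,53,0]⟩,
    ⟨[0,2,1,4,2,1,3,0,5], [23,23,17,0,17,0], [23,23,17,0,17,0]⟩,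
    ⟨[0,2,1,4,2,1,5,0,3], [23,23,57,0,57,0], [23,23,57,0,57,0]⟩,
    ⟨[0,2,1,4,3,2,1,0,5], [27,17,27,0,17,0], [27,17,27,0,17,0]⟩,
    ⟨[0,2,1,4,3,5,1,0,2], [27,53,27,0,53,0], [27,53,27,0,53,0]⟩,
    ⟨[0,2,1,4,5,2,3,0,1], [51,17,17,0,51,0], [51,17,17,0,51,0]⟩,
    ⟨[0,2,1,4,5,3,2,0,1], [51,29,29,0,51,0], [51,29,29,0,51,0]⟩,
    ⟨[0,2,1,5,1,2,3,4,0], [33,33,33,33,0,0], [33,33,33,33,0,0]⟩,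
    ⟨[0,2,1,5,1,2,4,3,0], [33,33,57,57,0,0], [33,33,57,57,0,0]⟩,
    ⟨[0,2,1,5,1,3,2,4,0], [33,45,45,33,0,0], [33,45,45,33,0,0]⟩,
    ⟨[0,2,1,5,1,4,3,2,0], [33,53,33,53,0,0], [33,53,33,53,0,0]⟩,
    ⟨[0,2,1,5,2,1,3,4,0], [39,39,33,33,0,0], [39,39,33,33,0,0]⟩,
    ⟨[0,2,1,5,2,1,4,3,0], [39,39,57,57,0,0], [39,39,57,57,0,0]⟩,
    ⟨[0,2,1,5,3,2,1,4,0], [43,33,43,33,0,0], [43,33,43,33,0,0]⟩,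
    ⟨[0,2,1,5,3,4,1,2,0], [43,53,43,53,0,0], [43,53,43,53,0,0]⟩,
    ⟨[0,2,1,5,4,2,3,1,0], [51,33,33,51,0,0], [51,33,33,51,0,0]⟩,
    ⟨[0,2,1,5,4,3,2,1,0], [51,45,45,51,0,0], [51,45,45,51,0,0]⟩]

/-- sum false: a = Equiv.swap 1 2, b = Equiv.swap 4 5, eps = False -/
def dF11n : Datum where
  kind := Kind.sum false
  a := Equiv.swap 1 2
  b := Equiv.swap 4 5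
  e := false
  bs := [1,2,4,8,48,64]
  cand := [
    ⟨[0,1,2,0,1,2,3,4,5], [0,0,0,0,0,0], [63,63,63,63,0,0]⟩,
    ⟨[0,1,2,0,1,2,3,5,4], [0,0,0,0,0,0], [63,63,63,63,0,0]⟩,
    ⟨[0,1,2,0,1,3,2,4,5], [0,0,12,12,0,0], [63,63,51,51,0,0]⟩,
    ⟨[0,1,2,0,1,3,2,5,4], [0,0,12,12,0,0], [63,63,51,51,0,0]⟩,
    ⟨[0,1,2,0,2,1,3,4,5], [0,6,6,0,0,0], [63,57,57,63,0,0]⟩,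
    ⟨[0,1,2,0,2,1,3,5,4], [0,6,6,0,0,0], [63,57,57,63,0,0]⟩,
    ⟨[0,1,2,0,3,2,1,4,5], [0,10,0,10,0,0], [63,53,63,53,0,0]⟩,
    ⟨[0,1,2,0,3,2,1,5,4], [0,10,0,10,0,0], [63,53,63,53,0,0]⟩,
    ⟨[0,1,2,1,0,2,3,4,5], [3,3,0,0,0,0], [60,60,63,63,0,0]⟩,
    ⟨[0,1,2,1,0,2,3,5,4], [3,3,0,0,0,0], [60,60,63,63,0,0]⟩,
    ⟨[0,1,2,1,0,3,2,4,5], [3,3,12,12,0,0], [60,60,51,51,0,0]⟩,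
    ⟨[0,1,2,1,0,3,2,5,4], [3,3,12,12,0,0], [60,60,51,51,0,0]⟩,
    ⟨[0,1,2,2,1,0,3,4,5], [5,0,5,0,0,0], [58,63,58,63,0,0]⟩,
    ⟨[0,1,2,2,1,0,3,5,4], [5,0,5,0,0,0], [58,63,58,63,0,0]⟩,
    ⟨[0,1,2,2,3,0,1,4,5], [5,10,5,10,0,0], [58,53,58,53,0,0]⟩,
    ⟨[0,1,2,2,3,0,1,5,4], [5,10,5,10,0,0], [58,53,58,53,0,0]⟩,
    ⟨[0,1,2,3,1,2,0,4,5], [9,0,0,9,0,0], [54,63,63,54,0,0]⟩,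
    ⟨[0,1,2,3,1,2,0,5,4], [9,0,0,9,0,0], [54,63,63,54,0,0]⟩,
    ⟨[0,1,2,3,2,1,0,4,5], [9,6,6,9,0,0], [54,57,57,54,0,0]⟩,
    ⟨[0,1,2,3,2,1,0,5,4], [9,6,6,9,0,0], [54,57,57,54,0,0]⟩,
    ⟨[0,2,1,0,1,2,3,4,5], [0,0,0,0,0,0], [63,63,63,63,0,0]⟩,
    ⟨[0,2,1,0,1,2,3,5,4], [0,0,0,0,0,0], [63,63,63,63,0,0]⟩,
    ⟨[0,2,1,0,1,3,2,4,5], [0,0,12,12,0,0], [63,63,51,51,0,0]⟩,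
    ⟨[0,2,1,0,1,3,2,5,4], [0,0,12,12,0,0], [63,63,51,51,0,0]⟩,
    ⟨[0,2,1,0,2,1,3,4,5], [0,6,6,0,0,0], [63,57,57,63,0,0]⟩,
    ⟨[0,2,1,0,2,1,3,5,4], [0,6,6,0,0,0], [63,57,57,63,0,0]⟩,
    ⟨[0,2,1,0,3,2,1,4,5], [0,10,0,10,0,0], [63,53,63,53,0,0]⟩,
    ⟨[0,2,1,0,3,2,1,5,4], [0,10,0,10,0,0], [63,53,63,53,0,0]⟩,
    ⟨[0,2,1,1,0,2,3,4,5], [3,3,0,0,0,0], [60,60,63,63,0,0]⟩,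
    ⟨[0,2,1,1,0,2,3,5,4], [3,3,0,0,0,0], [60,60,63,63,0,0]⟩,
    ⟨[0,2,1,1,0,3,2,4,5], [3,3,12,12,0,0], [60,60,51,51,0,0]⟩,
    ⟨[0,2,1,1,0,3,2,5,4], [3,3,12,12,0,0], [60,60,51,51,0,0]⟩,
    ⟨[0,2,1,2,1,0,3,4,5], [5,0,5,0,0,0], [58,63,58,63,0,0]⟩,
    ⟨[0,2,1,2,1,0,3,5,4], [5,0,5,0,0,0], [58,63,58,63,0,0]⟩,
    ⟨[0,2,1,2,3,0,1,4,5], [5,10,5,10,0,0], [58,53,58,53,0,0]⟩,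
    ⟨[0,2,1,2,3,0,1,5,4], [5,10,5,10,0,0], [58,53,58,53,0,0]⟩,
    ⟨[0,2,1,3,1,2,0,4,5], [9,0,0,9,0,0], [54,63,63,54,0,0]⟩,
    ⟨[0,2,1,3,1,2,0,5,4], [9,0,0,9,0,0], [54,63,63,54,0,0]⟩,
    ⟨[0,2,1,3,2,1,0,4,5], [9,6,6,9,0,0], [54,57,57,54,0,0]⟩,
    ⟨[0,2,1,3,2,1,0,5,4], [9,6,6,9,0,0], [54,57,57,54,0,0]⟩]

/-- sum false: a = Equiv.swap 1 2, b = Equiv.swap 4 5, eps = True -/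
def dF11e : Datum where
  kind := Kind.sum false
  a := Equiv.swap 1 2
  b := Equiv.swap 4 5
  e := true
  bs := [3,5,9,48,64]
  cand := [
    ⟨[0,1,2,0,1,2,3,4,5], [0,0,0,0,0], [0,0,0,0,0]⟩,
    ⟨[0,1,2,0,1,2,3,5,4], [0,0,0,0,0], [0,0,0,0,0]⟩,
    ⟨[0,1,2,0,1,3,2,4,5], [0,12,12,0,0], [0,12,12,0,0]⟩,
    ⟨[0,1,2,0,1,3,2,5,4], [0,12,12,0,0], [0,12,12,0,0]⟩,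
    ⟨[0,1,2,0,2,1,3,4,5], [6,6,0,0,0], [6,6,0,0,0]⟩,
    ⟨[0,1,2,0,2,1,3,5,4], [6,6,0,0,0], [6,6,0,0,0]⟩,
    ⟨[0,1,2,0,3,2,1,4,5], [10,0,10,0,0], [10,0,10,0,0]⟩,
    ⟨[0,1,2,0,3,2,1,5,4], [10,0,10,0,0], [10,0,10,0,0]⟩,
    ⟨[0,1,2,1,0,2,3,4,5], [0,3,3,0,0], [0,3,3,0,0]⟩,
    ⟨[0,1,2,1,0,2,3,5,4], [0,3,3,0,0], [0,3,3,0,0]⟩,
    ⟨[0,1,2,1,0,3,2,4,5], [0,15,15,0,0], [0,15,15,0,0]⟩,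
    ⟨[0,1,2,1,0,3,2,5,4], [0,15,15,0,0], [0,15,15,0,0]⟩,
    ⟨[0,1,2,2,1,0,3,4,5], [5,0,5,0,0], [5,0,5,0,0]⟩,
    ⟨[0,1,2,2,1,0,3,5,4], [5,0,5,0,0], [5,0,5,0,0]⟩,
    ⟨[0,1,2,2,3,0,1,4,5], [15,0,15,0,0], [15,0,15,0,0]⟩,
    ⟨[0,1,2,2,3,0,1,5,4], [15,0,15,0,0], [15,0,15,0,0]⟩,
    ⟨[0,1,2,3,1,2,0,4,5], [9,9,0,0,0], [9,9,0,0,0]⟩,
    ⟨[0,1,2,3,1,2,0,5,4], [9,9,0,0,0], [9,9,0,0,0]⟩,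
    ⟨[0,1,2,3,2,1,0,4,5], [15,15,0,0,0], [15,15,0,0,0]⟩,
    ⟨[0,1,2,3,2,1,0,5,4], [15,15,0,0,0], [15,15,0,0,0]⟩,
    ⟨[0,2,1,0,1,2,3,4,5], [0,0,0,0,0], [0,0,0,0,0]⟩,
    ⟨[0,2,1,0,1,2,3,5,4], [0,0,0,0,0], [0,0,0,0,0]⟩,
    ⟨[0,2,1,0,1,3,2,4,5], [0,12,12,0,0], [0,12,12,0,0]⟩,
    ⟨[0,2,1,0,1,3,2,5,4], [0,12,12,0,0], [0,12,12,0,0]⟩,
    ⟨[0,2,1,0,2,1,3,4,5], [6,6,0,0,0], [6,6,0,0,0]⟩,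
    ⟨[0,2,1,0,2,1,3,5,4], [6,6,0,0,0], [6,6,0,0,0]⟩,
    ⟨[0,2,1,0,3,2,1,4,5], [10,0,10,0,0], [10,0,10,0,0]⟩,
    ⟨[0,2,1,0,3,2,1,5,4], [10,0,10,0,0], [10,0,10,0,0]⟩,
    ⟨[0,2,1,1,0,2,3,4,5], [0,3,3,0,0], [0,3,3,0,0]⟩,
    ⟨[0,2,1,1,0,2,3,5,4], [0,3,3,0,0], [0,3,3,0,0]⟩,
    ⟨[0,2,1,1,0,3,2,4,5], [0,15,15,0,0], [0,15,15,0,0]⟩,
    ⟨[0,2,1,1,0,3,2,5,4], [0,15,15,0,0], [0,15,15,0,0]⟩,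
    ⟨[0,2,1,2,1,0,3,4,5], [5,0,5,0,0], [5,0,5,0,0]⟩,
    ⟨[0,2,1,2,1,0,3,5,4], [5,0,5,0,0], [5,0,5,0,0]⟩,
    ⟨[0,2,1,2,3,0,1,4,5], [15,0,15,0,0], [15,0,15,0,0]⟩,
    ⟨[0,2,1,2,3,0,1,5,4], [15,0,15,0,0], [15,0,15,0,0]⟩,
    ⟨[0,2,1,3,1,2,0,4,5], [9,9,0,0,0], [9,9,0,0,0]⟩,
    ⟨[0,2,1,3,1,2,0,5,4], [9,9,0,0,0], [9,9,0,0,0]⟩,
    ⟨[0,2,1,3,2,1,0,4,5], [15,15,0,0,0], [15,15,0,0,0]⟩,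
    ⟨[0,2,1,3,2,1,0,5,4], [15,15,0,0,0], [15,15,0,0,0]⟩]

/-- sum false: a = Equiv.swap 1 2, b = Equiv.swap 2 3 * Equiv.swap 4 5, eps = False -/
def dF12n : Datum where
  kind := Kind.sum false
  a := Equiv.swap 1 2
  b := Equiv.swap 2 3 * Equiv.swap 4 5
  e := false
  bs := [1,2,12,48,64]
  cand := [
    ⟨[0,1,2,0,1,2,3,4,5], [0,0,0,0,0], [63,63,0,0,0]⟩,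
    ⟨[0,1,2,0,1,2,3,5,4], [0,0,0,0,0], [63,63,0,0,0]⟩,
    ⟨[0,1,2,0,1,3,2,4,5], [0,0,0,0,0], [63,63,0,0,0]⟩,
    ⟨[0,1,2,0,1,3,2,5,4], [0,0,0,0,0], [63,63,0,0,0]⟩,
    ⟨[0,1,2,0,1,4,5,2,3], [0,0,60,60,0], [63,63,60,60,0]⟩,
    ⟨[0,1,2,0,1,5,4,3,2], [0,0,60,60,0], [63,63,60,60,0]⟩,
    ⟨[0,1,2,1,0,2,3,4,5], [3,3,0,0,0], [60,60,0,0,0]⟩,
    ⟨[0,1,2,1,0,2,3,5,4], [3,3,0,0,0], [60,60,0,0,0]⟩,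
    ⟨[0,1,2,1,0,3,2,4,5], [3,3,0,0,0], [60,60,0,0,0]⟩,
    ⟨[0,1,2,1,0,3,2,5,4], [3,3,0,0,0], [60,60,0,0,0]⟩,
    ⟨[0,1,2,1,0,4,5,2,3], [3,3,60,60,0], [60,60,60,60,0]⟩,
    ⟨[0,1,2,1,0,5,4,3,2], [3,3,60,60,0], [60,60,60,60,0]⟩,
    ⟨[0,2,1,0,1,2,3,4,5], [0,0,0,0,0], [63,63,0,0,0]⟩,
    ⟨[0,2,1,0,1,2,3,5,4], [0,0,0,0,0], [63,63,0,0,0]⟩,
    ⟨[0,2,1,0,1,3,2,4,5], [0,0,0,0,0], [63,63,0,0,0]⟩,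
    ⟨[0,2,1,0,1,3,2,5,4], [0,0,0,0,0], [63,63,0,0,0]⟩,
    ⟨[0,2,1,0,1,4,5,2,3], [0,0,60,60,0], [63,63,60,60,0]⟩,
    ⟨[0,2,1,0,1,5,4,3,2], [0,0,60,60,0], [63,63,60,60,0]⟩,
    ⟨[0,2,1,1,0,2,3,4,5], [3,3,0,0,0], [60,60,0,0,0]⟩,
    ⟨[0,2,1,1,0,2,3,5,4], [3,3,0,0,0], [60,60,0,0,0]⟩,
    ⟨[0,2,1,1,0,3,2,4,5], [3,3,0,0,0], [60,60,0,0,0]⟩,
    ⟨[0,2,1,1,0,3,2,5,4], [3,3,0,0,0], [60,60,0,0,0]⟩,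
    ⟨[0,2,1,1,0,4,5,2,3], [3,3,60,60,0], [60,60,60,60,0]⟩,
    ⟨[0,2,1,1,0,5,4,3,2], [3,3,60,60,0], [60,60,60,60,0]⟩]

/-- sum false: a = Equiv.swap 1 2, b = Equiv.swap 2 3 * Equiv.swap 4 5, eps = True -/
def dF12e : Datum where
  kind := Kind.sum false
  a := Equiv.swap 1 2
  b := Equiv.swap 2 3 * Equiv.swap 4 5
  e := true
  bs := [3,12,48,64]
  cand := [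
    ⟨[0,1,2,0,1,2,3,4,5], [0,0,0,0], [0,0,0,0]⟩,
    ⟨[0,1,2,0,1,2,3,5,4], [0,0,0,0], [0,0,0,0]⟩,
    ⟨[0,1,2,0,1,3,2,4,5], [0,0,0,0], [0,0,0,0]⟩,
    ⟨[0,1,2,0,1,3,2,5,4], [0,0,0,0], [0,0,0,0]⟩,
    ⟨[0,1,2,0,1,4,5,2,3], [0,60,60,0], [0,60,60,0]⟩,
    ⟨[0,1,2,0,1,5,4,3,2], [0,60,60,0], [0,60,60,0]⟩,
    ⟨[0,1,2,1,0,2,3,4,5], [0,0,0,0], [0,0,0,0]⟩,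
    ⟨[0,1,2,1,0,2,3,5,4], [0,0,0,0], [0,0,0,0]⟩,
    ⟨[0,1,2,1,0,3,2,4,5], [0,0,0,0], [0,0,0,0]⟩,
    ⟨[0,1,2,1,0,3,2,5,4], [0,0,0,0], [0,0,0,0]⟩,
    ⟨[0,1,2,1,0,4,5,2,3], [0,60,60,0], [0,60,60,0]⟩,
    ⟨[0,1,2,1,0,5,4,3,2], [0,60,60,0], [0,60,60,0]⟩,
    ⟨[0,2,1,0,1,2,3,4,5], [0,0,0,0], [0,0,0,0]⟩,
    ⟨[0,2,1,0,1,2,3,5,4], [0,0,0,0], [0,0,0,0]⟩,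
    ⟨[0,2,1,0,1,3,2,4,5], [0,0,0,0], [0,0,0,0]⟩,
    ⟨[0,2,1,0,1,3,2,5,4], [0,0,0,0], [0,0,0,0]⟩,
    ⟨[0,2,1,0,1,4,5,2,3], [0,60,60,0], [0,60,60,0]⟩,
    ⟨[0,2,1,0,1,5,4,3,2], [0,60,60,0], [0,60,60,0]⟩,
    ⟨[0,2,1,1,0,2,3,4,5], [0,0,0,0], [0,0,0,0]⟩,
    ⟨[0,2,1,1,0,2,3,5,4], [0,0,0,0], [0,0,0,0]⟩,
    ⟨[0,2,1,1,0,3,2,4,5], [0,0,0,0], [0,0,0,0]⟩,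
    ⟨[0,2,1,1,0,3,2,5,4], [0,0,0,0], [0,0,0,0]⟩,
    ⟨[0,2,1,1,0,4,5,2,3], [0,60,60,0], [0,60,60,0]⟩,
    ⟨[0,2,1,1,0,5,4,3,2], [0,60,60,0], [0,60,60,0]⟩]

/-- sum false: a = Equiv.swap 1 2, b = Equiv.swap 0 1 * Equiv.swap 2 3 * Equiv.swap 4 5, eps = False -/
def dF13n : Datum where
  kind := Kind.sum false
  a := Equiv.swap 1 2
  b := Equiv.swap 0 1 * Equiv.swap 2 3 * Equiv.swap 4 5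
  e := false
  bs := [3,12,48,64]
  cand := [
    ⟨[0,1,2,0,1,2,3,4,5], [0,0,0,0], [0,0,0,0]⟩,
    ⟨[0,1,2,0,1,2,3,5,4], [0,0,0,0], [0,0,0,0]⟩,
    ⟨[0,1,2,0,1,3,2,4,5], [0,0,0,0], [0,0,0,0]⟩,
    ⟨[0,1,2,0,1,3,2,5,4], [0,0,0,0], [0,0,0,0]⟩,
    ⟨[0,1,2,0,1,4,5,2,3], [0,60,60,0], [0,60,60,0]⟩,
    ⟨[0,1,2,0,1,5,4,3,2], [0,60,60,0], [0,60,60,0]⟩,
    ⟨[0,1,2,1,0,2,3,4,5], [0,0,0,0], [0,0,0,0]⟩,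
    ⟨[0,1,2,1,0,2,3,5,4], [0,0,0,0], [0,0,0,0]⟩,
    ⟨[0,1,2,1,0,3,2,4,5], [0,0,0,0], [0,0,0,0]⟩,
    ⟨[0,1,2,1,0,3,2,5,4], [0,0,0,0], [0,0,0,0]⟩,
    ⟨[0,1,2,1,0,4,5,2,3], [0,60,60,0], [0,60,60,0]⟩,
    ⟨[0,1,2,1,0,5,4,3,2], [0,60,60,0], [0,60,60,0]⟩,
    ⟨[0,1,2,2,3,0,1,4,5], [15,15,0,0], [15,15,0,0]⟩,
    ⟨[0,1,2,2,3,0,1,5,4], [15,15,0,0], [15,15,0,0]⟩,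
    ⟨[0,1,2,3,2,1,0,4,5], [15,15,0,0], [15,15,0,0]⟩,
    ⟨[0,1,2,3,2,1,0,5,4], [15,15,0,0], [15,15,0,0]⟩,
    ⟨[0,1,2,4,5,2,3,0,1], [51,0,51,0], [51,0,51,0]⟩,
    ⟨[0,1,2,4,5,3,2,0,1], [51,0,51,0], [51,0,51,0]⟩,
    ⟨[0,1,2,5,4,2,3,1,0], [51,0,51,0], [51,0,51,0]⟩,
    ⟨[0,1,2,5,4,3,2,1,0], [51,0,51,0], [51,0,51,0]⟩,
    ⟨[0,2,1,0,1,2,3,4,5], [0,0,0,0], [0,0,0,0]⟩,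
    ⟨[0,2,1,0,1,2,3,5,4], [0,0,0,0], [0,0,0,0]⟩,
    ⟨[0,2,1,0,1,3,2,4,5], [0,0,0,0], [0,0,0,0]⟩,
    ⟨[0,2,1,0,1,3,2,5,4], [0,0,0,0], [0,0,0,0]⟩,
    ⟨[0,2,1,0,1,4,5,2,3], [0,60,60,0], [0,60,60,0]⟩,
    ⟨[0,2,1,0,1,5,4,3,2], [0,60,60,0], [0,60,60,0]⟩,
    ⟨[0,2,1,1,0,2,3,4,5], [0,0,0,0], [0,0,0,0]⟩,
    ⟨[0,2,1,1,0,2,3,5,4], [0,0,0,0], [0,0,0,0]⟩,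
    ⟨[0,2,1,1,0,3,2,4,5], [0,0,0,0], [0,0,0,0]⟩,
    ⟨[0,2,1,1,0,3,2,5,4], [0,0,0,0], [0,0,0,0]⟩,
    ⟨[0,2,1,1,0,4,5,2,3], [0,60,60,0], [0,60,60,0]⟩,
    ⟨[0,2,1,1,0,5,4,3,2], [0,60,60,0], [0,60,60,0]⟩,
    ⟨[0,2,1,2,3,0,1,4,5], [15,15,0,0], [15,15,0,0]⟩,
    ⟨[0,2,1,2,3,0,1,5,4], [15,15,0,0], [15,15,0,0]⟩,
    ⟨[0,2,1,3,2,1,0,4,5], [15,15,0,0], [15,15,0,0]⟩,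
    ⟨[0,2,1,3,2,1,0,5,4], [15,15,0,0], [15,15,0,0]⟩,
    ⟨[0,2,1,4,5,2,3,0,1], [51,0,51,0], [51,0,51,0]⟩,
    ⟨[0,2,1,4,5,3,2,0,1], [51,0,51,0], [51,0,51,0]⟩,
    ⟨[0,2,1,5,4,2,3,1,0], [51,0,51,0], [51,0,51,0]⟩,
    ⟨[0,2,1,5,4,3,2,1,0], [51,0,51,0], [51,0,51,0]⟩]

/-- sum false: a = Equiv.swap 1 2, b = Equiv.swap 0 1 * Equiv.swap 2 3 * Equiv.swap 4 5, eps = True -/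
def dF13e : Datum where
  kind := Kind.sum false
  a := Equiv.swap 1 2
  b := Equiv.swap 0 1 * Equiv.swap 2 3 * Equiv.swap 4 5
  e := true
  bs := [3,12,21,37,64]
  cand := [
    ⟨[0,1,2,0,1,2,3,4,5], [0,0,0,0,0], [0,0,63,63,0]⟩,
    ⟨[0,1,2,0,1,2,3,5,4], [0,0,48,48,0], [0,0,15,15,0]⟩,
    ⟨[0,1,2,0,1,3,2,4,5], [0,0,12,12,0], [0,0,51,51,0]⟩,
    ⟨[0,1,2,0,1,3,2,5,4], [0,0,60,60,0], [0,0,3,3,0]⟩,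
    ⟨[0,1,2,0,1,4,5,2,3], [0,60,0,60,0], [0,60,63,3,0]⟩,
    ⟨[0,1,2,0,1,5,4,3,2], [0,60,60,0,0], [0,60,3,63,0]⟩,
    ⟨[0,1,2,1,0,2,3,4,5], [0,0,3,3,0], [0,0,60,60,0]⟩,
    ⟨[0,1,2,1,0,2,3,5,4], [0,0,51,51,0], [0,0,12,12,0]⟩,
    ⟨[0,1,2,1,0,3,2,4,5], [0,0,15,15,0], [0,0,48,48,0]⟩,
    ⟨[0,1,2,1,0,3,2,5,4], [0,0,63,63,0], [0,0,0,0,0]⟩,
    ⟨[0,1,2,1,0,4,5,2,3], [0,60,3,63,0], [0,60,60,0,0]⟩,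
    ⟨[0,1,2,1,0,5,4,3,2], [0,60,63,3,0], [0,60,0,60,0]⟩,
    ⟨[0,1,2,2,3,0,1,4,5], [15,15,0,0,0], [15,15,63,63,0]⟩,
    ⟨[0,1,2,2,3,0,1,5,4], [15,15,48,48,0], [15,15,15,15,0]⟩,
    ⟨[0,1,2,3,2,1,0,4,5], [15,15,15,15,0], [15,15,48,48,0]⟩,
    ⟨[0,1,2,3,2,1,0,5,4], [15,15,63,63,0], [15,15,0,0,0]⟩,
    ⟨[0,1,2,4,5,2,3,0,1], [51,0,0,51,0], [51,0,63,12,0]⟩,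
    ⟨[0,1,2,4,5,3,2,0,1], [51,0,12,63,0], [51,0,51,0,0]⟩,
    ⟨[0,1,2,5,4,2,3,1,0], [51,0,51,0,0], [51,0,12,63,0]⟩,
    ⟨[0,1,2,5,4,3,2,1,0], [51,0,63,12,0], [51,0,0,51,0]⟩,
    ⟨[0,2,1,0,1,2,3,4,5], [0,0,0,0,0], [0,0,63,63,0]⟩,
    ⟨[0,2,1,0,1,2,3,5,4], [0,0,48,48,0], [0,0,15,15,0]⟩,
    ⟨[0,2,1,0,1,3,2,4,5], [0,0,12,12,0], [0,0,51,51,0]⟩,
    ⟨[0,2,1,0,1,3,2,5,4], [0,0,60,60,0], [0,0,3,3,0]⟩,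
    ⟨[0,2,1,0,1,4,5,2,3], [0,60,0,60,0], [0,60,63,3,0]⟩,
    ⟨[0,2,1,0,1,5,4,3,2], [0,60,60,0,0], [0,60,3,63,0]⟩,
    ⟨[0,2,1,1,0,2,3,4,5], [0,0,3,3,0], [0,0,60,60,0]⟩,
    ⟨[0,2,1,1,0,2,3,5,4], [0,0,51,51,0], [0,0,12,12,0]⟩,
    ⟨[0,2,1,1,0,3,2,4,5], [0,0,15,15,0], [0,0,48,48,0]⟩,
    ⟨[0,2,1,1,0,3,2,5,4], [0,0,63,63,0], [0,0,0,0,0]⟩,
    ⟨[0,2,1,1,0,4,5,2,3], [0,60,3,63,0], [0,60,60,0,0]⟩,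
    ⟨[0,2,1,1,0,5,4,3,2], [0,60,63,3,0], [0,60,0,60,0]⟩,
    ⟨[0,2,1,2,3,0,1,4,5], [15,15,0,0,0], [15,15,63,63,0]⟩,
    ⟨[0,2,1,2,3,0,1,5,4], [15,15,48,48,0], [15,15,15,15,0]⟩,
    ⟨[0,2,1,3,2,1,0,4,5], [15,15,15,15,0], [15,15,48,48,0]⟩,
    ⟨[0,2,1,3,2,1,0,5,4], [15,15,63,63,0], [15,15,0,0,0]⟩,
    ⟨[0,2,1,4,5,2,3,0,1], [51,0,0,51,0], [51,0,63,12,0]⟩,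
    ⟨[0,2,1,4,5,3,2,0,1], [51,0,12,63,0], [51,0,51,0,0]⟩,
    ⟨[0,2,1,5,4,2,3,1,0], [51,0,51,0,0], [51,0,12,63,0]⟩,
    ⟨[0,2,1,5,4,3,2,1,0], [51,0,63,12,0], [51,0,0,51,0]⟩]

/-- sum true: a = 1, b = Equiv.swap 4 5, eps = False -/
def dP01n : Datum where
  kind := Kind.sum true
  a := 1
  b := Equiv.swap 4 5
  e := false
  bs := [1,2,4,8,48,64,128]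
  cand := [
    ⟨[0,1,2,0,1,2,3,4,5], [0,0,0,0,0,0,0], [63,63,63,63,0,0,0]⟩,
    ⟨[0,1,2,0,1,2,3,5,4], [0,0,0,0,0,0,0], [63,63,63,63,0,0,0]⟩,
    ⟨[0,1,2,0,1,3,2,4,5], [0,0,12,12,0,0,0], [63,63,51,51,0,0,0]⟩,
    ⟨[0,1,2,0,1,3,2,5,4], [0,0,12,12,0,0,0], [63,63,51,51,0,0,0]⟩,
    ⟨[0,1,2,0,2,1,3,4,5], [0,6,6,0,0,0,0], [63,57,57,63,0,0,0]⟩,
    ⟨[0,1,2,0,2,1,3,5,4], [0,6,6,0,0,0,0], [63,57,57,63,0,0,0]⟩,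
    ⟨[0,1,2,0,3,2,1,4,5], [0,10,0,10,0,0,0], [63,53,63,53,0,0,0]⟩,
    ⟨[0,1,2,0,3,2,1,5,4], [0,10,0,10,0,0,0], [63,53,63,53,0,0,0]⟩,
    ⟨[0,1,2,1,0,2,3,4,5], [3,3,0,0,0,0,0], [60,60,63,63,0,0,0]⟩,
    ⟨[0,1,2,1,0,2,3,5,4], [3,3,0,0,0,0,0], [60,60,63,63,0,0,0]⟩,
    ⟨[0,1,2,1,0,3,2,4,5], [3,3,12,12,0,0,0], [60,60,51,51,0,0,0]⟩,
    ⟨[0,1,2,1,0,3,2,5,4], [3,3,12,12,0,0,0], [60,60,51,51,0,0,0]⟩,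
    ⟨[0,1,2,2,1,0,3,4,5], [5,0,5,0,0,0,0], [58,63,58,63,0,0,0]⟩,
    ⟨[0,1,2,2,1,0,3,5,4], [5,0,5,0,0,0,0], [58,63,58,63,0,0,0]⟩,
    ⟨[0,1,2,2,3,0,1,4,5], [5,10,5,10,0,0,0], [58,53,58,53,0,0,0]⟩,
    ⟨[0,1,2,2,3,0,1,5,4], [5,10,5,10,0,0,0], [58,53,58,53,0,0,0]⟩,
    ⟨[0,1,2,3,1,2,0,4,5], [9,0,0,9,0,0,0], [54,63,63,54,0,0,0]⟩,
    ⟨[0,1,2,3,1,2,0,5,4], [9,0,0,9,0,0,0], [54,63,63,54,0,0,0]⟩,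
    ⟨[0,1,2,3,2,1,0,4,5], [9,6,6,9,0,0,0], [54,57,57,54,0,0,0]⟩,
    ⟨[0,1,2,3,2,1,0,5,4], [9,6,6,9,0,0,0], [54,57,57,54,0,0,0]⟩,
    ⟨[0,2,1,0,1,2,3,4,5], [0,0,0,0,0,0,64], [63,63,63,63,0,0,64]⟩,
    ⟨[0,2,1,0,1,2,3,5,4], [0,0,0,0,0,0,64], [63,63,63,63,0,0,64]⟩,
    ⟨[0,2,1,0,1,3,2,4,5], [0,0,12,12,0,0,64], [63,63,51,51,0,0,64]⟩,
    ⟨[0,2,1,0,1,3,2,5,4], [0,0,12,12,0,0,64], [63,63,51,51,0,0,64]⟩,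
    ⟨[0,2,1,0,2,1,3,4,5], [0,6,6,0,0,0,64], [63,57,57,63,0,0,64]⟩,
    ⟨[0,2,1,0,2,1,3,5,4], [0,6,6,0,0,0,64], [63,57,57,63,0,0,64]⟩,
    ⟨[0,2,1,0,3,2,1,4,5], [0,10,0,10,0,0,64], [63,53,63,53,0,0,64]⟩,
    ⟨[0,2,1,0,3,2,1,5,4], [0,10,0,10,0,0,64], [63,53,63,53,0,0,64]⟩,
    ⟨[0,2,1,1,0,2,3,4,5], [3,3,0,0,0,0,64], [60,60,63,63,0,0,64]⟩,
    ⟨[0,2,1,1,0,2,3,5,4], [3,3,0,0,0,0,64], [60,60,63,63,0,0,64]⟩,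
    ⟨[0,2,1,1,0,3,2,4,5], [3,3,12,12,0,0,64], [60,60,51,51,0,0,64]⟩,
    ⟨[0,2,1,1,0,3,2,5,4], [3,3,12,12,0,0,64], [60,60,51,51,0,0,64]⟩,
    ⟨[0,2,1,2,1,0,3,4,5], [5,0,5,0,0,0,64], [58,63,58,63,0,0,64]⟩,
    ⟨[0,2,1,2,1,0,3,5,4], [5,0,5,0,0,0,64], [58,63,58,63,0,0,64]⟩,
    ⟨[0,2,1,2,3,0,1,4,5], [5,10,5,10,0,0,64], [58,53,58,53,0,0,64]⟩,
    ⟨[0,2,1,2,3,0,1,5,4], [5,10,5,10,0,0,64], [58,53,58,53,0,0,64]⟩,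
    ⟨[0,2,1,3,1,2,0,4,5], [9,0,0,9,0,0,64], [54,63,63,54,0,0,64]⟩,
    ⟨[0,2,1,3,1,2,0,5,4], [9,0,0,9,0,0,64], [54,63,63,54,0,0,64]⟩,
    ⟨[0,2,1,3,2,1,0,4,5], [9,6,6,9,0,0,64], [54,57,57,54,0,0,64]⟩,
    ⟨[0,2,1,3,2,1,0,5,4], [9,6,6,9,0,0,64], [54,57,57,54,0,0,64]⟩,
    ⟨[1,0,2,0,1,2,3,4,5], [0,0,0,0,0,192,192], [63,63,63,63,0,192,192]⟩,
    ⟨[1,0,2,0,1,2,3,5,4], [0,0,0,0,0,192,192], [63,63,63,63,0,192,192]⟩,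
    ⟨[1,0,2,0,1,3,2,4,5], [0,0,12,12,0,192,192], [63,63,51,51,0,192,192]⟩,
    ⟨[1,0,2,0,1,3,2,5,4], [0,0,12,12,0,192,192], [63,63,51,51,0,192,192]⟩,
    ⟨[1,0,2,0,2,1,3,4,5], [0,6,6,0,0,192,192], [63,57,57,63,0,192,192]⟩,
    ⟨[1,0,2,0,2,1,3,5,4], [0,6,6,0,0,192,192], [63,57,57,63,0,192,192]⟩,
    ⟨[1,0,2,0,3,2,1,4,5], [0,10,0,10,0,192,192], [63,53,63,53,0,192,192]⟩,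
    ⟨[1,0,2,0,3,2,1,5,4], [0,10,0,10,0,192,192], [63,53,63,53,0,192,192]⟩,
    ⟨[1,0,2,1,0,2,3,4,5], [3,3,0,0,0,192,192], [60,60,63,63,0,192,192]⟩,
    ⟨[1,0,2,1,0,2,3,5,4], [3,3,0,0,0,192,192], [60,60,63,63,0,192,192]⟩,
    ⟨[1,0,2,1,0,3,2,4,5], [3,3,12,12,0,192,192], [60,60,51,51,0,192,192]⟩,
    ⟨[1,0,2,1,0,3,2,5,4], [3,3,12,12,0,192,192], [60,60,51,51,0,192,192]⟩,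
    ⟨[1,0,2,2,1,0,3,4,5], [5,0,5,0,0,192,192], [58,63,58,63,0,192,192]⟩,
    ⟨[1,0,2,2,1,0,3,5,4], [5,0,5,0,0,192,192], [58,63,58,63,0,192,192]⟩,
    ⟨[1,0,2,2,3,0,1,4,5], [5,10,5,10,0,192,192], [58,53,58,53,0,192,192]⟩,
    ⟨[1,0,2,2,3,0,1,5,4], [5,10,5,10,0,192,192], [58,53,58,53,0,192,192]⟩,
    ⟨[1,0,2,3,1,2,0,4,5], [9,0,0,9,0,192,192], [54,63,63,54,0,192,192]⟩,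
    ⟨[1,0,2,3,1,2,0,5,4], [9,0,0,9,0,192,192], [54,63,63,54,0,192,192]⟩,
    ⟨[1,0,2,3,2,1,0,4,5], [9,6,6,9,0,192,192], [54,57,57,54,0,192,192]⟩,
    ⟨[1,0,2,3,2,1,0,5,4], [9,6,6,9,0,192,192], [54,57,57,54,0,192,192]⟩,
    ⟨[2,1,0,0,1,2,3,4,5], [0,0,0,0,0,128,0], [63,63,63,63,0,128,0]⟩,
    ⟨[2,1,0,0,1,2,3,5,4], [0,0,0,0,0,128,0], [63,63,63,63,0,128,0]⟩,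
    ⟨[2,1,0,0,1,3,2,4,5], [0,0,12,12,0,128,0], [63,63,51,51,0,128,0]⟩,
    ⟨[2,1,0,0,1,3,2,5,4], [0,0,12,12,0,128,0], [63,63,51,51,0,128,0]⟩,
    ⟨[2,1,0,0,2,1,3,4,5], [0,6,6,0,0,128,0], [63,57,57,63,0,128,0]⟩,
    ⟨[2,1,0,0,2,1,3,5,4], [0,6,6,0,0,128,0], [63,57,57,63,0,128,0]⟩,
    ⟨[2,1,0,0,3,2,1,4,5], [0,10,0,10,0,128,0], [63,53,63,53,0,128,0]⟩,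
    ⟨[2,1,0,0,3,2,1,5,4], [0,10,0,10,0,128,0], [63,53,63,53,0,128,0]⟩,
    ⟨[2,1,0,1,0,2,3,4,5], [3,3,0,0,0,128,0], [60,60,63,63,0,128,0]⟩,
    ⟨[2,1,0,1,0,2,3,5,4], [3,3,0,0,0,128,0], [60,60,63,63,0,128,0]⟩,
    ⟨[2,1,0,1,0,3,2,4,5], [3,3,12,12,0,128,0], [60,60,51,51,0,128,0]⟩,
    ⟨[2,1,0,1,0,3,2,5,4], [3,3,12,12,0,128,0], [60,60,51,51,0,128,0]⟩,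
    ⟨[2,1,0,2,1,0,3,4,5], [5,0,5,0,0,128,0], [58,63,58,63,0,128,0]⟩,
    ⟨[2,1,0,2,1,0,3,5,4], [5,0,5,0,0,128,0], [58,63,58,63,0,128,0]⟩,
    ⟨[2,1,0,2,3,0,1,4,5], [5,10,5,10,0,128,0], [58,53,58,53,0,128,0]⟩,
    ⟨[2,1,0,2,3,0,1,5,4], [5,10,5,10,0,128,0], [58,53,58,53,0,128,0]⟩,
    ⟨[2,1,0,3,1,2,0,4,5], [9,0,0,9,0,128,0], [54,63,63,54,0,128,0]⟩,
    ⟨[2,1,0,3,1,2,0,5,4], [9,0,0,9,0,128,0], [54,63,63,54,0,128,0]⟩,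
    ⟨[2,1,0,3,2,1,0,4,5], [9,6,6,9,0,128,0], [54,57,57,54,0,128,0]⟩,
    ⟨[2,1,0,3,2,1,0,5,4], [9,6,6,9,0,128,0], [54,57,57,54,0,128,0]⟩]

/-- sum true: a = 1, b = Equiv.swap 4 5, eps = True -/
def dP01e : Datum where
  kind := Kind.sum true
  a := 1
  b := Equiv.swap 4 5
  e := true
  bs := [3,5,9,48,64,128]
  cand := [
    ⟨[0,1,2,0,1,2,3,4,5], [0,0,0,0,0,0], [0,0,0,0,0,0]⟩,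
    ⟨[0,1,2,0,1,2,3,5,4], [0,0,0,0,0,0], [0,0,0,0,0,0]⟩,
    ⟨[0,1,2,0,1,3,2,4,5], [0,12,12,0,0,0], [0,12,12,0,0,0]⟩,
    ⟨[0,1,2,0,1,3,2,5,4], [0,12,12,0,0,0], [0,12,12,0,0,0]⟩,
    ⟨[0,1,2,0,2,1,3,4,5], [6,6,0,0,0,0], [6,6,0,0,0,0]⟩,
    ⟨[0,1,2,0,2,1,3,5,4], [6,6,0,0,0,0], [6,6,0,0,0,0]⟩,
    ⟨[0,1,2,0,3,2,1,4,5], [10,0,10,0,0,0], [10,0,10,0,0,0]⟩,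
    ⟨[0,1,2,0,3,2,1,5,4], [10,0,10,0,0,0], [10,0,10,0,0,0]⟩,
    ⟨[0,1,2,1,0,2,3,4,5], [0,3,3,0,0,0], [0,3,3,0,0,0]⟩,
    ⟨[0,1,2,1,0,2,3,5,4], [0,3,3,0,0,0], [0,3,3,0,0,0]⟩,
    ⟨[0,1,2,1,0,3,2,4,5], [0,15,15,0,0,0], [0,15,15,0,0,0]⟩,
    ⟨[0,1,2,1,0,3,2,5,4], [0,15,15,0,0,0], [0,15,15,0,0,0]⟩,
    ⟨[0,1,2,2,1,0,3,4,5], [5,0,5,0,0,0], [5,0,5,0,0,0]⟩,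
    ⟨[0,1,2,2,1,0,3,5,4], [5,0,5,0,0,0], [5,0,5,0,0,0]⟩,
    ⟨[0,1,2,2,3,0,1,4,5], [15,0,15,0,0,0], [15,0,15,0,0,0]⟩,
    ⟨[0,1,2,2,3,0,1,5,4], [15,0,15,0,0,0], [15,0,15,0,0,0]⟩,
    ⟨[0,1,2,3,1,2,0,4,5], [9,9,0,0,0,0], [9,9,0,0,0,0]⟩,
    ⟨[0,1,2,3,1,2,0,5,4], [9,9,0,0,0,0], [9,9,0,0,0,0]⟩,
    ⟨[0,1,2,3,2,1,0,4,5], [15,15,0,0,0,0], [15,15,0,0,0,0]⟩,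
    ⟨[0,1,2,3,2,1,0,5,4], [15,15,0,0,0,0], [15,15,0,0,0,0]⟩,
    ⟨[0,2,1,0,1,2,3,4,5], [0,0,0,0,0,64], [0,0,0,0,0,64]⟩,
    ⟨[0,2,1,0,1,2,3,5,4], [0,0,0,0,0,64], [0,0,0,0,0,64]⟩,
    ⟨[0,2,1,0,1,3,2,4,5], [0,12,12,0,0,64], [0,12,12,0,0,64]⟩,
    ⟨[0,2,1,0,1,3,2,5,4], [0,12,12,0,0,64], [0,12,12,0,0,64]⟩,
    ⟨[0,2,1,0,2,1,3,4,5], [6,6,0,0,0,64], [6,6,0,0,0,64]⟩,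
    ⟨[0,2,1,0,2,1,3,5,4], [6,6,0,0,0,64], [6,6,0,0,0,64]⟩,
    ⟨[0,2,1,0,3,2,1,4,5], [10,0,10,0,0,64], [10,0,10,0,0,64]⟩,
    ⟨[0,2,1,0,3,2,1,5,4], [10,0,10,0,0,64], [10,0,10,0,0,64]⟩,
    ⟨[0,2,1,1,0,2,3,4,5], [0,3,3,0,0,64], [0,3,3,0,0,64]⟩,
    ⟨[0,2,1,1,0,2,3,5,4], [0,3,3,0,0,64], [0,3,3,0,0,64]⟩,
    ⟨[0,2,1,1,0,3,2,4,5], [0,15,15,0,0,64], [0,15,15,0,0,64]⟩,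
    ⟨[0,2,1,1,0,3,2,5,4], [0,15,15,0,0,64], [0,15,15,0,0,64]⟩,
    ⟨[0,2,1,2,1,0,3,4,5], [5,0,5,0,0,64], [5,0,5,0,0,64]⟩,
    ⟨[0,2,1,2,1,0,3,5,4], [5,0,5,0,0,64], [5,0,5,0,0,64]⟩,
    ⟨[0,2,1,2,3,0,1,4,5], [15,0,15,0,0,64], [15,0,15,0,0,64]⟩,
    ⟨[0,2,1,2,3,0,1,5,4], [15,0,15,0,0,64], [15,0,15,0,0,64]⟩,
    ⟨[0,2,1,3,1,2,0,4,5], [9,9,0,0,0,64], [9,9,0,0,0,64]⟩,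
    ⟨[0,2,1,3,1,2,0,5,4], [9,9,0,0,0,64], [9,9,0,0,0,64]⟩,
    ⟨[0,2,1,3,2,1,0,4,5], [15,15,0,0,0,64], [15,15,0,0,0,64]⟩,
    ⟨[0,2,1,3,2,1,0,5,4], [15,15,0,0,0,64], [15,15,0,0,0,64]⟩,
    ⟨[1,0,2,0,1,2,3,4,5], [0,0,0,0,192,192], [0,0,0,0,192,192]⟩,
    ⟨[1,0,2,0,1,2,3,5,4], [0,0,0,0,192,192], [0,0,0,0,192,192]⟩,
    ⟨[1,0,2,0,1,3,2,4,5], [0,12,12,0,192,192], [0,12,12,0,192,192]⟩,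
    ⟨[1,0,2,0,1,3,2,5,4], [0,12,12,0,192,192], [0,12,12,0,192,192]⟩,
    ⟨[1,0,2,0,2,1,3,4,5], [6,6,0,0,192,192], [6,6,0,0,192,192]⟩,
    ⟨[1,0,2,0,2,1,3,5,4], [6,6,0,0,192,192], [6,6,0,0,192,192]⟩,
    ⟨[1,0,2,0,3,2,1,4,5], [10,0,10,0,192,192], [10,0,10,0,192,192]⟩,
    ⟨[1,0,2,0,3,2,1,5,4], [10,0,10,0,192,192], [10,0,10,0,192,192]⟩,
    ⟨[1,0,2,1,0,2,3,4,5], [0,3,3,0,192,192], [0,3,3,0,192,192]⟩,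
    ⟨[1,0,2,1,0,2,3,5,4], [0,3,3,0,192,192], [0,3,3,0,192,192]⟩,
    ⟨[1,0,2,1,0,3,2,4,5], [0,15,15,0,192,192], [0,15,15,0,192,192]⟩,
    ⟨[1,0,2,1,0,3,2,5,4], [0,15,15,0,192,192], [0,15,15,0,192,192]⟩,
    ⟨[1,0,2,2,1,0,3,4,5], [5,0,5,0,192,192], [5,0,5,0,192,192]⟩,
    ⟨[1,0,2,2,1,0,3,5,4], [5,0,5,0,192,192], [5,0,5,0,192,192]⟩,
    ⟨[1,0,2,2,3,0,1,4,5], [15,0,15,0,192,192], [15,0,15,0,192,192]⟩,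
    ⟨[1,0,2,2,3,0,1,5,4], [15,0,15,0,192,192], [15,0,15,0,192,192]⟩,
    ⟨[1,0,2,3,1,2,0,4,5], [9,9,0,0,192,192], [9,9,0,0,192,192]⟩,
    ⟨[1,0,2,3,1,2,0,5,4], [9,9,0,0,192,192], [9,9,0,0,192,192]⟩,
    ⟨[1,0,2,3,2,1,0,4,5], [15,15,0,0,192,192], [15,15,0,0,192,192]⟩,
    ⟨[1,0,2,3,2,1,0,5,4], [15,15,0,0,192,192], [15,15,0,0,192,192]⟩,
    ⟨[2,1,0,0,1,2,3,4,5], [0,0,0,0,128,0], [0,0,0,0,128,0]⟩,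
    ⟨[2,1,0,0,1,2,3,5,4], [0,0,0,0,128,0], [0,0,0,0,128,0]⟩,
    ⟨[2,1,0,0,1,3,2,4,5], [0,12,12,0,128,0], [0,12,12,0,128,0]⟩,
    ⟨[2,1,0,0,1,3,2,5,4], [0,12,12,0,128,0], [0,12,12,0,128,0]⟩,
    ⟨[2,1,0,0,2,1,3,4,5], [6,6,0,0,128,0], [6,6,0,0,128,0]⟩,
    ⟨[2,1,0,0,2,1,3,5,4], [6,6,0,0,128,0], [6,6,0,0,128,0]⟩,
    ⟨[2,1,0,0,3,2,1,4,5], [10,0,10,0,128,0], [10,0,10,0,128,0]⟩,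
    ⟨[2,1,0,0,3,2,1,5,4], [10,0,10,0,128,0], [10,0,10,0,128,0]⟩,
    ⟨[2,1,0,1,0,2,3,4,5], [0,3,3,0,128,0], [0,3,3,0,128,0]⟩,
    ⟨[2,1,0,1,0,2,3,5,4], [0,3,3,0,128,0], [0,3,3,0,128,0]⟩,
    ⟨[2,1,0,1,0,3,2,4,5], [0,15,15,0,128,0], [0,15,15,0,128,0]⟩,
    ⟨[2,1,0,1,0,3,2,5,4], [0,15,15,0,128,0], [0,15,15,0,128,0]⟩,
    ⟨[2,1,0,2,1,0,3,4,5], [5,0,5,0,128,0], [5,0,5,0,128,0]⟩,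
    ⟨[2,1,0,2,1,0,3,5,4], [5,0,5,0,128,0], [5,0,5,0,128,0]⟩,
    ⟨[2,1,0,2,3,0,1,4,5], [15,0,15,0,128,0], [15,0,15,0,128,0]⟩,
    ⟨[2,1,0,2,3,0,1,5,4], [15,0,15,0,128,0], [15,0,15,0,128,0]⟩,
    ⟨[2,1,0,3,1,2,0,4,5], [9,9,0,0,128,0], [9,9,0,0,128,0]⟩,
    ⟨[2,1,0,3,1,2,0,5,4], [9,9,0,0,128,0], [9,9,0,0,128,0]⟩,
    ⟨[2,1,0,3,2,1,0,4,5], [15,15,0,0,128,0], [15,15,0,0,128,0]⟩,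
    ⟨[2,1,0,3,2,1,0,5,4], [15,15,0,0,128,0], [15,15,0,0,128,0]⟩]

/-- sum true: a = 1, b = Equiv.swap 2 3 * Equiv.swap 4 5, eps = False -/
def dP02n : Datum where
  kind := Kind.sum true
  a := 1
  b := Equiv.swap 2 3 * Equiv.swap 4 5
  e := false
  bs := [1,2,12,48,64,128]
  cand := [
    ⟨[0,1,2,0,1,2,3,4,5], [0,0,0,0,0,0], [63,63,0,0,0,0]⟩,
    ⟨[0,1,2,0,1,2,3,5,4], [0,0,0,0,0,0], [63,63,0,0,0,0]⟩,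
    ⟨[0,1,2,0,1,3,2,4,5], [0,0,0,0,0,0], [63,63,0,0,0,0]⟩,
    ⟨[0,1,2,0,1,3,2,5,4], [0,0,0,0,0,0], [63,63,0,0,0,0]⟩,
    ⟨[0,1,2,0,1,4,5,2,3], [0,0,60,60,0,0], [63,63,60,60,0,0]⟩,
    ⟨[0,1,2,0,1,4,5,3,2], [0,0,60,60,0,0], [63,63,60,60,0,0]⟩,
    ⟨[0,1,2,0,1,5,4,2,3], [0,0,60,60,0,0], [63,63,60,60,0,0]⟩,
    ⟨[0,1,2,0,1,5,4,3,2], [0,0,60,60,0,0], [63,63,60,60,0,0]⟩,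
    ⟨[0,1,2,1,0,2,3,4,5], [3,3,0,0,0,0], [60,60,0,0,0,0]⟩,
    ⟨[0,1,2,1,0,2,3,5,4], [3,3,0,0,0,0], [60,60,0,0,0,0]⟩,
    ⟨[0,1,2,1,0,3,2,4,5], [3,3,0,0,0,0], [60,60,0,0,0,0]⟩,
    ⟨[0,1,2,1,0,3,2,5,4], [3,3,0,0,0,0], [60,60,0,0,0,0]⟩,
    ⟨[0,1,2,1,0,4,5,2,3], [3,3,60,60,0,0], [60,60,60,60,0,0]⟩,
    ⟨[0,1,2,1,0,4,5,3,2], [3,3,60,60,0,0], [60,60,60,60,0,0]⟩,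
    ⟨[0,1,2,1,0,5,4,2,3], [3,3,60,60,0,0], [60,60,60,60,0,0]⟩,
    ⟨[0,1,2,1,0,5,4,3,2], [3,3,60,60,0,0], [60,60,60,60,0,0]⟩,
    ⟨[0,2,1,0,1,2,3,4,5], [0,0,0,0,0,64], [63,63,0,0,0,64]⟩,
    ⟨[0,2,1,0,1,2,3,5,4], [0,0,0,0,0,64], [63,63,0,0,0,64]⟩,
    ⟨[0,2,1,0,1,3,2,4,5], [0,0,0,0,0,64], [63,63,0,0,0,64]⟩,
    ⟨[0,2,1,0,1,3,2,5,4], [0,0,0,0,0,64], [63,63,0,0,0,64]⟩,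
    ⟨[0,2,1,0,1,4,5,2,3], [0,0,60,60,0,64], [63,63,60,60,0,64]⟩,
    ⟨[0,2,1,0,1,4,5,3,2], [0,0,60,60,0,64], [63,63,60,60,0,64]⟩,
    ⟨[0,2,1,0,1,5,4,2,3], [0,0,60,60,0,64], [63,63,60,60,0,64]⟩,
    ⟨[0,2,1,0,1,5,4,3,2], [0,0,60,60,0,64], [63,63,60,60,0,64]⟩,
    ⟨[0,2,1,1,0,2,3,4,5], [3,3,0,0,0,64], [60,60,0,0,0,64]⟩,
    ⟨[0,2,1,1,0,2,3,5,4], [3,3,0,0,0,64], [60,60,0,0,0,64]⟩,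
    ⟨[0,2,1,1,0,3,2,4,5], [3,3,0,0,0,64], [60,60,0,0,0,64]⟩,
    ⟨[0,2,1,1,0,3,2,5,4], [3,3,0,0,0,64], [60,60,0,0,0,64]⟩,
    ⟨[0,2,1,1,0,4,5,2,3], [3,3,60,60,0,64], [60,60,60,60,0,64]⟩,
    ⟨[0,2,1,1,0,4,5,3,2], [3,3,60,60,0,64], [60,60,60,60,0,64]⟩,
    ⟨[0,2,1,1,0,5,4,2,3], [3,3,60,60,0,64], [60,60,60,60,0,64]⟩,
    ⟨[0,2,1,1,0,5,4,3,2], [3,3,60,60,0,64], [60,60,60,60,0,64]⟩,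
    ⟨[1,0,2,0,1,2,3,4,5], [0,0,0,0,192,192], [63,63,0,0,192,192]⟩,
    ⟨[1,0,2,0,1,2,3,5,4], [0,0,0,0,192,192], [63,63,0,0,192,192]⟩,
    ⟨[1,0,2,0,1,3,2,4,5], [0,0,0,0,192,192], [63,63,0,0,192,192]⟩,
    ⟨[1,0,2,0,1,3,2,5,4], [0,0,0,0,192,192], [63,63,0,0,192,192]⟩,
    ⟨[1,0,2,0,1,4,5,2,3], [0,0,60,60,192,192], [63,63,60,60,192,192]⟩,
    ⟨[1,0,2,0,1,4,5,3,2], [0,0,60,60,192,192], [63,63,60,60,192,192]⟩,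
    ⟨[1,0,2,0,1,5,4,2,3], [0,0,60,60,192,192], [63,63,60,60,192,192]⟩,
    ⟨[1,0,2,0,1,5,4,3,2], [0,0,60,60,192,192], [63,63,60,60,192,192]⟩,
    ⟨[1,0,2,1,0,2,3,4,5], [3,3,0,0,192,192], [60,60,0,0,192,192]⟩,
    ⟨[1,0,2,1,0,2,3,5,4], [3,3,0,0,192,192], [60,60,0,0,192,192]⟩,
    ⟨[1,0,2,1,0,3,2,4,5], [3,3,0,0,192,192], [60,60,0,0,192,192]⟩,
    ⟨[1,0,2,1,0,3,2,5,4], [3,3,0,0,192,192], [60,60,0,0,192,192]⟩,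
    ⟨[1,0,2,1,0,4,5,2,3], [3,3,60,60,192,192], [60,60,60,60,192,192]⟩,
    ⟨[1,0,2,1,0,4,5,3,2], [3,3,60,60,192,192], [60,60,60,60,192,192]⟩,
    ⟨[1,0,2,1,0,5,4,2,3], [3,3,60,60,192,192], [60,60,60,60,192,192]⟩,
    ⟨[1,0,2,1,0,5,4,3,2], [3,3,60,60,192,192], [60,60,60,60,192,192]⟩,
    ⟨[2,1,0,0,1,2,3,4,5], [0,0,0,0,128,0], [63,63,0,0,128,0]⟩,
    ⟨[2,1,0,0,1,2,3,5,4], [0,0,0,0,128,0], [63,63,0,0,128,0]⟩,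
    ⟨[2,1,0,0,1,3,2,4,5], [0,0,0,0,128,0], [63,63,0,0,128,0]⟩,
    ⟨[2,1,0,0,1,3,2,5,4], [0,0,0,0,128,0], [63,63,0,0,128,0]⟩,
    ⟨[2,1,0,0,1,4,5,2,3], [0,0,60,60,128,0], [63,63,60,60,128,0]⟩,
    ⟨[2,1,0,0,1,4,5,3,2], [0,0,60,60,128,0], [63,63,60,60,128,0]⟩,
    ⟨[2,1,0,0,1,5,4,2,3], [0,0,60,60,128,0], [63,63,60,60,128,0]⟩,
    ⟨[2,1,0,0,1,5,4,3,2], [0,0,60,60,128,0], [63,63,60,60,128,0]⟩,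
    ⟨[2,1,0,1,0,2,3,4,5], [3,3,0,0,128,0], [60,60,0,0,128,0]⟩,
    ⟨[2,1,0,1,0,2,3,5,4], [3,3,0,0,128,0], [60,60,0,0,128,0]⟩,
    ⟨[2,1,0,1,0,3,2,4,5], [3,3,0,0,128,0], [60,60,0,0,128,0]⟩,
    ⟨[2,1,0,1,0,3,2,5,4], [3,3,0,0,128,0], [60,60,0,0,128,0]⟩,
    ⟨[2,1,0,1,0,4,5,2,3], [3,3,60,60,128,0], [60,60,60,60,128,0]⟩,
    ⟨[2,1,0,1,0,4,5,3,2], [3,3,60,60,128,0], [60,60,60,60,128,0]⟩,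
    ⟨[2,1,0,1,0,5,4,2,3], [3,3,60,60,128,0], [60,60,60,60,128,0]⟩,
    ⟨[2,1,0,1,0,5,4,3,2], [3,3,60,60,128,0], [60,60,60,60,128,0]⟩]

/-- sum true: a = 1, b = Equiv.swap 2 3 * Equiv.swap 4 5, eps = True -/
def dP02e : Datum where
  kind := Kind.sum true
  a := 1
  b := Equiv.swap 2 3 * Equiv.swap 4 5
  e := true
  bs := [3,12,48,64,128]
  cand := [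
    ⟨[0,1,2,0,1,2,3,4,5], [0,0,0,0,0], [0,0,0,0,0]⟩,
    ⟨[0,1,2,0,1,2,3,5,4], [0,0,0,0,0], [0,0,0,0,0]⟩,
    ⟨[0,1,2,0,1,3,2,4,5], [0,0,0,0,0], [0,0,0,0,0]⟩,
    ⟨[0,1,2,0,1,3,2,5,4], [0,0,0,0,0], [0,0,0,0,0]⟩,
    ⟨[0,1,2,0,1,4,5,2,3], [0,60,60,0,0], [0,60,60,0,0]⟩,
    ⟨[0,1,2,0,1,4,5,3,2], [0,60,60,0,0], [0,60,60,0,0]⟩,
    ⟨[0,1,2,0,1,5,4,2,3], [0,60,60,0,0], [0,60,60,0,0]⟩,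
    ⟨[0,1,2,0,1,5,4,3,2], [0,60,60,0,0], [0,60,60,0,0]⟩,
    ⟨[0,1,2,1,0,2,3,4,5], [0,0,0,0,0], [0,0,0,0,0]⟩,
    ⟨[0,1,2,1,0,2,3,5,4], [0,0,0,0,0], [0,0,0,0,0]⟩,
    ⟨[0,1,2,1,0,3,2,4,5], [0,0,0,0,0], [0,0,0,0,0]⟩,
    ⟨[0,1,2,1,0,3,2,5,4], [0,0,0,0,0], [0,0,0,0,0]⟩,
    ⟨[0,1,2,1,0,4,5,2,3], [0,60,60,0,0], [0,60,60,0,0]⟩,
    ⟨[0,1,2,1,0,4,5,3,2], [0,60,60,0,0], [0,60,60,0,0]⟩,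
    ⟨[0,1,2,1,0,5,4,2,3], [0,60,60,0,0], [0,60,60,0,0]⟩,
    ⟨[0,1,2,1,0,5,4,3,2], [0,60,60,0,0], [0,60,60,0,0]⟩,
    ⟨[0,2,1,0,1,2,3,4,5], [0,0,0,0,64], [0,0,0,0,64]⟩,
    ⟨[0,2,1,0,1,2,3,5,4], [0,0,0,0,64], [0,0,0,0,64]⟩,
    ⟨[0,2,1,0,1,3,2,4,5], [0,0,0,0,64], [0,0,0,0,64]⟩,
    ⟨[0,2,1,0,1,3,2,5,4], [0,0,0,0,64], [0,0,0,0,64]⟩,
    ⟨[0,2,1,0,1,4,5,2,3], [0,60,60,0,64], [0,60,60,0,64]⟩,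
    ⟨[0,2,1,0,1,4,5,3,2], [0,60,60,0,64], [0,60,60,0,64]⟩,
    ⟨[0,2,1,0,1,5,4,2,3], [0,60,60,0,64], [0,60,60,0,64]⟩,
    ⟨[0,2,1,0,1,5,4,3,2], [0,60,60,0,64], [0,60,60,0,64]⟩,
    ⟨[0,2,1,1,0,2,3,4,5], [0,0,0,0,64], [0,0,0,0,64]⟩,
    ⟨[0,2,1,1,0,2,3,5,4], [0,0,0,0,64], [0,0,0,0,64]⟩,
    ⟨[0,2,1,1,0,3,2,4,5], [0,0,0,0,64], [0,0,0,0,64]⟩,
    ⟨[0,2,1,1,0,3,2,5,4], [0,0,0,0,64], [0,0,0,0,64]⟩,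
    ⟨[0,2,1,1,0,4,5,2,3], [0,60,60,0,64], [0,60,60,0,64]⟩,
    ⟨[0,2,1,1,0,4,5,3,2], [0,60,60,0,64], [0,60,60,0,64]⟩,
    ⟨[0,2,1,1,0,5,4,2,3], [0,60,60,0,64], [0,60,60,0,64]⟩,
    ⟨[0,2,1,1,0,5,4,3,2], [0,60,60,0,64], [0,60,60,0,64]⟩,
    ⟨[1,0,2,0,1,2,3,4,5], [0,0,0,192,192], [0,0,0,192,192]⟩,
    ⟨[1,0,2,0,1,2,3,5,4], [0,0,0,192,192], [0,0,0,192,192]⟩,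
    ⟨[1,0,2,0,1,3,2,4,5], [0,0,0,192,192], [0,0,0,192,192]⟩,
    ⟨[1,0,2,0,1,3,2,5,4], [0,0,0,192,192], [0,0,0,192,192]⟩,
    ⟨[1,0,2,0,1,4,5,2,3], [0,60,60,192,192], [0,60,60,192,192]⟩,
    ⟨[1,0,2,0,1,4,5,3,2], [0,60,60,192,192], [0,60,60,192,192]⟩,
    ⟨[1,0,2,0,1,5,4,2,3], [0,60,60,192,192], [0,60,60,192,192]⟩,
    ⟨[1,0,2,0,1,5,4,3,2], [0,60,60,192,192], [0,60,60,192,192]⟩,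
    ⟨[1,0,2,1,0,2,3,4,5], [0,0,0,192,192], [0,0,0,192,192]⟩,
    ⟨[1,0,2,1,0,2,3,5,4], [0,0,0,192,192], [0,0,0,192,192]⟩,
    ⟨[1,0,2,1,0,3,2,4,5], [0,0,0,192,192], [0,0,0,192,192]⟩,
    ⟨[1,0,2,1,0,3,2,5,4], [0,0,0,192,192], [0,0,0,192,192]⟩,
    ⟨[1,0,2,1,0,4,5,2,3], [0,60,60,192,192], [0,60,60,192,192]⟩,
    ⟨[1,0,2,1,0,4,5,3,2], [0,60,60,192,192], [0,60,60,192,192]⟩,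
    ⟨[1,0,2,1,0,5,4,2,3], [0,60,60,192,192], [0,60,60,192,192]⟩,
    ⟨[1,0,2,1,0,5,4,3,2], [0,60,60,192,192], [0,60,60,192,192]⟩,
    ⟨[2,1,0,0,1,2,3,4,5], [0,0,0,128,0], [0,0,0,128,0]⟩,
    ⟨[2,1,0,0,1,2,3,5,4], [0,0,0,128,0], [0,0,0,128,0]⟩,
    ⟨[2,1,0,0,1,3,2,4,5], [0,0,0,128,0], [0,0,0,128,0]⟩,
    ⟨[2,1,0,0,1,3,2,5,4], [0,0,0,128,0], [0,0,0,128,0]⟩,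
    ⟨[2,1,0,0,1,4,5,2,3], [0,60,60,128,0], [0,60,60,128,0]⟩,
    ⟨[2,1,0,0,1,4,5,3,2], [0,60,60,128,0], [0,60,60,128,0]⟩,
    ⟨[2,1,0,0,1,5,4,2,3], [0,60,60,128,0], [0,60,60,128,0]⟩,
    ⟨[2,1,0,0,1,5,4,3,2], [0,60,60,128,0], [0,60,60,128,0]⟩,
    ⟨[2,1,0,1,0,2,3,4,5], [0,0,0,128,0], [0,0,0,128,0]⟩,
    ⟨[2,1,0,1,0,2,3,5,4], [0,0,0,128,0], [0,0,0,128,0]⟩,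
    ⟨[2,1,0,1,0,3,2,4,5], [0,0,0,128,0], [0,0,0,128,0]⟩,
    ⟨[2,1,0,1,0,3,2,5,4], [0,0,0,128,0], [0,0,0,128,0]⟩,
    ⟨[2,1,0,1,0,4,5,2,3], [0,60,60,128,0], [0,60,60,128,0]⟩,
    ⟨[2,1,0,1,0,4,5,3,2], [0,60,60,128,0], [0,60,60,128,0]⟩,
    ⟨[2,1,0,1,0,5,4,2,3], [0,60,60,128,0], [0,60,60,128,0]⟩,
    ⟨[2,1,0,1,0,5,4,3,2], [0,60,60,128,0], [0,60,60,128,0]⟩]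

/-- sum true: a = 1, b = Equiv.swap 0 1 * Equiv.swap 2 3 * Equiv.swap 4 5, eps = False -/
def dP03n : Datum where
  kind := Kind.sum true
  a := 1
  b := Equiv.swap 0 1 * Equiv.swap 2 3 * Equiv.swap 4 5
  e := false
  bs := [3,12,48,64,128]
  cand := [
    ⟨[0,1,2,0,1,2,3,4,5], [0,0,0,0,0], [0,0,0,0,0]⟩,
    ⟨[0,1,2,0,1,2,3,5,4], [0,0,0,0,0], [0,0,0,0,0]⟩,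
    ⟨[0,1,2,0,1,3,2,4,5], [0,0,0,0,0], [0,0,0,0,0]⟩,
    ⟨[0,1,2,0,1,3,2,5,4], [0,0,0,0,0], [0,0,0,0,0]⟩,
    ⟨[0,1,2,0,1,4,5,2,3], [0,60,60,0,0], [0,60,60,0,0]⟩,
    ⟨[0,1,2,0,1,5,4,3,2], [0,60,60,0,0], [0,60,60,0,0]⟩,
    ⟨[0,1,2,1,0,2,3,4,5], [0,0,0,0,0], [0,0,0,0,0]⟩,
    ⟨[0,1,2,1,0,2,3,5,4], [0,0,0,0,0], [0,0,0,0,0]⟩,
    ⟨[0,1,2,1,0,3,2,4,5], [0,0,0,0,0], [0,0,0,0,0]⟩,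
    ⟨[0,1,2,1,0,3,2,5,4], [0,0,0,0,0], [0,0,0,0,0]⟩,
    ⟨[0,1,2,1,0,4,5,2,3], [0,60,60,0,0], [0,60,60,0,0]⟩,
    ⟨[0,1,2,1,0,5,4,3,2], [0,60,60,0,0], [0,60,60,0,0]⟩,
    ⟨[0,1,2,2,3,0,1,4,5], [15,15,0,0,0], [15,15,0,0,0]⟩,
    ⟨[0,1,2,2,3,0,1,5,4], [15,15,0,0,0], [15,15,0,0,0]⟩,
    ⟨[0,1,2,3,2,1,0,4,5], [15,15,0,0,0], [15,15,0,0,0]⟩,
    ⟨[0,1,2,3,2,1,0,5,4], [15,15,0,0,0], [15,15,0,0,0]⟩,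
    ⟨[0,1,2,4,5,2,3,0,1], [51,0,51,0,0], [51,0,51,0,0]⟩,
    ⟨[0,1,2,4,5,3,2,0,1], [51,0,51,0,0], [51,0,51,0,0]⟩,
    ⟨[0,1,2,5,4,2,3,1,0], [51,0,51,0,0], [51,0,51,0,0]⟩,
    ⟨[0,1,2,5,4,3,2,1,0], [51,0,51,0,0], [51,0,51,0,0]⟩,
    ⟨[0,2,1,0,1,2,3,4,5], [0,0,0,0,64], [0,0,0,0,64]⟩,
    ⟨[0,2,1,0,1,2,3,5,4], [0,0,0,0,64], [0,0,0,0,64]⟩,
    ⟨[0,2,1,0,1,3,2,4,5], [0,0,0,0,64], [0,0,0,0,64]⟩,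
    ⟨[0,2,1,0,1,3,2,5,4], [0,0,0,0,64], [0,0,0,0,64]⟩,
    ⟨[0,2,1,0,1,4,5,2,3], [0,60,60,0,64], [0,60,60,0,64]⟩,
    ⟨[0,2,1,0,1,5,4,3,2], [0,60,60,0,64], [0,60,60,0,64]⟩,
    ⟨[0,2,1,1,0,2,3,4,5], [0,0,0,0,64], [0,0,0,0,64]⟩,
    ⟨[0,2,1,1,0,2,3,5,4], [0,0,0,0,64], [0,0,0,0,64]⟩,
    ⟨[0,2,1,1,0,3,2,4,5], [0,0,0,0,64], [0,0,0,0,64]⟩,
    ⟨[0,2,1,1,0,3,2,5,4], [0,0,0,0,64], [0,0,0,0,64]⟩,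
    ⟨[0,2,1,1,0,4,5,2,3], [0,60,60,0,64], [0,60,60,0,64]⟩,
    ⟨[0,2,1,1,0,5,4,3,2], [0,60,60,0,64], [0,60,60,0,64]⟩,
    ⟨[0,2,1,2,3,0,1,4,5], [15,15,0,0,64], [15,15,0,0,64]⟩,
    ⟨[0,2,1,2,3,0,1,5,4], [15,15,0,0,64], [15,15,0,0,64]⟩,
    ⟨[0,2,1,3,2,1,0,4,5], [15,15,0,0,64], [15,15,0,0,64]⟩,
    ⟨[0,2,1,3,2,1,0,5,4], [15,15,0,0,64], [15,15,0,0,64]⟩,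
    ⟨[0,2,1,4,5,2,3,0,1], [51,0,51,0,64], [51,0,51,0,64]⟩,
    ⟨[0,2,1,4,5,3,2,0,1], [51,0,51,0,64], [51,0,51,0,64]⟩,
    ⟨[0,2,1,5,4,2,3,1,0], [51,0,51,0,64], [51,0,51,0,64]⟩,
    ⟨[0,2,1,5,4,3,2,1,0], [51,0,51,0,64], [51,0,51,0,64]⟩,
    ⟨[1,0,2,0,1,2,3,4,5], [0,0,0,192,192], [0,0,0,192,192]⟩,
    ⟨[1,0,2,0,1,2,3,5,4], [0,0,0,192,192], [0,0,0,192,192]⟩,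
    ⟨[1,0,2,0,1,3,2,4,5], [0,0,0,192,192], [0,0,0,192,192]⟩,
    ⟨[1,0,2,0,1,3,2,5,4], [0,0,0,192,192], [0,0,0,192,192]⟩,
    ⟨[1,0,2,0,1,4,5,2,3], [0,60,60,192,192], [0,60,60,192,192]⟩,
    ⟨[1,0,2,0,1,5,4,3,2], [0,60,60,192,192], [0,60,60,192,192]⟩,
    ⟨[1,0,2,1,0,2,3,4,5], [0,0,0,192,192], [0,0,0,192,192]⟩,
    ⟨[1,0,2,1,0,2,3,5,4], [0,0,0,192,192], [0,0,0,192,192]⟩,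
    ⟨[1,0,2,1,0,3,2,4,5], [0,0,0,192,192], [0,0,0,192,192]⟩,
    ⟨[1,0,2,1,0,3,2,5,4], [0,0,0,192,192], [0,0,0,192,192]⟩,
    ⟨[1,0,2,1,0,4,5,2,3], [0,60,60,192,192], [0,60,60,192,192]⟩,
    ⟨[1,0,2,1,0,5,4,3,2], [0,60,60,192,192], [0,60,60,192,192]⟩,
    ⟨[1,0,2,2,3,0,1,4,5], [15,15,0,192,192], [15,15,0,192,192]⟩,
    ⟨[1,0,2,2,3,0,1,5,4], [15,15,0,192,192], [15,15,0,192,192]⟩,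
    ⟨[1,0,2,3,2,1,0,4,5], [15,15,0,192,192], [15,15,0,192,192]⟩,
    ⟨[1,0,2,3,2,1,0,5,4], [15,15,0,192,192], [15,15,0,192,192]⟩,
    ⟨[1,0,2,4,5,2,3,0,1], [51,0,51,192,192], [51,0,51,192,192]⟩,
    ⟨[1,0,2,4,5,3,2,0,1], [51,0,51,192,192], [51,0,51,192,192]⟩,
    ⟨[1,0,2,5,4,2,3,1,0], [51,0,51,192,192], [51,0,51,192,192]⟩,
    ⟨[1,0,2,5,4,3,2,1,0], [51,0,51,192,192], [51,0,51,192,192]⟩,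
    ⟨[2,1,0,0,1,2,3,4,5], [0,0,0,128,0], [0,0,0,128,0]⟩,
    ⟨[2,1,0,0,1,2,3,5,4], [0,0,0,128,0], [0,0,0,128,0]⟩,
    ⟨[2,1,0,0,1,3,2,4,5], [0,0,0,128,0], [0,0,0,128,0]⟩,
    ⟨[2,1,0,0,1,3,2,5,4], [0,0,0,128,0], [0,0,0,128,0]⟩,
    ⟨[2,1,0,0,1,4,5,2,3], [0,60,60,128,0], [0,60,60,128,0]⟩,
    ⟨[2,1,0,0,1,5,4,3,2], [0,60,60,128,0], [0,60,60,128,0]⟩,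
    ⟨[2,1,0,1,0,2,3,4,5], [0,0,0,128,0], [0,0,0,128,0]⟩,
    ⟨[2,1,0,1,0,2,3,5,4], [0,0,0,128,0], [0,0,0,128,0]⟩,
    ⟨[2,1,0,1,0,3,2,4,5], [0,0,0,128,0], [0,0,0,128,0]⟩,
    ⟨[2,1,0,1,0,3,2,5,4], [0,0,0,128,0], [0,0,0,128,0]⟩,
    ⟨[2,1,0,1,0,4,5,2,3], [0,60,60,128,0], [0,60,60,128,0]⟩,
    ⟨[2,1,0,1,0,5,4,3,2], [0,60,60,128,0], [0,60,60,128,0]⟩,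
    ⟨[2,1,0,2,3,0,1,4,5], [15,15,0,128,0], [15,15,0,128,0]⟩,
    ⟨[2,1,0,2,3,0,1,5,4], [15,15,0,128,0], [15,15,0,128,0]⟩,
    ⟨[2,1,0,3,2,1,0,4,5], [15,15,0,128,0], [15,15,0,128,0]⟩,
    ⟨[2,1,0,3,2,1,0,5,4], [15,15,0,128,0], [15,15,0,128,0]⟩,
    ⟨[2,1,0,4,5,2,3,0,1], [51,0,51,128,0], [51,0,51,128,0]⟩,
    ⟨[2,1,0,4,5,3,2,0,1], [51,0,51,128,0], [51,0,51,128,0]⟩,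
    ⟨[2,1,0,5,4,2,3,1,0], [51,0,51,128,0], [51,0,51,128,0]⟩,
    ⟨[2,1,0,5,4,3,2,1,0], [51,0,51,128,0], [51,0,51,128,0]⟩]

/-- sum true: a = 1, b = Equiv.swap 0 1 * Equiv.swap 2 3 * Equiv.swap 4 5, eps = True -/
def dP03e : Datum where
  kind := Kind.sum true
  a := 1
  b := Equiv.swap 0 1 * Equiv.swap 2 3 * Equiv.swap 4 5
  e := true
  bs := [3,12,21,37,64,128]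
  cand := [
    ⟨[0,1,2,0,1,2,3,4,5], [0,0,0,0,0,0], [0,0,63,63,0,0]⟩,
    ⟨[0,1,2,0,1,2,3,5,4], [0,0,48,48,0,0], [0,0,15,15,0,0]⟩,
    ⟨[0,1,2,0,1,3,2,4,5], [0,0,12,12,0,0], [0,0,51,51,0,0]⟩,
    ⟨[0,1,2,0,1,3,2,5,4], [0,0,60,60,0,0], [0,0,3,3,0,0]⟩,
    ⟨[0,1,2,0,1,4,5,2,3], [0,60,0,60,0,0], [0,60,63,3,0,0]⟩,
    ⟨[0,1,2,0,1,5,4,3,2], [0,60,60,0,0,0], [0,60,3,63,0,0]⟩,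
    ⟨[0,1,2,1,0,2,3,4,5], [0,0,3,3,0,0], [0,0,60,60,0,0]⟩,
    ⟨[0,1,2,1,0,2,3,5,4], [0,0,51,51,0,0], [0,0,12,12,0,0]⟩,
    ⟨[0,1,2,1,0,3,2,4,5], [0,0,15,15,0,0], [0,0,48,48,0,0]⟩,
    ⟨[0,1,2,1,0,3,2,5,4], [0,0,63,63,0,0], [0,0,0,0,0,0]⟩,
    ⟨[0,1,2,1,0,4,5,2,3], [0,60,3,63,0,0], [0,60,60,0,0,0]⟩,
    ⟨[0,1,2,1,0,5,4,3,2], [0,60,63,3,0,0], [0,60,0,60,0,0]⟩,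
    ⟨[0,1,2,2,3,0,1,4,5], [15,15,0,0,0,0], [15,15,63,63,0,0]⟩,
    ⟨[0,1,2,2,3,0,1,5,4], [15,15,48,48,0,0], [15,15,15,15,0,0]⟩,
    ⟨[0,1,2,3,2,1,0,4,5], [15,15,15,15,0,0], [15,15,48,48,0,0]⟩,
    ⟨[0,1,2,3,2,1,0,5,4], [15,15,63,63,0,0], [15,15,0,0,0,0]⟩,
    ⟨[0,1,2,4,5,2,3,0,1], [51,0,0,51,0,0], [51,0,63,12,0,0]⟩,
    ⟨[0,1,2,4,5,3,2,0,1], [51,0,12,63,0,0], [51,0,51,0,0,0]⟩,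
    ⟨[0,1,2,5,4,2,3,1,0], [51,0,51,0,0,0], [51,0,12,63,0,0]⟩,
    ⟨[0,1,2,5,4,3,2,1,0], [51,0,63,12,0,0], [51,0,0,51,0,0]⟩,
    ⟨[0,2,1,0,1,2,3,4,5], [0,0,0,0,0,64], [0,0,63,63,0,64]⟩,
    ⟨[0,2,1,0,1,2,3,5,4], [0,0,48,48,0,64], [0,0,15,15,0,64]⟩,
    ⟨[0,2,1,0,1,3,2,4,5], [0,0,12,12,0,64], [0,0,51,51,0,64]⟩,
    ⟨[0,2,1,0,1,3,2,5,4], [0,0,60,60,0,64], [0,0,3,3,0,64]⟩,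
    ⟨[0,2,1,0,1,4,5,2,3], [0,60,0,60,0,64], [0,60,63,3,0,64]⟩,
    ⟨[0,2,1,0,1,5,4,3,2], [0,60,60,0,0,64], [0,60,3,63,0,64]⟩,
    ⟨[0,2,1,1,0,2,3,4,5], [0,0,3,3,0,64], [0,0,60,60,0,64]⟩,
    ⟨[0,2,1,1,0,2,3,5,4], [0,0,51,51,0,64], [0,0,12,12,0,64]⟩,
    ⟨[0,2,1,1,0,3,2,4,5], [0,0,15,15,0,64], [0,0,48,48,0,64]⟩,
    ⟨[0,2,1,1,0,3,2,5,4], [0,0,63,63,0,64], [0,0,0,0,0,64]⟩,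
    ⟨[0,2,1,1,0,4,5,2,3], [0,60,3,63,0,64], [0,60,60,0,0,64]⟩,
    ⟨[0,2,1,1,0,5,4,3,2], [0,60,63,3,0,64], [0,60,0,60,0,64]⟩,
    ⟨[0,2,1,2,3,0,1,4,5], [15,15,0,0,0,64], [15,15,63,63,0,64]⟩,
    ⟨[0,2,1,2,3,0,1,5,4], [15,15,48,48,0,64], [15,15,15,15,0,64]⟩,
    ⟨[0,2,1,3,2,1,0,4,5], [15,15,15,15,0,64], [15,15,48,48,0,64]⟩,
    ⟨[0,2,1,3,2,1,0,5,4], [15,15,63,63,0,64], [15,15,0,0,0,64]⟩,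
    ⟨[0,2,1,4,5,2,3,0,1], [51,0,0,51,0,64], [51,0,63,12,0,64]⟩,
    ⟨[0,2,1,4,5,3,2,0,1], [51,0,12,63,0,64], [51,0,51,0,0,64]⟩,
    ⟨[0,2,1,5,4,2,3,1,0], [51,0,51,0,0,64], [51,0,12,63,0,64]⟩,
    ⟨[0,2,1,5,4,3,2,1,0], [51,0,63,12,0,64], [51,0,0,51,0,64]⟩,
    ⟨[1,0,2,0,1,2,3,4,5], [0,0,0,0,192,192], [0,0,63,63,192,192]⟩,
    ⟨[1,0,2,0,1,2,3,5,4], [0,0,48,48,192,192], [0,0,15,15,192,192]⟩,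
    ⟨[1,0,2,0,1,3,2,4,5], [0,0,12,12,192,192], [0,0,51,51,192,192]⟩,
    ⟨[1,0,2,0,1,3,2,5,4], [0,0,60,60,192,192], [0,0,3,3,192,192]⟩,
    ⟨[1,0,2,0,1,4,5,2,3], [0,60,0,60,192,192], [0,60,63,3,192,192]⟩,
    ⟨[1,0,2,0,1,5,4,3,2], [0,60,60,0,192,192], [0,60,3,63,192,192]⟩,
    ⟨[1,0,2,1,0,2,3,4,5], [0,0,3,3,192,192], [0,0,60,60,192,192]⟩,
    ⟨[1,0,2,1,0,2,3,5,4], [0,0,51,51,192,192], [0,0,12,12,192,192]⟩,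
    ⟨[1,0,2,1,0,3,2,4,5], [0,0,15,15,192,192], [0,0,48,48,192,192]⟩,
    ⟨[1,0,2,1,0,3,2,5,4], [0,0,63,63,192,192], [0,0,0,0,192,192]⟩,
    ⟨[1,0,2,1,0,4,5,2,3], [0,60,3,63,192,192], [0,60,60,0,192,192]⟩,
    ⟨[1,0,2,1,0,5,4,3,2], [0,60,63,3,192,192], [0,60,0,60,192,192]⟩,
    ⟨[1,0,2,2,3,0,1,4,5], [15,15,0,0,192,192], [15,15,63,63,192,192]⟩,
    ⟨[1,0,2,2,3,0,1,5,4], [15,15,48,48,192,192], [15,15,15,15,192,192]⟩,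
    ⟨[1,0,2,3,2,1,0,4,5], [15,15,15,15,192,192], [15,15,48,48,192,192]⟩,
    ⟨[1,0,2,3,2,1,0,5,4], [15,15,63,63,192,192], [15,15,0,0,192,192]⟩,
    ⟨[1,0,2,4,5,2,3,0,1], [51,0,0,51,192,192], [51,0,63,12,192,192]⟩,
    ⟨[1,0,2,4,5,3,2,0,1], [51,0,12,63,192,192], [51,0,51,0,192,192]⟩,
    ⟨[1,0,2,5,4,2,3,1,0], [51,0,51,0,192,192], [51,0,12,63,192,192]⟩,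
    ⟨[1,0,2,5,4,3,2,1,0], [51,0,63,12,192,192], [51,0,0,51,192,192]⟩,
    ⟨[2,1,0,0,1,2,3,4,5], [0,0,0,0,128,0], [0,0,63,63,128,0]⟩,
    ⟨[2,1,0,0,1,2,3,5,4], [0,0,48,48,128,0], [0,0,15,15,128,0]⟩,
    ⟨[2,1,0,0,1,3,2,4,5], [0,0,12,12,128,0], [0,0,51,51,128,0]⟩,
    ⟨[2,1,0,0,1,3,2,5,4], [0,0,60,60,128,0], [0,0,3,3,128,0]⟩,
    ⟨[2,1,0,0,1,4,5,2,3], [0,60,0,60,128,0], [0,60,63,3,128,0]⟩,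
    ⟨[2,1,0,0,1,5,4,3,2], [0,60,60,0,128,0], [0,60,3,63,128,0]⟩,
    ⟨[2,1,0,1,0,2,3,4,5], [0,0,3,3,128,0], [0,0,60,60,128,0]⟩,
    ⟨[2,1,0,1,0,2,3,5,4], [0,0,51,51,128,0], [0,0,12,12,128,0]⟩,
    ⟨[2,1,0,1,0,3,2,4,5], [0,0,15,15,128,0], [0,0,48,48,128,0]⟩,
    ⟨[2,1,0,1,0,3,2,5,4], [0,0,63,63,128,0], [0,0,0,0,128,0]⟩,
    ⟨[2,1,0,1,0,4,5,2,3], [0,60,3,63,128,0], [0,60,60,0,128,0]⟩,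
    ⟨[2,1,0,1,0,5,4,3,2], [0,60,63,3,128,0], [0,60,0,60,128,0]⟩,
    ⟨[2,1,0,2,3,0,1,4,5], [15,15,0,0,128,0], [15,15,63,63,128,0]⟩,
    ⟨[2,1,0,2,3,0,1,5,4], [15,15,48,48,128,0], [15,15,15,15,128,0]⟩,
    ⟨[2,1,0,3,2,1,0,4,5], [15,15,15,15,128,0], [15,15,48,48,128,0]⟩,
    ⟨[2,1,0,3,2,1,0,5,4], [15,15,63,63,128,0], [15,15,0,0,128,0]⟩,
    ⟨[2,1,0,4,5,2,3,0,1], [51,0,0,51,128,0], [51,0,63,12,128,0]⟩,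
    ⟨[2,1,0,4,5,3,2,0,1], [51,0,12,63,128,0], [51,0,51,0,128,0]⟩,
    ⟨[2,1,0,5,4,2,3,1,0], [51,0,51,0,128,0], [51,0,12,63,128,0]⟩,
    ⟨[2,1,0,5,4,3,2,1,0], [51,0,63,12,128,0], [51,0,0,51,128,0]⟩]

/-- sum true: a = Equiv.swap 1 2, b = 1, eps = False -/
def dP10n : Datum where
  kind := Kind.sum true
  a := Equiv.swap 1 2
  b := 1
  e := false
  bs := [1,2,4,8,16,32,64]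
  cand := [
    ⟨[0,1,2,0,1,2,3,4,5], [0,0,0,0,0,0,0], [63,63,63,63,63,63,0]⟩,
    ⟨[0,1,2,0,1,2,3,5,4], [0,0,0,0,48,48,0], [63,63,63,63,15,15,0]⟩,
    ⟨[0,1,2,0,1,2,4,3,5], [0,0,0,24,24,0,0], [63,63,63,39,39,63,0]⟩,
    ⟨[0,1,2,0,1,2,5,4,3], [0,0,0,40,0,40,0], [63,63,63,23,63,23,0]⟩,
    ⟨[0,1,2,0,1,3,2,4,5], [0,0,12,12,0,0,0], [63,63,51,51,63,63,0]⟩,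
    ⟨[0,1,2,0,1,3,2,5,4], [0,0,12,12,48,48,0], [63,63,51,51,15,15,0]⟩,
    ⟨[0,1,2,0,1,4,3,2,5], [0,0,20,0,20,0,0], [63,63,43,63,43,63,0]⟩,
    ⟨[0,1,2,0,1,4,5,2,3], [0,0,20,40,20,40,0], [63,63,43,23,43,23,0]⟩,
    ⟨[0,1,2,0,1,5,3,4,2], [0,0,36,0,0,36,0], [63,63,27,63,63,27,0]⟩,
    ⟨[0,1,2,0,1,5,4,3,2], [0,0,36,24,24,36,0], [63,63,27,39,39,27,0]⟩,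
    ⟨[0,1,2,0,2,1,3,4,5], [0,6,6,0,0,0,0], [63,57,57,63,63,63,0]⟩,
    ⟨[0,1,2,0,2,1,3,5,4], [0,6,6,0,48,48,0], [63,57,57,63,15,15,0]⟩,
    ⟨[0,1,2,0,2,1,4,3,5], [0,6,6,24,24,0,0], [63,57,57,39,39,63,0]⟩,
    ⟨[0,1,2,0,2,1,5,4,3], [0,6,6,40,0,40,0], [63,57,57,23,63,23,0]⟩,
    ⟨[0,1,2,0,3,2,1,4,5], [0,10,0,10,0,0,0], [63,53,63,53,63,63,0]⟩,
    ⟨[0,1,2,0,3,2,1,5,4], [0,10,0,10,48,48,0], [63,53,63,53,15,15,0]⟩,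
    ⟨[0,1,2,0,3,4,1,2,5], [0,10,20,10,20,0,0], [63,53,43,53,43,63,0]⟩,
    ⟨[0,1,2,0,3,5,1,4,2], [0,10,36,10,0,36,0], [63,53,27,53,63,27,0]⟩,
    ⟨[0,1,2,0,4,2,3,1,5], [0,18,0,0,18,0,0], [63,45,63,63,45,63,0]⟩,
    ⟨[0,1,2,0,4,2,5,1,3], [0,18,0,40,18,40,0], [63,45,63,23,45,23,0]⟩,
    ⟨[0,1,2,0,4,3,2,1,5], [0,18,12,12,18,0,0], [63,45,51,51,45,63,0]⟩,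
    ⟨[0,1,2,0,4,5,3,1,2], [0,18,36,0,18,36,0], [63,45,27,63,45,27,0]⟩,
    ⟨[0,1,2,0,5,2,3,4,1], [0,34,0,0,0,34,0], [63,29,63,63,63,29,0]⟩,
    ⟨[0,1,2,0,5,2,4,3,1], [0,34,0,24,24,34,0], [63,29,63,39,39,29,0]⟩,
    ⟨[0,1,2,0,5,3,2,4,1], [0,34,12,12,0,34,0], [63,29,51,51,63,29,0]⟩,
    ⟨[0,1,2,0,5,4,3,2,1], [0,34,20,0,20,34,0], [63,29,43,63,43,29,0]⟩,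
    ⟨[0,1,2,1,0,2,3,4,5], [3,3,0,0,0,0,0], [60,60,63,63,63,63,0]⟩,
    ⟨[0,1,2,1,0,2,3,5,4], [3,3,0,0,48,48,0], [60,60,63,63,15,15,0]⟩,
    ⟨[0,1,2,1,0,2,4,3,5], [3,3,0,24,24,0,0], [60,60,63,39,39,63,0]⟩,
    ⟨[0,1,2,1,0,2,5,4,3], [3,3,0,40,0,40,0], [60,60,63,23,63,23,0]⟩,
    ⟨[0,1,2,1,0,3,2,4,5], [3,3,12,12,0,0,0], [60,60,51,51,63,63,0]⟩,
    ⟨[0,1,2,1,0,3,2,5,4], [3,3,12,12,48,48,0], [60,60,51,51,15,15,0]⟩,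
    ⟨[0,1,2,1,0,4,3,2,5], [3,3,20,0,20,0,0], [60,60,43,63,43,63,0]⟩,
    ⟨[0,1,2,1,0,4,5,2,3], [3,3,20,40,20,40,0], [60,60,43,23,43,23,0]⟩,
    ⟨[0,1,2,1,0,5,3,4,2], [3,3,36,0,0,36,0], [60,60,27,63,63,27,0]⟩,
    ⟨[0,1,2,1,0,5,4,3,2], [3,3,36,24,24,36,0], [60,60,27,39,39,27,0]⟩,
    ⟨[0,1,2,2,1,0,3,4,5], [5,0,5,0,0,0,0], [58,63,58,63,63,63,0]⟩,
    ⟨[0,1,2,2,1,0,3,5,4], [5,0,5,0,48,48,0], [58,63,58,63,15,15,0]⟩,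
    ⟨[0,1,2,2,1,0,4,3,5], [5,0,5,24,24,0,0], [58,63,58,39,39,63,0]⟩,
    ⟨[0,1,2,2,1,0,5,4,3], [5,0,5,40,0,40,0], [58,63,58,23,63,23,0]⟩,
    ⟨[0,1,2,2,3,0,1,4,5], [5,10,5,10,0,0,0], [58,53,58,53,63,63,0]⟩,
    ⟨[0,1,2,2,3,0,1,5,4], [5,10,5,10,48,48,0], [58,53,58,53,15,15,0]⟩,
    ⟨[0,1,2,2,4,0,3,1,5], [5,18,5,0,18,0,0], [58,45,58,63,45,63,0]⟩,
    ⟨[0,1,2,2,4,0,5,1,3], [5,18,5,40,18,40,0], [58,45,58,23,45,23,0]⟩,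
    ⟨[0,1,2,2,5,0,3,4,1], [5,34,5,0,0,34,0], [58,29,58,63,63,29,0]⟩,
    ⟨[0,1,2,2,5,0,4,3,1], [5,34,5,24,24,34,0], [58,29,58,39,39,29,0]⟩,
    ⟨[0,1,2,3,1,2,0,4,5], [9,0,0,9,0,0,0], [54,63,63,54,63,63,0]⟩,
    ⟨[0,1,2,3,1,2,0,5,4], [9,0,0,9,48,48,0], [54,63,63,54,15,15,0]⟩,
    ⟨[0,1,2,3,1,4,0,2,5], [9,0,20,9,20,0,0], [54,63,43,54,43,63,0]⟩,
    ⟨[0,1,2,3,1,5,0,4,2], [9,0,36,9,0,36,0], [54,63,27,54,63,27,0]⟩,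
    ⟨[0,1,2,3,2,1,0,4,5], [9,6,6,9,0,0,0], [54,57,57,54,63,63,0]⟩,
    ⟨[0,1,2,3,2,1,0,5,4], [9,6,6,9,48,48,0], [54,57,57,54,15,15,0]⟩,
    ⟨[0,1,2,3,4,2,0,1,5], [9,18,0,9,18,0,0], [54,45,63,54,45,63,0]⟩,
    ⟨[0,1,2,3,4,5,0,1,2], [9,18,36,9,18,36,0], [54,45,27,54,45,27,0]⟩,
    ⟨[0,1,2,3,5,2,0,4,1], [9,34,0,9,0,34,0], [54,29,63,54,63,29,0]⟩,
    ⟨[0,1,2,3,5,4,0,2,1], [9,34,20,9,20,34,0], [54,29,43,54,43,29,0]⟩,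
    ⟨[0,1,2,4,1,2,3,0,5], [17,0,0,0,17,0,0], [46,63,63,63,46,63,0]⟩,
    ⟨[0,1,2,4,1,2,5,0,3], [17,0,0,40,17,40,0], [46,63,63,23,46,23,0]⟩,
    ⟨[0,1,2,4,1,3,2,0,5], [17,0,12,12,17,0,0], [46,63,51,51,46,63,0]⟩,
    ⟨[0,1,2,4,1,5,3,0,2], [17,0,36,0,17,36,0], [46,63,27,63,46,27,0]⟩,
    ⟨[0,1,2,4,2,1,3,0,5], [17,6,6,0,17,0,0], [46,57,57,63,46,63,0]⟩,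
    ⟨[0,1,2,4,2,1,5,0,3], [17,6,6,40,17,40,0], [46,57,57,23,46,23,0]⟩,
    ⟨[0,1,2,4,3,2,1,0,5], [17,10,0,10,17,0,0], [46,53,63,53,46,63,0]⟩,
    ⟨[0,1,2,4,3,5,1,0,2], [17,10,36,10,17,36,0], [46,53,27,53,46,27,0]⟩,
    ⟨[0,1,2,4,5,2,3,0,1], [17,34,0,0,17,34,0], [46,29,63,63,46,29,0]⟩,
    ⟨[0,1,2,4,5,3,2,0,1], [17,34,12,12,17,34,0], [46,29,51,51,46,29,0]⟩,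
    ⟨[0,1,2,5,1,2,3,4,0], [33,0,0,0,0,33,0], [30,63,63,63,63,30,0]⟩,
    ⟨[0,1,2,5,1,2,4,3,0], [33,0,0,24,24,33,0], [30,63,63,39,39,30,0]⟩,
    ⟨[0,1,2,5,1,3,2,4,0], [33,0,12,12,0,33,0], [30,63,51,51,63,30,0]⟩,
    ⟨[0,1,2,5,1,4,3,2,0], [33,0,20,0,20,33,0], [30,63,43,63,43,30,0]⟩,
    ⟨[0,1,2,5,2,1,3,4,0], [33,6,6,0,0,33,0], [30,57,57,63,63,30,0]⟩,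
    ⟨[0,1,2,5,2,1,4,3,0], [33,6,6,24,24,33,0], [30,57,57,39,39,30,0]⟩,
    ⟨[0,1,2,5,3,2,1,4,0], [33,10,0,10,0,33,0], [30,53,63,53,63,30,0]⟩,
    ⟨[0,1,2,5,3,4,1,2,0], [33,10,20,10,20,33,0], [30,53,43,53,43,30,0]⟩,
    ⟨[0,1,2,5,4,2,3,1,0], [33,18,0,0,18,33,0], [30,45,63,63,45,30,0]⟩,
    ⟨[0,1,2,5,4,3,2,1,0], [33,18,12,12,18,33,0], [30,45,51,51,45,30,0]⟩,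
    ⟨[0,2,1,0,1,2,3,4,5], [0,0,0,0,0,0,0], [63,63,63,63,63,63,0]⟩,
    ⟨[0,2,1,0,1,2,3,5,4], [0,0,0,0,48,48,0], [63,63,63,63,15,15,0]⟩,
    ⟨[0,2,1,0,1,2,4,3,5], [0,0,0,24,24,0,0], [63,63,63,39,39,63,0]⟩,
    ⟨[0,2,1,0,1,2,5,4,3], [0,0,0,40,0,40,0], [63,63,63,23,63,23,0]⟩,
    ⟨[0,2,1,0,1,3,2,4,5], [0,0,12,12,0,0,0], [63,63,51,51,63,63,0]⟩,
    ⟨[0,2,1,0,1,3,2,5,4], [0,0,12,12,48,48,0], [63,63,51,51,15,15,0]⟩,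
    ⟨[0,2,1,0,1,4,3,2,5], [0,0,20,0,20,0,0], [63,63,43,63,43,63,0]⟩,
    ⟨[0,2,1,0,1,4,5,2,3], [0,0,20,40,20,40,0], [63,63,43,23,43,23,0]⟩,
    ⟨[0,2,1,0,1,5,3,4,2], [0,0,36,0,0,36,0], [63,63,27,63,63,27,0]⟩,
    ⟨[0,2,1,0,1,5,4,3,2], [0,0,36,24,24,36,0], [63,63,27,39,39,27,0]⟩,
    ⟨[0,2,1,0,2,1,3,4,5], [0,6,6,0,0,0,0], [63,57,57,63,63,63,0]⟩,
    ⟨[0,2,1,0,2,1,3,5,4], [0,6,6,0,48,48,0], [63,57,57,63,15,15,0]⟩,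
    ⟨[0,2,1,0,2,1,4,3,5], [0,6,6,24,24,0,0], [63,57,57,39,39,63,0]⟩,
    ⟨[0,2,1,0,2,1,5,4,3], [0,6,6,40,0,40,0], [63,57,57,23,63,23,0]⟩,
    ⟨[0,2,1,0,3,2,1,4,5], [0,10,0,10,0,0,0], [63,53,63,53,63,63,0]⟩,
    ⟨[0,2,1,0,3,2,1,5,4], [0,10,0,10,48,48,0], [63,53,63,53,15,15,0]⟩,
    ⟨[0,2,1,0,3,4,1,2,5], [0,10,20,10,20,0,0], [63,53,43,53,43,63,0]⟩,
    ⟨[0,2,1,0,3,5,1,4,2], [0,10,36,10,0,36,0], [63,53,27,53,63,27,0]⟩,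
    ⟨[0,2,1,0,4,2,3,1,5], [0,18,0,0,18,0,0], [63,45,63,63,45,63,0]⟩,
    ⟨[0,2,1,0,4,2,5,1,3], [0,18,0,40,18,40,0], [63,45,63,23,45,23,0]⟩,
    ⟨[0,2,1,0,4,3,2,1,5], [0,18,12,12,18,0,0], [63,45,51,51,45,63,0]⟩,
    ⟨[0,2,1,0,4,5,3,1,2], [0,18,36,0,18,36,0], [63,45,27,63,45,27,0]⟩,
    ⟨[0,2,1,0,5,2,3,4,1], [0,34,0,0,0,34,0], [63,29,63,63,63,29,0]⟩,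
    ⟨[0,2,1,0,5,2,4,3,1], [0,34,0,24,24,34,0], [63,29,63,39,39,29,0]⟩,
    ⟨[0,2,1,0,5,3,2,4,1], [0,34,12,12,0,34,0], [63,29,51,51,63,29,0]⟩,
    ⟨[0,2,1,0,5,4,3,2,1], [0,34,20,0,20,34,0], [63,29,43,63,43,29,0]⟩,
    ⟨[0,2,1,1,0,2,3,4,5], [3,3,0,0,0,0,0], [60,60,63,63,63,63,0]⟩,
    ⟨[0,2,1,1,0,2,3,5,4], [3,3,0,0,48,48,0], [60,60,63,63,15,15,0]⟩,
    ⟨[0,2,1,1,0,2,4,3,5], [3,3,0,24,24,0,0], [60,60,63,39,39,63,0]⟩,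
    ⟨[0,2,1,1,0,2,5,4,3], [3,3,0,40,0,40,0], [60,60,63,23,63,23,0]⟩,
    ⟨[0,2,1,1,0,3,2,4,5], [3,3,12,12,0,0,0], [60,60,51,51,63,63,0]⟩,
    ⟨[0,2,1,1,0,3,2,5,4], [3,3,12,12,48,48,0], [60,60,51,51,15,15,0]⟩,
    ⟨[0,2,1,1,0,4,3,2,5], [3,3,20,0,20,0,0], [60,60,43,63,43,63,0]⟩,
    ⟨[0,2,1,1,0,4,5,2,3], [3,3,20,40,20,40,0], [60,60,43,23,43,23,0]⟩,
    ⟨[0,2,1,1,0,5,3,4,2], [3,3,36,0,0,36,0], [60,60,27,63,63,27,0]⟩,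
    ⟨[0,2,1,1,0,5,4,3,2], [3,3,36,24,24,36,0], [60,60,27,39,39,27,0]⟩,
    ⟨[0,2,1,2,1,0,3,4,5], [5,0,5,0,0,0,0], [58,63,58,63,63,63,0]⟩,
    ⟨[0,2,1,2,1,0,3,5,4], [5,0,5,0,48,48,0], [58,63,58,63,15,15,0]⟩,
    ⟨[0,2,1,2,1,0,4,3,5], [5,0,5,24,24,0,0], [58,63,58,39,39,63,0]⟩,
    ⟨[0,2,1,2,1,0,5,4,3], [5,0,5,40,0,40,0], [58,63,58,23,63,23,0]⟩,
    ⟨[0,2,1,2,3,0,1,4,5], [5,10,5,10,0,0,0], [58,53,58,53,63,63,0]⟩,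
    ⟨[0,2,1,2,3,0,1,5,4], [5,10,5,10,48,48,0], [58,53,58,53,15,15,0]⟩,
    ⟨[0,2,1,2,4,0,3,1,5], [5,18,5,0,18,0,0], [58,45,58,63,45,63,0]⟩,
    ⟨[0,2,1,2,4,0,5,1,3], [5,18,5,40,18,40,0], [58,45,58,23,45,23,0]⟩,
    ⟨[0,2,1,2,5,0,3,4,1], [5,34,5,0,0,34,0], [58,29,58,63,63,29,0]⟩,
    ⟨[0,2,1,2,5,0,4,3,1], [5,34,5,24,24,34,0], [58,29,58,39,39,29,0]⟩,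
    ⟨[0,2,1,3,1,2,0,4,5], [9,0,0,9,0,0,0], [54,63,63,54,63,63,0]⟩,
    ⟨[0,2,1,3,1,2,0,5,4], [9,0,0,9,48,48,0], [54,63,63,54,15,15,0]⟩,
    ⟨[0,2,1,3,1,4,0,2,5], [9,0,20,9,20,0,0], [54,63,43,54,43,63,0]⟩,
    ⟨[0,2,1,3,1,5,0,4,2], [9,0,36,9,0,36,0], [54,63,27,54,63,27,0]⟩,
    ⟨[0,2,1,3,2,1,0,4,5], [9,6,6,9,0,0,0], [54,57,57,54,63,63,0]⟩,
    ⟨[0,2,1,3,2,1,0,5,4], [9,6,6,9,48,48,0], [54,57,57,54,15,15,0]⟩,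
    ⟨[0,2,1,3,4,2,0,1,5], [9,18,0,9,18,0,0], [54,45,63,54,45,63,0]⟩,
    ⟨[0,2,1,3,4,5,0,1,2], [9,18,36,9,18,36,0], [54,45,27,54,45,27,0]⟩,
    ⟨[0,2,1,3,5,2,0,4,1], [9,34,0,9,0,34,0], [54,29,63,54,63,29,0]⟩,
    ⟨[0,2,1,3,5,4,0,2,1], [9,34,20,9,20,34,0], [54,29,43,54,43,29,0]⟩,
    ⟨[0,2,1,4,1,2,3,0,5], [17,0,0,0,17,0,0], [46,63,63,63,46,63,0]⟩,
    ⟨[0,2,1,4,1,2,5,0,3], [17,0,0,40,17,40,0], [46,63,63,23,46,23,0]⟩,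
    ⟨[0,2,1,4,1,3,2,0,5], [17,0,12,12,17,0,0], [46,63,51,51,46,63,0]⟩,
    ⟨[0,2,1,4,1,5,3,0,2], [17,0,36,0,17,36,0], [46,63,27,63,46,27,0]⟩,
    ⟨[0,2,1,4,2,1,3,0,5], [17,6,6,0,17,0,0], [46,57,57,63,46,63,0]⟩,
    ⟨[0,2,1,4,2,1,5,0,3], [17,6,6,40,17,40,0], [46,57,57,23,46,23,0]⟩,
    ⟨[0,2,1,4,3,2,1,0,5], [17,10,0,10,17,0,0], [46,53,63,53,46,63,0]⟩,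
    ⟨[0,2,1,4,3,5,1,0,2], [17,10,36,10,17,36,0], [46,53,27,53,46,27,0]⟩,
    ⟨[0,2,1,4,5,2,3,0,1], [17,34,0,0,17,34,0], [46,29,63,63,46,29,0]⟩,
    ⟨[0,2,1,4,5,3,2,0,1], [17,34,12,12,17,34,0], [46,29,51,51,46,29,0]⟩,
    ⟨[0,2,1,5,1,2,3,4,0], [33,0,0,0,0,33,0], [30,63,63,63,63,30,0]⟩,
    ⟨[0,2,1,5,1,2,4,3,0], [33,0,0,24,24,33,0], [30,63,63,39,39,30,0]⟩,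
    ⟨[0,2,1,5,1,3,2,4,0], [33,0,12,12,0,33,0], [30,63,51,51,63,30,0]⟩,
    ⟨[0,2,1,5,1,4,3,2,0], [33,0,20,0,20,33,0], [30,63,43,63,43,30,0]⟩,
    ⟨[0,2,1,5,2,1,3,4,0], [33,6,6,0,0,33,0], [30,57,57,63,63,30,0]⟩,
    ⟨[0,2,1,5,2,1,4,3,0], [33,6,6,24,24,33,0], [30,57,57,39,39,30,0]⟩,
    ⟨[0,2,1,5,3,2,1,4,0], [33,10,0,10,0,33,0], [30,53,63,53,63,30,0]⟩,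
    ⟨[0,2,1,5,3,4,1,2,0], [33,10,20,10,20,33,0], [30,53,43,53,43,30,0]⟩,
    ⟨[0,2,1,5,4,2,3,1,0], [33,18,0,0,18,33,0], [30,45,63,63,45,30,0]⟩,
    ⟨[0,2,1,5,4,3,2,1,0], [33,18,12,12,18,33,0], [30,45,51,51,45,30,0]⟩]

/-- sum true: a = Equiv.swap 1 2, b = 1, eps = True -/
def dP10e : Datum where
  kind := Kind.sum true
  a := Equiv.swap 1 2
  b := 1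
  e := true
  bs := [3,5,9,17,33,64]
  cand := [
    ⟨[0,1,2,0,1,2,3,4,5], [0,0,0,0,0,0], [0,0,0,0,0,0]⟩,
    ⟨[0,1,2,0,1,2,3,5,4], [0,0,0,48,48,0], [0,0,0,48,48,0]⟩,
    ⟨[0,1,2,0,1,2,4,3,5], [0,0,24,24,0,0], [0,0,24,24,0,0]⟩,
    ⟨[0,1,2,0,1,2,5,4,3], [0,0,40,0,40,0], [0,0,40,0,40,0]⟩,
    ⟨[0,1,2,0,1,3,2,4,5], [0,12,12,0,0,0], [0,12,12,0,0,0]⟩,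
    ⟨[0,1,2,0,1,3,2,5,4], [0,12,12,48,48,0], [0,12,12,48,48,0]⟩,
    ⟨[0,1,2,0,1,4,3,2,5], [0,20,0,20,0,0], [0,20,0,20,0,0]⟩,
    ⟨[0,1,2,0,1,4,5,2,3], [0,20,40,20,40,0], [0,20,40,20,40,0]⟩,
    ⟨[0,1,2,0,1,5,3,4,2], [0,36,0,0,36,0], [0,36,0,0,36,0]⟩,
    ⟨[0,1,2,0,1,5,4,3,2], [0,36,24,24,36,0], [0,36,24,24,36,0]⟩,
    ⟨[0,1,2,0,2,1,3,4,5], [6,6,0,0,0,0], [6,6,0,0,0,0]⟩,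
    ⟨[0,1,2,0,2,1,3,5,4], [6,6,0,48,48,0], [6,6,0,48,48,0]⟩,
    ⟨[0,1,2,0,2,1,4,3,5], [6,6,24,24,0,0], [6,6,24,24,0,0]⟩,
    ⟨[0,1,2,0,2,1,5,4,3], [6,6,40,0,40,0], [6,6,40,0,40,0]⟩,
    ⟨[0,1,2,0,3,2,1,4,5], [10,0,10,0,0,0], [10,0,10,0,0,0]⟩,
    ⟨[0,1,2,0,3,2,1,5,4], [10,0,10,48,48,0], [10,0,10,48,48,0]⟩,
    ⟨[0,1,2,0,3,4,1,2,5], [10,20,10,20,0,0], [10,20,10,20,0,0]⟩,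
    ⟨[0,1,2,0,3,5,1,4,2], [10,36,10,0,36,0], [10,36,10,0,36,0]⟩,
    ⟨[0,1,2,0,4,2,3,1,5], [18,0,0,18,0,0], [18,0,0,18,0,0]⟩,
    ⟨[0,1,2,0,4,2,5,1,3], [18,0,40,18,40,0], [18,0,40,18,40,0]⟩,
    ⟨[0,1,2,0,4,3,2,1,5], [18,12,12,18,0,0], [18,12,12,18,0,0]⟩,
    ⟨[0,1,2,0,4,5,3,1,2], [18,36,0,18,36,0], [18,36,0,18,36,0]⟩,
    ⟨[0,1,2,0,5,2,3,4,1], [34,0,0,0,34,0], [34,0,0,0,34,0]⟩,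
    ⟨[0,1,2,0,5,2,4,3,1], [34,0,24,24,34,0], [34,0,24,24,34,0]⟩,
    ⟨[0,1,2,0,5,3,2,4,1], [34,12,12,0,34,0], [34,12,12,0,34,0]⟩,
    ⟨[0,1,2,0,5,4,3,2,1], [34,20,0,20,34,0], [34,20,0,20,34,0]⟩,
    ⟨[0,1,2,1,0,2,3,4,5], [0,3,3,3,3,0], [0,3,3,3,3,0]⟩,
    ⟨[0,1,2,1,0,2,3,5,4], [0,3,3,51,51,0], [0,3,3,51,51,0]⟩,
    ⟨[0,1,2,1,0,2,4,3,5], [0,3,27,27,3,0], [0,3,27,27,3,0]⟩,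
    ⟨[0,1,2,1,0,2,5,4,3], [0,3,43,3,43,0], [0,3,43,3,43,0]⟩,
    ⟨[0,1,2,1,0,3,2,4,5], [0,15,15,3,3,0], [0,15,15,3,3,0]⟩,
    ⟨[0,1,2,1,0,3,2,5,4], [0,15,15,51,51,0], [0,15,15,51,51,0]⟩,
    ⟨[0,1,2,1,0,4,3,2,5], [0,23,3,23,3,0], [0,23,3,23,3,0]⟩,
    ⟨[0,1,2,1,0,4,5,2,3], [0,23,43,23,43,0], [0,23,43,23,43,0]⟩,
    ⟨[0,1,2,1,0,5,3,4,2], [0,39,3,3,39,0], [0,39,3,3,39,0]⟩,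
    ⟨[0,1,2,1,0,5,4,3,2], [0,39,27,27,39,0], [0,39,27,27,39,0]⟩,
    ⟨[0,1,2,2,1,0,3,4,5], [5,0,5,5,5,0], [5,0,5,5,5,0]⟩,
    ⟨[0,1,2,2,1,0,3,5,4], [5,0,5,53,53,0], [5,0,5,53,53,0]⟩,
    ⟨[0,1,2,2,1,0,4,3,5], [5,0,29,29,5,0], [5,0,29,29,5,0]⟩,
    ⟨[0,1,2,2,1,0,5,4,3], [5,0,45,5,45,0], [5,0,45,5,45,0]⟩,
    ⟨[0,1,2,2,3,0,1,4,5], [15,0,15,5,5,0], [15,0,15,5,5,0]⟩,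
    ⟨[0,1,2,2,3,0,1,5,4], [15,0,15,53,53,0], [15,0,15,53,53,0]⟩,
    ⟨[0,1,2,2,4,0,3,1,5], [23,0,5,23,5,0], [23,0,5,23,5,0]⟩,
    ⟨[0,1,2,2,4,0,5,1,3], [23,0,45,23,45,0], [23,0,45,23,45,0]⟩,
    ⟨[0,1,2,2,5,0,3,4,1], [39,0,5,5,39,0], [39,0,5,5,39,0]⟩,
    ⟨[0,1,2,2,5,0,4,3,1], [39,0,29,29,39,0], [39,0,29,29,39,0]⟩,
    ⟨[0,1,2,3,1,2,0,4,5], [9,9,0,9,9,0], [9,9,0,9,9,0]⟩,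
    ⟨[0,1,2,3,1,2,0,5,4], [9,9,0,57,57,0], [9,9,0,57,57,0]⟩,
    ⟨[0,1,2,3,1,4,0,2,5], [9,29,0,29,9,0], [9,29,0,29,9,0]⟩,
    ⟨[0,1,2,3,1,5,0,4,2], [9,45,0,9,45,0], [9,45,0,9,45,0]⟩,
    ⟨[0,1,2,3,2,1,0,4,5], [15,15,0,9,9,0], [15,15,0,9,9,0]⟩,
    ⟨[0,1,2,3,2,1,0,5,4], [15,15,0,57,57,0], [15,15,0,57,57,0]⟩,
    ⟨[0,1,2,3,4,2,0,1,5], [27,9,0,27,9,0], [27,9,0,27,9,0]⟩,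
    ⟨[0,1,2,3,4,5,0,1,2], [27,45,0,27,45,0], [27,45,0,27,45,0]⟩,
    ⟨[0,1,2,3,5,2,0,4,1], [43,9,0,9,43,0], [43,9,0,9,43,0]⟩,
    ⟨[0,1,2,3,5,4,0,2,1], [43,29,0,29,43,0], [43,29,0,29,43,0]⟩,
    ⟨[0,1,2,4,1,2,3,0,5], [17,17,17,0,17,0], [17,17,17,0,17,0]⟩,
    ⟨[0,1,2,4,1,2,5,0,3], [17,17,57,0,57,0], [17,17,57,0,57,0]⟩,
    ⟨[0,1,2,4,1,3,2,0,5], [17,29,29,0,17,0], [17,29,29,0,17,0]⟩,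
    ⟨[0,1,2,4,1,5,3,0,2], [17,53,17,0,53,0], [17,53,17,0,53,0]⟩,
    ⟨[0,1,2,4,2,1,3,0,5], [23,23,17,0,17,0], [23,23,17,0,17,0]⟩,
    ⟨[0,1,2,4,2,1,5,0,3], [23,23,57,0,57,0], [23,23,57,0,57,0]⟩,
    ⟨[0,1,2,4,3,2,1,0,5], [27,17,27,0,17,0], [27,17,27,0,17,0]⟩,
    ⟨[0,1,2,4,3,5,1,0,2], [27,53,27,0,53,0], [27,53,27,0,53,0]⟩,
    ⟨[0,1,2,4,5,2,3,0,1], [51,17,17,0,51,0], [51,17,17,0,51,0]⟩,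
    ⟨[0,1,2,4,5,3,2,0,1], [51,29,29,0,51,0], [51,29,29,0,51,0]⟩,
    ⟨[0,1,2,5,1,2,3,4,0], [33,33,33,33,0,0], [33,33,33,33,0,0]⟩,
    ⟨[0,1,2,5,1,2,4,3,0], [33,33,57,57,0,0], [33,33,57,57,0,0]⟩,
    ⟨[0,1,2,5,1,3,2,4,0], [33,45,45,33,0,0], [33,45,45,33,0,0]⟩,
    ⟨[0,1,2,5,1,4,3,2,0], [33,53,33,53,0,0], [33,53,33,53,0,0]⟩,
    ⟨[0,1,2,5,2,1,3,4,0], [39,39,33,33,0,0], [39,39,33,33,0,0]⟩,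
    ⟨[0,1,2,5,2,1,4,3,0], [39,39,57,57,0,0], [39,39,57,57,0,0]⟩,
    ⟨[0,1,2,5,3,2,1,4,0], [43,33,43,33,0,0], [43,33,43,33,0,0]⟩,
    ⟨[0,1,2,5,3,4,1,2,0], [43,53,43,53,0,0], [43,53,43,53,0,0]⟩,
    ⟨[0,1,2,5,4,2,3,1,0], [51,33,33,51,0,0], [51,33,33,51,0,0]⟩,
    ⟨[0,1,2,5,4,3,2,1,0], [51,45,45,51,0,0], [51,45,45,51,0,0]⟩,
    ⟨[0,2,1,0,1,2,3,4,5], [0,0,0,0,0,0], [0,0,0,0,0,0]⟩,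
    ⟨[0,2,1,0,1,2,3,5,4], [0,0,0,48,48,0], [0,0,0,48,48,0]⟩,
    ⟨[0,2,1,0,1,2,4,3,5], [0,0,24,24,0,0], [0,0,24,24,0,0]⟩,
    ⟨[0,2,1,0,1,2,5,4,3], [0,0,40,0,40,0], [0,0,40,0,40,0]⟩,
    ⟨[0,2,1,0,1,3,2,4,5], [0,12,12,0,0,0], [0,12,12,0,0,0]⟩,
    ⟨[0,2,1,0,1,3,2,5,4], [0,12,12,48,48,0], [0,12,12,48,48,0]⟩,
    ⟨[0,2,1,0,1,4,3,2,5], [0,20,0,20,0,0], [0,20,0,20,0,0]⟩,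
    ⟨[0,2,1,0,1,4,5,2,3], [0,20,40,20,40,0], [0,20,40,20,40,0]⟩,
    ⟨[0,2,1,0,1,5,3,4,2], [0,36,0,0,36,0], [0,36,0,0,36,0]⟩,
    ⟨[0,2,1,0,1,5,4,3,2], [0,36,24,24,36,0], [0,36,24,24,36,0]⟩,
    ⟨[0,2,1,0,2,1,3,4,5], [6,6,0,0,0,0], [6,6,0,0,0,0]⟩,
    ⟨[0,2,1,0,2,1,3,5,4], [6,6,0,48,48,0], [6,6,0,48,48,0]⟩,
    ⟨[0,2,1,0,2,1,4,3,5], [6,6,24,24,0,0], [6,6,24,24,0,0]⟩,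
    ⟨[0,2,1,0,2,1,5,4,3], [6,6,40,0,40,0], [6,6,40,0,40,0]⟩,
    ⟨[0,2,1,0,3,2,1,4,5], [10,0,10,0,0,0], [10,0,10,0,0,0]⟩,
    ⟨[0,2,1,0,3,2,1,5,4], [10,0,10,48,48,0], [10,0,10,48,48,0]⟩,
    ⟨[0,2,1,0,3,4,1,2,5], [10,20,10,20,0,0], [10,20,10,20,0,0]⟩,
    ⟨[0,2,1,0,3,5,1,4,2], [10,36,10,0,36,0], [10,36,10,0,36,0]⟩,
    ⟨[0,2,1,0,4,2,3,1,5], [18,0,0,18,0,0], [18,0,0,18,0,0]⟩,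
    ⟨[0,2,1,0,4,2,5,1,3], [18,0,40,18,40,0], [18,0,40,18,40,0]⟩,
    ⟨[0,2,1,0,4,3,2,1,5], [18,12,12,18,0,0], [18,12,12,18,0,0]⟩,
    ⟨[0,2,1,0,4,5,3,1,2], [18,36,0,18,36,0], [18,36,0,18,36,0]⟩,
    ⟨[0,2,1,0,5,2,3,4,1], [34,0,0,0,34,0], [34,0,0,0,34,0]⟩,
    ⟨[0,2,1,0,5,2,4,3,1], [34,0,24,24,34,0], [34,0,24,24,34,0]⟩,
    ⟨[0,2,1,0,5,3,2,4,1], [34,12,12,0,34,0], [34,12,12,0,34,0]⟩,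
    ⟨[0,2,1,0,5,4,3,2,1], [34,20,0,20,34,0], [34,20,0,20,34,0]⟩,
    ⟨[0,2,1,1,0,2,3,4,5], [0,3,3,3,3,0], [0,3,3,3,3,0]⟩,
    ⟨[0,2,1,1,0,2,3,5,4], [0,3,3,51,51,0], [0,3,3,51,51,0]⟩,
    ⟨[0,2,1,1,0,2,4,3,5], [0,3,27,27,3,0], [0,3,27,27,3,0]⟩,
    ⟨[0,2,1,1,0,2,5,4,3], [0,3,43,3,43,0], [0,3,43,3,43,0]⟩,
    ⟨[0,2,1,1,0,3,2,4,5], [0,15,15,3,3,0], [0,15,15,3,3,0]⟩,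
    ⟨[0,2,1,1,0,3,2,5,4], [0,15,15,51,51,0], [0,15,15,51,51,0]⟩,
    ⟨[0,2,1,1,0,4,3,2,5], [0,23,3,23,3,0], [0,23,3,23,3,0]⟩,
    ⟨[0,2,1,1,0,4,5,2,3], [0,23,43,23,43,0], [0,23,43,23,43,0]⟩,
    ⟨[0,2,1,1,0,5,3,4,2], [0,39,3,3,39,0], [0,39,3,3,39,0]⟩,
    ⟨[0,2,1,1,0,5,4,3,2], [0,39,27,27,39,0], [0,39,27,27,39,0]⟩,
    ⟨[0,2,1,2,1,0,3,4,5], [5,0,5,5,5,0], [5,0,5,5,5,0]⟩,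
    ⟨[0,2,1,2,1,0,3,5,4], [5,0,5,53,53,0], [5,0,5,53,53,0]⟩,
    ⟨[0,2,1,2,1,0,4,3,5], [5,0,29,29,5,0], [5,0,29,29,5,0]⟩,
    ⟨[0,2,1,2,1,0,5,4,3], [5,0,45,5,45,0], [5,0,45,5,45,0]⟩,
    ⟨[0,2,1,2,3,0,1,4,5], [15,0,15,5,5,0], [15,0,15,5,5,0]⟩,
    ⟨[0,2,1,2,3,0,1,5,4], [15,0,15,53,53,0], [15,0,15,53,53,0]⟩,
    ⟨[0,2,1,2,4,0,3,1,5], [23,0,5,23,5,0], [23,0,5,23,5,0]⟩,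
    ⟨[0,2,1,2,4,0,5,1,3], [23,0,45,23,45,0], [23,0,45,23,45,0]⟩,
    ⟨[0,2,1,2,5,0,3,4,1], [39,0,5,5,39,0], [39,0,5,5,39,0]⟩,
    ⟨[0,2,1,2,5,0,4,3,1], [39,0,29,29,39,0], [39,0,29,29,39,0]⟩,
    ⟨[0,2,1,3,1,2,0,4,5], [9,9,0,9,9,0], [9,9,0,9,9,0]⟩,
    ⟨[0,2,1,3,1,2,0,5,4], [9,9,0,57,57,0], [9,9,0,57,57,0]⟩,
    ⟨[0,2,1,3,1,4,0,2,5], [9,29,0,29,9,0], [9,29,0,29,9,0]⟩,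
    ⟨[0,2,1,3,1,5,0,4,2], [9,45,0,9,45,0], [9,45,0,9,45,0]⟩,
    ⟨[0,2,1,3,2,1,0,4,5], [15,15,0,9,9,0], [15,15,0,9,9,0]⟩,
    ⟨[0,2,1,3,2,1,0,5,4], [15,15,0,57,57,0], [15,15,0,57,57,0]⟩,
    ⟨[0,2,1,3,4,2,0,1,5], [27,9,0,27,9,0], [27,9,0,27,9,0]⟩,
    ⟨[0,2,1,3,4,5,0,1,2], [27,45,0,27,45,0], [27,45,0,27,45,0]⟩,
    ⟨[0,2,1,3,5,2,0,4,1], [43,9,0,9,43,0], [43,9,0,9,43,0]⟩,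
    ⟨[0,2,1,3,5,4,0,2,1], [43,29,0,29,43,0], [43,29,0,29,43,0]⟩,
    ⟨[0,2,1,4,1,2,3,0,5], [17,17,17,0,17,0], [17,17,17,0,17,0]⟩,
    ⟨[0,2,1,4,1,2,5,0,3], [17,17,57,0,57,0], [17,17,57,0,57,0]⟩,
    ⟨[0,2,1,4,1,3,2,0,5], [17,29,29,0,17,0], [17,29,29,0,17,0]⟩,
    ⟨[0,2,1,4,1,5,3,0,2], [17,53,17,0,53,0], [17,53,17,0,53,0]⟩,
    ⟨[0,2,1,4,2,1,3,0,5], [23,23,17,0,17,0], [23,23,17,0,17,0]⟩,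
    ⟨[0,2,1,4,2,1,5,0,3], [23,23,57,0,57,0], [23,23,57,0,57,0]⟩,
    ⟨[0,2,1,4,3,2,1,0,5], [27,17,27,0,17,0], [27,17,27,0,17,0]⟩,
    ⟨[0,2,1,4,3,5,1,0,2], [27,53,27,0,53,0], [27,53,27,0,53,0]⟩,
    ⟨[0,2,1,4,5,2,3,0,1], [51,17,17,0,51,0], [51,17,17,0,51,0]⟩,
    ⟨[0,2,1,4,5,3,2,0,1], [51,29,29,0,51,0], [51,29,29,0,51,0]⟩,
    ⟨[0,2,1,5,1,2,3,4,0], [33,33,33,33,0,0], [33,33,33,33,0,0]⟩,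
    ⟨[0,2,1,5,1,2,4,3,0], [33,33,57,57,0,0], [33,33,57,57,0,0]⟩,
    ⟨[0,2,1,5,1,3,2,4,0], [33,45,45,33,0,0], [33,45,45,33,0,0]⟩,
    ⟨[0,2,1,5,1,4,3,2,0], [33,53,33,53,0,0], [33,53,33,53,0,0]⟩,
    ⟨[0,2,1,5,2,1,3,4,0], [39,39,33,33,0,0], [39,39,33,33,0,0]⟩,
    ⟨[0,2,1,5,2,1,4,3,0], [39,39,57,57,0,0], [39,39,57,57,0,0]⟩,
    ⟨[0,2,1,5,3,2,1,4,0], [43,33,43,33,0,0], [43,33,43,33,0,0]⟩,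
    ⟨[0,2,1,5,3,4,1,2,0], [43,53,43,53,0,0], [43,53,43,53,0,0]⟩,
    ⟨[0,2,1,5,4,2,3,1,0], [51,33,33,51,0,0], [51,33,33,51,0,0]⟩,
    ⟨[0,2,1,5,4,3,2,1,0], [51,45,45,51,0,0], [51,45,45,51,0,0]⟩]

/-- sum true: a = Equiv.swap 1 2, b = Equiv.swap 4 5, eps = False -/
def dP11n : Datum where
  kind := Kind.sum true
  a := Equiv.swap 1 2
  b := Equiv.swap 4 5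
  e := false
  bs := [1,2,4,8,48,64]
  cand := [
    ⟨[0,1,2,0,1,2,3,4,5], [0,0,0,0,0,0], [63,63,63,63,0,0]⟩,
    ⟨[0,1,2,0,1,2,3,5,4], [0,0,0,0,0,0], [63,63,63,63,0,0]⟩,
    ⟨[0,1,2,0,1,3,2,4,5], [0,0,12,12,0,0], [63,63,51,51,0,0]⟩,
    ⟨[0,1,2,0,1,3,2,5,4], [0,0,12,12,0,0], [63,63,51,51,0,0]⟩,
    ⟨[0,1,2,0,2,1,3,4,5], [0,6,6,0,0,0], [63,57,57,63,0,0]⟩,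
    ⟨[0,1,2,0,2,1,3,5,4], [0,6,6,0,0,0], [63,57,57,63,0,0]⟩,
    ⟨[0,1,2,0,3,2,1,4,5], [0,10,0,10,0,0], [63,53,63,53,0,0]⟩,
    ⟨[0,1,2,0,3,2,1,5,4], [0,10,0,10,0,0], [63,53,63,53,0,0]⟩,
    ⟨[0,1,2,1,0,2,3,4,5], [3,3,0,0,0,0], [60,60,63,63,0,0]⟩,
    ⟨[0,1,2,1,0,2,3,5,4], [3,3,0,0,0,0], [60,60,63,63,0,0]⟩,
    ⟨[0,1,2,1,0,3,2,4,5], [3,3,12,12,0,0], [60,60,51,51,0,0]⟩,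
    ⟨[0,1,2,1,0,3,2,5,4], [3,3,12,12,0,0], [60,60,51,51,0,0]⟩,
    ⟨[0,1,2,2,1,0,3,4,5], [5,0,5,0,0,0], [58,63,58,63,0,0]⟩,
    ⟨[0,1,2,2,1,0,3,5,4], [5,0,5,0,0,0], [58,63,58,63,0,0]⟩,
    ⟨[0,1,2,2,3,0,1,4,5], [5,10,5,10,0,0], [58,53,58,53,0,0]⟩,
    ⟨[0,1,2,2,3,0,1,5,4], [5,10,5,10,0,0], [58,53,58,53,0,0]⟩,
    ⟨[0,1,2,3,1,2,0,4,5], [9,0,0,9,0,0], [54,63,63,54,0,0]⟩,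
    ⟨[0,1,2,3,1,2,0,5,4], [9,0,0,9,0,0], [54,63,63,54,0,0]⟩,
    ⟨[0,1,2,3,2,1,0,4,5], [9,6,6,9,0,0], [54,57,57,54,0,0]⟩,
    ⟨[0,1,2,3,2,1,0,5,4], [9,6,6,9,0,0], [54,57,57,54,0,0]⟩,
    ⟨[0,2,1,0,1,2,3,4,5], [0,0,0,0,0,0], [63,63,63,63,0,0]⟩,
    ⟨[0,2,1,0,1,2,3,5,4], [0,0,0,0,0,0], [63,63,63,63,0,0]⟩,
    ⟨[0,2,1,0,1,3,2,4,5], [0,0,12,12,0,0], [63,63,51,51,0,0]⟩,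
    ⟨[0,2,1,0,1,3,2,5,4], [0,0,12,12,0,0], [63,63,51,51,0,0]⟩,
    ⟨[0,2,1,0,2,1,3,4,5], [0,6,6,0,0,0], [63,57,57,63,0,0]⟩,
    ⟨[0,2,1,0,2,1,3,5,4], [0,6,6,0,0,0], [63,57,57,63,0,0]⟩,
    ⟨[0,2,1,0,3,2,1,4,5], [0,10,0,10,0,0], [63,53,63,53,0,0]⟩,
    ⟨[0,2,1,0,3,2,1,5,4], [0,10,0,10,0,0], [63,53,63,53,0,0]⟩,
    ⟨[0,2,1,1,0,2,3,4,5], [3,3,0,0,0,0], [60,60,63,63,0,0]⟩,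
    ⟨[0,2,1,1,0,2,3,5,4], [3,3,0,0,0,0], [60,60,63,63,0,0]⟩,
    ⟨[0,2,1,1,0,3,2,4,5], [3,3,12,12,0,0], [60,60,51,51,0,0]⟩,
    ⟨[0,2,1,1,0,3,2,5,4], [3,3,12,12,0,0], [60,60,51,51,0,0]⟩,
    ⟨[0,2,1,2,1,0,3,4,5], [5,0,5,0,0,0], [58,63,58,63,0,0]⟩,
    ⟨[0,2,1,2,1,0,3,5,4], [5,0,5,0,0,0], [58,63,58,63,0,0]⟩,
    ⟨[0,2,1,2,3,0,1,4,5], [5,10,5,10,0,0], [58,53,58,53,0,0]⟩,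
    ⟨[0,2,1,2,3,0,1,5,4], [5,10,5,10,0,0], [58,53,58,53,0,0]⟩,
    ⟨[0,2,1,3,1,2,0,4,5], [9,0,0,9,0,0], [54,63,63,54,0,0]⟩,
    ⟨[0,2,1,3,1,2,0,5,4], [9,0,0,9,0,0], [54,63,63,54,0,0]⟩,
    ⟨[0,2,1,3,2,1,0,4,5], [9,6,6,9,0,0], [54,57,57,54,0,0]⟩,
    ⟨[0,2,1,3,2,1,0,5,4], [9,6,6,9,0,0], [54,57,57,54,0,0]⟩]

/-- sum true: a = Equiv.swap 1 2, b = Equiv.swap 4 5, eps = True -/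
def dP11e : Datum where
  kind := Kind.sum true
  a := Equiv.swap 1 2
  b := Equiv.swap 4 5
  e := true
  bs := [3,5,9,48,64]
  cand := [
    ⟨[0,1,2,0,1,2,3,4,5], [0,0,0,0,0], [0,0,0,0,0]⟩,
    ⟨[0,1,2,0,1,2,3,5,4], [0,0,0,0,0], [0,0,0,0,0]⟩,
    ⟨[0,1,2,0,1,3,2,4,5], [0,12,12,0,0], [0,12,12,0,0]⟩,
    ⟨[0,1,2,0,1,3,2,5,4], [0,12,12,0,0], [0,12,12,0,0]⟩,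
    ⟨[0,1,2,0,2,1,3,4,5], [6,6,0,0,0], [6,6,0,0,0]⟩,
    ⟨[0,1,2,0,2,1,3,5,4], [6,6,0,0,0], [6,6,0,0,0]⟩,
    ⟨[0,1,2,0,3,2,1,4,5], [10,0,10,0,0], [10,0,10,0,0]⟩,
    ⟨[0,1,2,0,3,2,1,5,4], [10,0,10,0,0], [10,0,10,0,0]⟩,
    ⟨[0,1,2,1,0,2,3,4,5], [0,3,3,0,0], [0,3,3,0,0]⟩,
    ⟨[0,1,2,1,0,2,3,5,4], [0,3,3,0,0], [0,3,3,0,0]⟩,
    ⟨[0,1,2,1,0,3,2,4,5], [0,15,15,0,0], [0,15,15,0,0]⟩,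
    ⟨[0,1,2,1,0,3,2,5,4], [0,15,15,0,0], [0,15,15,0,0]⟩,
    ⟨[0,1,2,2,1,0,3,4,5], [5,0,5,0,0], [5,0,5,0,0]⟩,
    ⟨[0,1,2,2,1,0,3,5,4], [5,0,5,0,0], [5,0,5,0,0]⟩,
    ⟨[0,1,2,2,3,0,1,4,5], [15,0,15,0,0], [15,0,15,0,0]⟩,
    ⟨[0,1,2,2,3,0,1,5,4], [15,0,15,0,0], [15,0,15,0,0]⟩,
    ⟨[0,1,2,3,1,2,0,4,5], [9,9,0,0,0], [9,9,0,0,0]⟩,
    ⟨[0,1,2,3,1,2,0,5,4], [9,9,0,0,0], [9,9,0,0,0]⟩,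
    ⟨[0,1,2,3,2,1,0,4,5], [15,15,0,0,0], [15,15,0,0,0]⟩,
    ⟨[0,1,2,3,2,1,0,5,4], [15,15,0,0,0], [15,15,0,0,0]⟩,
    ⟨[0,2,1,0,1,2,3,4,5], [0,0,0,0,0], [0,0,0,0,0]⟩,
    ⟨[0,2,1,0,1,2,3,5,4], [0,0,0,0,0], [0,0,0,0,0]⟩,
    ⟨[0,2,1,0,1,3,2,4,5], [0,12,12,0,0], [0,12,12,0,0]⟩,
    ⟨[0,2,1,0,1,3,2,5,4], [0,12,12,0,0], [0,12,12,0,0]⟩,
    ⟨[0,2,1,0,2,1,3,4,5], [6,6,0,0,0], [6,6,0,0,0]⟩,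
    ⟨[0,2,1,0,2,1,3,5,4], [6,6,0,0,0], [6,6,0,0,0]⟩,
    ⟨[0,2,1,0,3,2,1,4,5], [10,0,10,0,0], [10,0,10,0,0]⟩,
    ⟨[0,2,1,0,3,2,1,5,4], [10,0,10,0,0], [10,0,10,0,0]⟩,
    ⟨[0,2,1,1,0,2,3,4,5], [0,3,3,0,0], [0,3,3,0,0]⟩,
    ⟨[0,2,1,1,0,2,3,5,4], [0,3,3,0,0], [0,3,3,0,0]⟩,
    ⟨[0,2,1,1,0,3,2,4,5], [0,15,15,0,0], [0,15,15,0,0]⟩,
    ⟨[0,2,1,1,0,3,2,5,4], [0,15,15,0,0], [0,15,15,0,0]⟩,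
    ⟨[0,2,1,2,1,0,3,4,5], [5,0,5,0,0], [5,0,5,0,0]⟩,
    ⟨[0,2,1,2,1,0,3,5,4], [5,0,5,0,0], [5,0,5,0,0]⟩,
    ⟨[0,2,1,2,3,0,1,4,5], [15,0,15,0,0], [15,0,15,0,0]⟩,
    ⟨[0,2,1,2,3,0,1,5,4], [15,0,15,0,0], [15,0,15,0,0]⟩,
    ⟨[0,2,1,3,1,2,0,4,5], [9,9,0,0,0], [9,9,0,0,0]⟩,
    ⟨[0,2,1,3,1,2,0,5,4], [9,9,0,0,0], [9,9,0,0,0]⟩,
    ⟨[0,2,1,3,2,1,0,4,5], [15,15,0,0,0], [15,15,0,0,0]⟩,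
    ⟨[0,2,1,3,2,1,0,5,4], [15,15,0,0,0], [15,15,0,0,0]⟩]

/-- sum true: a = Equiv.swap 1 2, b = Equiv.swap 2 3 * Equiv.swap 4 5, eps = False -/
def dP12n : Datum where
  kind := Kind.sum true
  a := Equiv.swap 1 2
  b := Equiv.swap 2 3 * Equiv.swap 4 5
  e := false
  bs := [1,2,12,48,64]
  cand := [
    ⟨[0,1,2,0,1,2,3,4,5], [0,0,0,0,0], [63,63,0,0,0]⟩,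
    ⟨[0,1,2,0,1,2,3,5,4], [0,0,0,0,0], [63,63,0,0,0]⟩,
    ⟨[0,1,2,0,1,3,2,4,5], [0,0,0,0,0], [63,63,0,0,0]⟩,
    ⟨[0,1,2,0,1,3,2,5,4], [0,0,0,0,0], [63,63,0,0,0]⟩,
    ⟨[0,1,2,0,1,4,5,2,3], [0,0,60,60,0], [63,63,60,60,0]⟩,
    ⟨[0,1,2,0,1,5,4,3,2], [0,0,60,60,0], [63,63,60,60,0]⟩,
    ⟨[0,1,2,1,0,2,3,4,5], [3,3,0,0,0], [60,60,0,0,0]⟩,
    ⟨[0,1,2,1,0,2,3,5,4], [3,3,0,0,0], [60,60,0,0,0]⟩,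
    ⟨[0,1,2,1,0,3,2,4,5], [3,3,0,0,0], [60,60,0,0,0]⟩,
    ⟨[0,1,2,1,0,3,2,5,4], [3,3,0,0,0], [60,60,0,0,0]⟩,
    ⟨[0,1,2,1,0,4,5,2,3], [3,3,60,60,0], [60,60,60,60,0]⟩,
    ⟨[0,1,2,1,0,5,4,3,2], [3,3,60,60,0], [60,60,60,60,0]⟩,
    ⟨[0,2,1,0,1,2,3,4,5], [0,0,0,0,0], [63,63,0,0,0]⟩,
    ⟨[0,2,1,0,1,2,3,5,4], [0,0,0,0,0], [63,63,0,0,0]⟩,
    ⟨[0,2,1,0,1,3,2,4,5], [0,0,0,0,0], [63,63,0,0,0]⟩,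
    ⟨[0,2,1,0,1,3,2,5,4], [0,0,0,0,0], [63,63,0,0,0]⟩,
    ⟨[0,2,1,0,1,4,5,2,3], [0,0,60,60,0], [63,63,60,60,0]⟩,
    ⟨[0,2,1,0,1,5,4,3,2], [0,0,60,60,0], [63,63,60,60,0]⟩,
    ⟨[0,2,1,1,0,2,3,4,5], [3,3,0,0,0], [60,60,0,0,0]⟩,
    ⟨[0,2,1,1,0,2,3,5,4], [3,3,0,0,0], [60,60,0,0,0]⟩,
    ⟨[0,2,1,1,0,3,2,4,5], [3,3,0,0,0], [60,60,0,0,0]⟩,
    ⟨[0,2,1,1,0,3,2,5,4], [3,3,0,0,0], [60,60,0,0,0]⟩,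
    ⟨[0,2,1,1,0,4,5,2,3], [3,3,60,60,0], [60,60,60,60,0]⟩,
    ⟨[0,2,1,1,0,5,4,3,2], [3,3,60,60,0], [60,60,60,60,0]⟩]

/-- sum true: a = Equiv.swap 1 2, b = Equiv.swap 2 3 * Equiv.swap 4 5, eps = True -/
def dP12e : Datum where
  kind := Kind.sum true
  a := Equiv.swap 1 2
  b := Equiv.swap 2 3 * Equiv.swap 4 5
  e := true
  bs := [3,12,48,64]
  cand := [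
    ⟨[0,1,2,0,1,2,3,4,5], [0,0,0,0], [0,0,0,0]⟩,
    ⟨[0,1,2,0,1,2,3,5,4], [0,0,0,0], [0,0,0,0]⟩,
    ⟨[0,1,2,0,1,3,2,4,5], [0,0,0,0], [0,0,0,0]⟩,
    ⟨[0,1,2,0,1,3,2,5,4], [0,0,0,0], [0,0,0,0]⟩,
    ⟨[0,1,2,0,1,4,5,2,3], [0,60,60,0], [0,60,60,0]⟩,
    ⟨[0,1,2,0,1,5,4,3,2], [0,60,60,0], [0,60,60,0]⟩,
    ⟨[0,1,2,1,0,2,3,4,5], [0,0,0,0], [0,0,0,0]⟩,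
    ⟨[0,1,2,1,0,2,3,5,4], [0,0,0,0], [0,0,0,0]⟩,
    ⟨[0,1,2,1,0,3,2,4,5], [0,0,0,0], [0,0,0,0]⟩,
    ⟨[0,1,2,1,0,3,2,5,4], [0,0,0,0], [0,0,0,0]⟩,
    ⟨[0,1,2,1,0,4,5,2,3], [0,60,60,0], [0,60,60,0]⟩,
    ⟨[0,1,2,1,0,5,4,3,2], [0,60,60,0], [0,60,60,0]⟩,
    ⟨[0,2,1,0,1,2,3,4,5], [0,0,0,0], [0,0,0,0]⟩,
    ⟨[0,2,1,0,1,2,3,5,4], [0,0,0,0], [0,0,0,0]⟩,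
    ⟨[0,2,1,0,1,3,2,4,5], [0,0,0,0], [0,0,0,0]⟩,
    ⟨[0,2,1,0,1,3,2,5,4], [0,0,0,0], [0,0,0,0]⟩,
    ⟨[0,2,1,0,1,4,5,2,3], [0,60,60,0], [0,60,60,0]⟩,
    ⟨[0,2,1,0,1,5,4,3,2], [0,60,60,0], [0,60,60,0]⟩,
    ⟨[0,2,1,1,0,2,3,4,5], [0,0,0,0], [0,0,0,0]⟩,
    ⟨[0,2,1,1,0,2,3,5,4], [0,0,0,0], [0,0,0,0]⟩,
    ⟨[0,2,1,1,0,3,2,4,5], [0,0,0,0], [0,0,0,0]⟩,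
    ⟨[0,2,1,1,0,3,2,5,4], [0,0,0,0], [0,0,0,0]⟩,
    ⟨[0,2,1,1,0,4,5,2,3], [0,60,60,0], [0,60,60,0]⟩,
    ⟨[0,2,1,1,0,5,4,3,2], [0,60,60,0], [0,60,60,0]⟩]

/-- sum true: a = Equiv.swap 1 2, b = Equiv.swap 0 1 * Equiv.swap 2 3 * Equiv.swap 4 5, eps = False -/
def dP13n : Datum where
  kind := Kind.sum true
  a := Equiv.swap 1 2
  b := Equiv.swap 0 1 * Equiv.swap 2 3 * Equiv.swap 4 5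
  e := false
  bs := [3,12,48,64]
  cand := [
    ⟨[0,1,2,0,1,2,3,4,5], [0,0,0,0], [0,0,0,0]⟩,
    ⟨[0,1,2,0,1,2,3,5,4], [0,0,0,0], [0,0,0,0]⟩,
    ⟨[0,1,2,0,1,3,2,4,5], [0,0,0,0], [0,0,0,0]⟩,
    ⟨[0,1,2,0,1,3,2,5,4], [0,0,0,0], [0,0,0,0]⟩,
    ⟨[0,1,2,0,1,4,5,2,3], [0,60,60,0], [0,60,60,0]⟩,
    ⟨[0,1,2,0,1,5,4,3,2], [0,60,60,0], [0,60,60,0]⟩,
    ⟨[0,1,2,1,0,2,3,4,5], [0,0,0,0], [0,0,0,0]⟩,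
    ⟨[0,1,2,1,0,2,3,5,4], [0,0,0,0], [0,0,0,0]⟩,
    ⟨[0,1,2,1,0,3,2,4,5], [0,0,0,0], [0,0,0,0]⟩,
    ⟨[0,1,2,1,0,3,2,5,4], [0,0,0,0], [0,0,0,0]⟩,
    ⟨[0,1,2,1,0,4,5,2,3], [0,60,60,0], [0,60,60,0]⟩,
    ⟨[0,1,2,1,0,5,4,3,2], [0,60,60,0], [0,60,60,0]⟩,
    ⟨[0,1,2,2,3,0,1,4,5], [15,15,0,0], [15,15,0,0]⟩,
    ⟨[0,1,2,2,3,0,1,5,4], [15,15,0,0], [15,15,0,0]⟩,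
    ⟨[0,1,2,3,2,1,0,4,5], [15,15,0,0], [15,15,0,0]⟩,
    ⟨[0,1,2,3,2,1,0,5,4], [15,15,0,0], [15,15,0,0]⟩,
    ⟨[0,1,2,4,5,2,3,0,1], [51,0,51,0], [51,0,51,0]⟩,
    ⟨[0,1,2,4,5,3,2,0,1], [51,0,51,0], [51,0,51,0]⟩,
    ⟨[0,1,2,5,4,2,3,1,0], [51,0,51,0], [51,0,51,0]⟩,
    ⟨[0,1,2,5,4,3,2,1,0], [51,0,51,0], [51,0,51,0]⟩,
    ⟨[0,2,1,0,1,2,3,4,5], [0,0,0,0], [0,0,0,0]⟩,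
    ⟨[0,2,1,0,1,2,3,5,4], [0,0,0,0], [0,0,0,0]⟩,
    ⟨[0,2,1,0,1,3,2,4,5], [0,0,0,0], [0,0,0,0]⟩,
    ⟨[0,2,1,0,1,3,2,5,4], [0,0,0,0], [0,0,0,0]⟩,
    ⟨[0,2,1,0,1,4,5,2,3], [0,60,60,0], [0,60,60,0]⟩,
    ⟨[0,2,1,0,1,5,4,3,2], [0,60,60,0], [0,60,60,0]⟩,
    ⟨[0,2,1,1,0,2,3,4,5], [0,0,0,0], [0,0,0,0]⟩,
    ⟨[0,2,1,1,0,2,3,5,4], [0,0,0,0], [0,0,0,0]⟩,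
    ⟨[0,2,1,1,0,3,2,4,5], [0,0,0,0], [0,0,0,0]⟩,
    ⟨[0,2,1,1,0,3,2,5,4], [0,0,0,0], [0,0,0,0]⟩,
    ⟨[0,2,1,1,0,4,5,2,3], [0,60,60,0], [0,60,60,0]⟩,
    ⟨[0,2,1,1,0,5,4,3,2], [0,60,60,0], [0,60,60,0]⟩,
    ⟨[0,2,1,2,3,0,1,4,5], [15,15,0,0], [15,15,0,0]⟩,
    ⟨[0,2,1,2,3,0,1,5,4], [15,15,0,0], [15,15,0,0]⟩,
    ⟨[0,2,1,3,2,1,0,4,5], [15,15,0,0], [15,15,0,0]⟩,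
    ⟨[0,2,1,3,2,1,0,5,4], [15,15,0,0], [15,15,0,0]⟩,
    ⟨[0,2,1,4,5,2,3,0,1], [51,0,51,0], [51,0,51,0]⟩,
    ⟨[0,2,1,4,5,3,2,0,1], [51,0,51,0], [51,0,51,0]⟩,
    ⟨[0,2,1,5,4,2,3,1,0], [51,0,51,0], [51,0,51,0]⟩,
    ⟨[0,2,1,5,4,3,2,1,0], [51,0,51,0], [51,0,51,0]⟩]

/-- sum true: a = Equiv.swap 1 2, b = Equiv.swap 0 1 * Equiv.swap 2 3 * Equiv.swap 4 5, eps = True -/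
def dP13e : Datum where
  kind := Kind.sum true
  a := Equiv.swap 1 2
  b := Equiv.swap 0 1 * Equiv.swap 2 3 * Equiv.swap 4 5
  e := true
  bs := [3,12,21,37,64]
  cand := [
    ⟨[0,1,2,0,1,2,3,4,5], [0,0,0,0,0], [0,0,63,63,0]⟩,
    ⟨[0,1,2,0,1,2,3,5,4], [0,0,48,48,0], [0,0,15,15,0]⟩,
    ⟨[0,1,2,0,1,3,2,4,5], [0,0,12,12,0], [0,0,51,51,0]⟩,
    ⟨[0,1,2,0,1,3,2,5,4], [0,0,60,60,0], [0,0,3,3,0]⟩,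
    ⟨[0,1,2,0,1,4,5,2,3], [0,60,0,60,0], [0,60,63,3,0]⟩,
    ⟨[0,1,2,0,1,5,4,3,2], [0,60,60,0,0], [0,60,3,63,0]⟩,
    ⟨[0,1,2,1,0,2,3,4,5], [0,0,3,3,0], [0,0,60,60,0]⟩,
    ⟨[0,1,2,1,0,2,3,5,4], [0,0,51,51,0], [0,0,12,12,0]⟩,
    ⟨[0,1,2,1,0,3,2,4,5], [0,0,15,15,0], [0,0,48,48,0]⟩,
    ⟨[0,1,2,1,0,3,2,5,4], [0,0,63,63,0], [0,0,0,0,0]⟩,
    ⟨[0,1,2,1,0,4,5,2,3], [0,60,3,63,0], [0,60,60,0,0]⟩,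
    ⟨[0,1,2,1,0,5,4,3,2], [0,60,63,3,0], [0,60,0,60,0]⟩,
    ⟨[0,1,2,2,3,0,1,4,5], [15,15,0,0,0], [15,15,63,63,0]⟩,
    ⟨[0,1,2,2,3,0,1,5,4], [15,15,48,48,0], [15,15,15,15,0]⟩,
    ⟨[0,1,2,3,2,1,0,4,5], [15,15,15,15,0], [15,15,48,48,0]⟩,
    ⟨[0,1,2,3,2,1,0,5,4], [15,15,63,63,0], [15,15,0,0,0]⟩,
    ⟨[0,1,2,4,5,2,3,0,1], [51,0,0,51,0], [51,0,63,12,0]⟩,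
    ⟨[0,1,2,4,5,3,2,0,1], [51,0,12,63,0], [51,0,51,0,0]⟩,
    ⟨[0,1,2,5,4,2,3,1,0], [51,0,51,0,0], [51,0,12,63,0]⟩,
    ⟨[0,1,2,5,4,3,2,1,0], [51,0,63,12,0], [51,0,0,51,0]⟩,
    ⟨[0,2,1,0,1,2,3,4,5], [0,0,0,0,0], [0,0,63,63,0]⟩,
    ⟨[0,2,1,0,1,2,3,5,4], [0,0,48,48,0], [0,0,15,15,0]⟩,
    ⟨[0,2,1,0,1,3,2,4,5], [0,0,12,12,0], [0,0,51,51,0]⟩,
    ⟨[0,2,1,0,1,3,2,5,4], [0,0,60,60,0], [0,0,3,3,0]⟩,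
    ⟨[0,2,1,0,1,4,5,2,3], [0,60,0,60,0], [0,60,63,3,0]⟩,
    ⟨[0,2,1,0,1,5,4,3,2], [0,60,60,0,0], [0,60,3,63,0]⟩,
    ⟨[0,2,1,1,0,2,3,4,5], [0,0,3,3,0], [0,0,60,60,0]⟩,
    ⟨[0,2,1,1,0,2,3,5,4], [0,0,51,51,0], [0,0,12,12,0]⟩,
    ⟨[0,2,1,1,0,3,2,4,5], [0,0,15,15,0], [0,0,48,48,0]⟩,
    ⟨[0,2,1,1,0,3,2,5,4], [0,0,63,63,0], [0,0,0,0,0]⟩,
    ⟨[0,2,1,1,0,4,5,2,3], [0,60,3,63,0], [0,60,60,0,0]⟩,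
    ⟨[0,2,1,1,0,5,4,3,2], [0,60,63,3,0], [0,60,0,60,0]⟩,
    ⟨[0,2,1,2,3,0,1,4,5], [15,15,0,0,0], [15,15,63,63,0]⟩,
    ⟨[0,2,1,2,3,0,1,5,4], [15,15,48,48,0], [15,15,15,15,0]⟩,
    ⟨[0,2,1,3,2,1,0,4,5], [15,15,15,15,0], [15,15,48,48,0]⟩,
    ⟨[0,2,1,3,2,1,0,5,4], [15,15,63,63,0], [15,15,0,0,0]⟩,
    ⟨[0,2,1,4,5,2,3,0,1], [51,0,0,51,0], [51,0,63,12,0]⟩,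
    ⟨[0,2,1,4,5,3,2,0,1], [51,0,12,63,0], [51,0,51,0,0]⟩,
    ⟨[0,2,1,5,4,2,3,1,0], [51,0,51,0,0], [51,0,12,63,0]⟩,
    ⟨[0,2,1,5,4,3,2,1,0], [51,0,63,12,0], [51,0,0,51,0]⟩]

end Cfsg.Agent.ExtraTwoNine
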