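import Mathlib
import Cfsg.Agent.Lib.ExtraTwoNine.Data

/-!
The finite checks for the classes of involutions, certified by the kernel.
-/

set_option autoImplicit false

namespace Cfsg.Agent.ExtraTwoNine

theorem checkF01n : dF01n.check killP = true := by decide +kernel

theorem wfF01n : dF01n.wf = true := by decide +kernel

theorem completeF01n : dF01n.Complete := by decide +kernel

theorem checkF01e : dF01e.check killP = true := by decide +kernel

theorem wfF01e : dF01e.wf = true := by decide +kernel

theorem completeF01e : dF01e.Complete := by decide +kernel

theorem checkF02n : dF02n.check killP = true := by decide +kernel

theorem wfF02n : dF02n.wf = true := by decide +kernel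

theorem completeF02n : dF02n.Complete := by decide +kernel

theorem checkF02e : dF02e.check killP = true := by decide +kernel

theorem wfF02e : dF02e.wf = true := by decide +kernel

theorem completeF02e : dF02e.Complete := by decide +kernel

theorem checkF03n : dF03n.check killP = true := by decide +kernel

theorem wfF03n : dF03n.wf = true := by decide +kernel

theorem completeF03n : dF03n.Complete := by decide +kernel

theorem checkF03e : dF03e.check killP = true := by decide +kernel

theorem wfF03e : dF03e.wf = true := by decide +kernel

theorem completeF03e : dF03e.Complete := by decide +kernel

theorem checkF10n : dF10n.check killP = true := by decide +kernel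

theorem wfF10n : dF10n.wf = true := by decide +kernel

theorem completeF10n : dF10n.Complete := by decide +kernel

theorem checkF10e : dF10e.check killP = true := by decide +kernel

theorem wfF10e : dF10e.wf = true := by decide +kernel

theorem completeF10e : dF10e.Complete := by decide +kernel

theorem checkF11n : dF11n.check killP = true := by decide +kernel

theorem wfF11n : dF11n.wf = true := by decide +kernel

theorem completeF11n : dF11n.Complete := by decide +kernel

theorem checkF11e : dF11e.check killP = true := by decide +kernel

theorem wfF11e : dF11e.wf = true := by decide +kernel

theorem completeF11e : dF11e.Complete := by decide +kernel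

theorem checkF12n : dF12n.check killP = true := by decide +kernel

theorem wfF12n : dF12n.wf = true := by decide +kernel

theorem completeF12n : dF12n.Complete := by decide +kernel

theorem checkF12e : dF12e.check (specialP 16 [0,1,2,0,1,3,2,4,5]) = true := by decide +kernel

theorem wfF12e : dF12e.wf = true := by decide +kernel

theorem completeF12e : dF12e.Complete := by decide +kernel

theorem checkF13n : dF13n.check (specialP 16 [0,1,2,1,0,3,2,4,5]) = true := by decide +kernel

theorem wfF13n : dF13n.wf = true := by decide +kernel

theorem completeF13n : dF13n.Complete := by decide +kernel

theorem checkF13e : dF13e.check killP = true := by decide +kernel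

theorem wfF13e : dF13e.wf = true := by decide +kernel

theorem completeF13e : dF13e.Complete := by decide +kernel

end Cfsg.Agent.ExtraTwoNine
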