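import Mathlib
import Cfsg.Agent.Lib.ExtraTwoNine.Data

/-!
The finite checks for the classes of involutions, certified by the kernel.
-/

set_option autoImplicit false

namespace Cfsg.Agent.ExtraTwoNine

theorem checkP01n : dP01n.check killP = true := by decide +kernel

theorem wfP01n : dP01n.wf = true := by decide +kernel

theorem completeP01n : dP01n.Complete := by decide +kernel

theorem checkP01e : dP01e.check killP = true := by decide +kernel

theorem wfP01e : dP01e.wf = true := by decide +kernel

theorem completeP01e : dP01e.Complete := by decide +kernel

theorem checkP02n : dP02n.check killP = true := by decide +kernel

theorem wfP02n : dP02n.wf = true := by decide +kernel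

theorem completeP02n : dP02n.Complete := by decide +kernel

theorem checkP02e : dP02e.check killP = true := by decide +kernel

theorem wfP02e : dP02e.wf = true := by decide +kernel

theorem completeP02e : dP02e.Complete := by decide +kernel

theorem checkP03n : dP03n.check killP = true := by decide +kernel

theorem wfP03n : dP03n.wf = true := by decide +kernel

theorem completeP03n : dP03n.Complete := by decide +kernel

theorem checkP03e : dP03e.check killP = true := by decide +kernel

theorem wfP03e : dP03e.wf = true := by decide +kernel

theorem completeP03e : dP03e.Complete := by decide +kernel

theorem checkP10n : dP10n.check killP = true := by decide +kernel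

theorem wfP10n : dP10n.wf = true := by decide +kernel

theorem completeP10n : dP10n.Complete := by decide +kernel

theorem checkP10e : dP10e.check killP = true := by decide +kernel

theorem wfP10e : dP10e.wf = true := by decide +kernel

theorem completeP10e : dP10e.Complete := by decide +kernel

theorem checkP11n : dP11n.check killP = true := by decide +kernel

theorem wfP11n : dP11n.wf = true := by decide +kernel

theorem completeP11n : dP11n.Complete := by decide +kernel

theorem checkP11e : dP11e.check killP = true := by decide +kernel

theorem wfP11e : dP11e.wf = true := by decide +kernel

theorem completeP11e : dP11e.Complete := by decide +kernel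

theorem checkP12n : dP12n.check killP = true := by decide +kernel

theorem wfP12n : dP12n.wf = true := by decide +kernel

theorem completeP12n : dP12n.Complete := by decide +kernel

theorem checkP12e : dP12e.check (specialP 16 [0,1,2,0,1,3,2,4,5]) = true := by decide +kernel

theorem wfP12e : dP12e.wf = true := by decide +kernel

theorem completeP12e : dP12e.Complete := by decide +kernel

theorem checkP13n : dP13n.check (specialP 16 [0,1,2,1,0,3,2,4,5]) = true := by decide +kernel

theorem wfP13n : dP13n.wf = true := by decide +kernel

theorem completeP13n : dP13n.Complete := by decide +kernel

theorem checkP13e : dP13e.check killP = true := by decide +kernel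

theorem wfP13e : dP13e.wf = true := by decide +kernel

theorem completeP13e : dP13e.Complete := by decide +kernel

end Cfsg.Agent.ExtraTwoNine
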