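import Mathlib
import Cfsg.Agent.Lib.ExtraTwoNine.Data

/-!
The finite checks for the classes of involutions, certified by the kernel.
-/

set_option autoImplicit false

namespace Cfsg.Agent.ExtraTwoNine

theorem checkT01 : dT01.check killP = true := by decide +kernel

theorem wfT01 : dT01.wf = true := by decide +kernel

theorem completeT01 : dT01.Complete := by decide +kernel

theorem checkT02 : dT02.check (specialP 32 [0,1,2,0,1,3,2,4,5]) = true := by decide +kernel

theorem wfT02 : dT02.wf = true := by decide +kernel

theorem completeT02 : dT02.Complete := by decide +kernel

theorem checkT03 : dT03.check (specialP 32 [0,1,2,1,0,2,3,4,5]) = true := by decide +kernel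

theorem wfT03 : dT03.wf = true := by decide +kernel

theorem completeT03 : dT03.Complete := by decide +kernel

theorem checkT10 : dT10.check killP = true := by decide +kernel

theorem wfT10 : dT10.wf = true := by decide +kernel

theorem completeT10 : dT10.Complete := by decide +kernel

theorem checkT11 : dT11.check killP = true := by decide +kernel

theorem wfT11 : dT11.wf = true := by decide +kernel

theorem completeT11 : dT11.Complete := by decide +kernel

theorem checkT12 : dT12.check killP = true := by decide +kernel

theorem wfT12 : dT12.wf = true := by decide +kernel

theorem completeT12 : dT12.Complete := by decide +kernel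

theorem checkT13 : dT13.check killP = true := by decide +kernel

theorem wfT13 : dT13.wf = true := by decide +kernel

theorem completeT13 : dT13.Complete := by decide +kernel

end Cfsg.Agent.ExtraTwoNine
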