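import Mathlib
import Cfsg.Agent.Lib.ExtraTwoNine.CertsT
import Cfsg.Agent.Lib.ExtraTwoNine.CertsF
import Cfsg.Agent.Lib.ExtraTwoNine.CertsP

/-!
Assembly of the certificates: every involution is conjugate by an even element to a representative.
-/

set_option autoImplicit false
set_option maxRecDepth 10000

namespace Cfsg.Agent.ExtraTwoNine

open Equiv (Perm)

/-- Even conjugators for the first coordinate. -/
def evens3 : List (Perm (Fin 3)) := [1, Equiv.swap 0 1 * Equiv.swap 1 2, Equiv.swap 1 2 * Equiv.swap 0 1]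

set_option maxHeartbeats 4000000 in
/-- Even conjugators for the second coordinate. -/
def conj6 : List (Perm (Fin 6)) :=
  [1,
    Equiv.swap 3 4 * Equiv.swap 4 5,
    Equiv.swap 3 5 * Equiv.swap 4 5,
    Equiv.swap 1 2 * Equiv.swap 2 4 * Equiv.swap 3 4 * Equiv.swap 4 5,
    Equiv.swap 1 2 * Equiv.swap 2 4,
    Equiv.swap 1 2 * Equiv.swap 2 4 * Equiv.swap 3 5 * Equiv.swap 4 5,
    Equiv.swap 1 4 * Equiv.swap 2 4 * Equiv.swap 3 4 * Equiv.swap 4 5,
    Equiv.swap 1 4 * Equiv.swap 2 4,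
    Equiv.swap 1 4 * Equiv.swap 2 4 * Equiv.swap 3 5 * Equiv.swap 4 5,
    Equiv.swap 1 4 * Equiv.swap 2 5 * Equiv.swap 3 4 * Equiv.swap 4 5,
    Equiv.swap 0 4 * Equiv.swap 1 4 * Equiv.swap 2 4 * Equiv.swap 3 4,
    Equiv.swap 0 4 * Equiv.swap 1 4 * Equiv.swap 2 4 * Equiv.swap 4 5,
    Equiv.swap 0 4 * Equiv.swap 1 4 * Equiv.swap 2 3 * Equiv.swap 3 5,
    Equiv.swap 1 2 * Equiv.swap 2 5,
    Equiv.swap 1 2 * Equiv.swap 2 5 * Equiv.swap 3 4 * Equiv.swap 4 5,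
    Equiv.swap 0 4 * Equiv.swap 1 4 * Equiv.swap 2 5 * Equiv.swap 3 4,
    Equiv.swap 0 4 * Equiv.swap 1 5 * Equiv.swap 2 4 * Equiv.swap 3 5,
    Equiv.swap 1 2 * Equiv.swap 2 3 * Equiv.swap 3 4 * Equiv.swap 4 5,
    Equiv.swap 1 2 * Equiv.swap 2 3 * Equiv.swap 3 5 * Equiv.swap 4 5,
    Equiv.swap 1 2 * Equiv.swap 2 5 * Equiv.swap 3 5 * Equiv.swap 4 5,
    Equiv.swap 0 2 * Equiv.swap 1 2,
    Equiv.swap 0 2 * Equiv.swap 1 2 * Equiv.swap 2 3 * Equiv.swap 3 4,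
    Equiv.swap 0 2 * Equiv.swap 1 2 * Equiv.swap 2 3 * Equiv.swap 3 5,
    Equiv.swap 0 2 * Equiv.swap 1 2 * Equiv.swap 2 4 * Equiv.swap 3 4,
    Equiv.swap 0 2 * Equiv.swap 1 2 * Equiv.swap 2 4 * Equiv.swap 4 5,
    Equiv.swap 0 2 * Equiv.swap 1 2 * Equiv.swap 2 4 * Equiv.swap 3 5,
    Equiv.swap 0 2 * Equiv.swap 1 2 * Equiv.swap 2 5 * Equiv.swap 3 5,
    Equiv.swap 0 2 * Equiv.swap 1 2 * Equiv.swap 2 5 * Equiv.swap 3 4,
    Equiv.swap 0 2 * Equiv.swap 1 3 * Equiv.swap 3 4 * Equiv.swap 4 5,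
    Equiv.swap 0 2 * Equiv.swap 1 3 * Equiv.swap 3 5 * Equiv.swap 4 5,
    Equiv.swap 0 2 * Equiv.swap 1 3 * Equiv.swap 2 4 * Equiv.swap 3 4,
    Equiv.swap 0 2 * Equiv.swap 1 3 * Equiv.swap 2 4 * Equiv.swap 4 5,
    Equiv.swap 0 2 * Equiv.swap 1 3 * Equiv.swap 2 4 * Equiv.swap 3 5,
    Equiv.swap 0 2 * Equiv.swap 1 4 * Equiv.swap 3 4 * Equiv.swap 4 5,
    Equiv.swap 0 2 * Equiv.swap 1 4,
    Equiv.swap 0 2 * Equiv.swap 1 4 * Equiv.swap 3 5 * Equiv.swap 4 5,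
    Equiv.swap 0 2 * Equiv.swap 1 4 * Equiv.swap 2 4 * Equiv.swap 3 4,
    Equiv.swap 0 2 * Equiv.swap 1 4 * Equiv.swap 2 4 * Equiv.swap 4 5,
    Equiv.swap 0 2 * Equiv.swap 1 4 * Equiv.swap 2 4 * Equiv.swap 3 5,
    Equiv.swap 0 2 * Equiv.swap 1 4 * Equiv.swap 2 3 * Equiv.swap 4 5,
    Equiv.swap 0 2 * Equiv.swap 1 4 * Equiv.swap 2 3 * Equiv.swap 3 4,
    Equiv.swap 0 2 * Equiv.swap 1 4 * Equiv.swap 2 3 * Equiv.swap 3 5,
    Equiv.swap 0 2 * Equiv.swap 1 4 * Equiv.swap 2 5 * Equiv.swap 3 5,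
    Equiv.swap 0 2 * Equiv.swap 1 4 * Equiv.swap 2 5 * Equiv.swap 3 4,
    Equiv.swap 0 2 * Equiv.swap 1 4 * Equiv.swap 2 5 * Equiv.swap 4 5]

/-- The representatives in the first coordinate. -/
def reps3 : List (Perm (Fin 3)) := [1, Equiv.swap 1 2]

/-- The representatives in the second coordinate. -/
def reps6 : List (Perm (Fin 6)) :=
  [1, Equiv.swap 4 5, Equiv.swap 2 3 * Equiv.swap 4 5, Equiv.swap 0 1 * Equiv.swap 2 3 * Equiv.swap 4 5]

theorem cover3 : ∀ a : Perm (Fin 3), a * a = 1 →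
    ∃ g ∈ evens3, g * a * g⁻¹ ∈ reps3 ∧ Equiv.Perm.sign g = 1 := by decide +kernel

theorem cover6 : ∀ b : Perm (Fin 6), b * b = 1 →
    ∃ g ∈ conj6, g * b * g⁻¹ ∈ reps6 := by decide +kernel

theorem even6 : ∀ g ∈ conj6, Equiv.Perm.sign g = 1 := by decide +kernel

/-- The data for a kind. -/
def data : Kind → List Datum
  | Kind.tensor => [dT01, dT02, dT03, dT10, dT11, dT12, dT13]
  | Kind.sum false => [dF01n, dF01e, dF02n, dF02e, dF03n, dF03e, dF10n, dF10e, dF11n, dF11e, dF12n, dF12e, dF13n, dF13e]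
  | Kind.sum true => [dP01n, dP01e, dP02n, dP02e, dP03n, dP03e, dP10n, dP10e, dP11n, dP11e, dP12n, dP12e, dP13n, dP13e]

/-- Is the class one of the two survivors of the count? -/
def isSpec : Kind → Perm (Fin 3) → Perm (Fin 6) → Bool → Bool
  | Kind.tensor, a, b, _ => decide (a = 1) &&
      (decide (b = Equiv.swap 2 3 * Equiv.swap 4 5) || decide (b = Equiv.swap 0 1 * Equiv.swap 2 3 * Equiv.swap 4 5))
  | Kind.sum _, a, b, e => decide (a = Equiv.swap 1 2) &&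
      ((e && decide (b = Equiv.swap 2 3 * Equiv.swap 4 5)) ||
        (!e && decide (b = Equiv.swap 0 1 * Equiv.swap 2 3 * Equiv.swap 4 5)))

/-- The bound for the survivors. -/
def target : Kind → ℕ
  | Kind.tensor => 32
  | Kind.sum _ => 16

/-- The element that occurs when the bound is met. -/
def witA : Perm (Fin 3) := 1

/-- The element that occurs when the bound is met. -/
def witB : Kind → Perm (Fin 6) → Perm (Fin 6)
  | Kind.tensor, b => if b = Equiv.swap 2 3 * Equiv.swap 4 5 then Equiv.swap 2 3 else Equiv.swap 0 1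
  | Kind.sum _, b =>
    if b = Equiv.swap 2 3 * Equiv.swap 4 5 then Equiv.swap 2 3 else Equiv.swap 0 1 * Equiv.swap 2 3

theorem cover (k : Kind) : ∀ a ∈ reps3, ∀ b ∈ reps6, ∀ e : Bool, ¬ (a = 1 ∧ b = 1) →
    ∃ d ∈ data k, d.kind = k ∧ d.a = a ∧ d.b = b ∧ img k a b e = d.L ∧
      ((k = Kind.tensor ∧ isSpec k a b e = isSpec k d.a d.b d.e) ∨ d.e = e) := by
  cases k with
  | tensor => decide +kernel
  | sum s => cases s <;> decide +kernel

/-- What is known of a datum. -/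
structure DatumOK (d : Datum) : Prop where
  wf : d.wf = true
  complete : d.Complete
  check : (isSpec d.kind d.a d.b d.e = false ∧ d.check killP = true) ∨
    (isSpec d.kind d.a d.b d.e = true ∧
      d.check (specialP (target d.kind) (key witA (witB d.kind d.b))) = true ∧ d.ks.all d.inW = true)
  dim : (d.bs.length = 4 ∨ d.bs.length = 5 ∨ d.bs.length = 6 ∨ d.bs.length = 7)

theorem okT01 : DatumOK dT01 :=
  ⟨wfT01, completeT01, Or.inl ⟨by decide +kernel, checkT01⟩, by decide +kernel⟩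

theorem okT02 : DatumOK dT02 :=
  ⟨wfT02, completeT02, Or.inr ⟨by decide +kernel, (congrArg (fun p => dT02.check (specialP 32 p)) (show key witA (witB dT02.kind dT02.b) = [0,1,2,0,1,3,2,4,5] by decide +kernel)).trans checkT02, by decide +kernel⟩, by decide +kernel⟩

theorem okT03 : DatumOK dT03 :=
  ⟨wfT03, completeT03, Or.inr ⟨by decide +kernel, (congrArg (fun p => dT03.check (specialP 32 p)) (show key witA (witB dT03.kind dT03.b) = [0,1,2,1,0,2,3,4,5] by decide +kernel)).trans checkT03, by decide +kernel⟩, by decide +kernel⟩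

theorem okT10 : DatumOK dT10 :=
  ⟨wfT10, completeT10, Or.inl ⟨by decide +kernel, checkT10⟩, by decide +kernel⟩

theorem okT11 : DatumOK dT11 :=
  ⟨wfT11, completeT11, Or.inl ⟨by decide +kernel, checkT11⟩, by decide +kernel⟩

theorem okT12 : DatumOK dT12 :=
  ⟨wfT12, completeT12, Or.inl ⟨by decide +kernel, checkT12⟩, by decide +kernel⟩

theorem okT13 : DatumOK dT13 :=
  ⟨wfT13, completeT13, Or.inl ⟨by decide +kernel, checkT13⟩, by decide +kernel⟩

theorem okF01n : DatumOK dF01n :=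
  ⟨wfF01n, completeF01n, Or.inl ⟨by decide +kernel, checkF01n⟩, by decide +kernel⟩

theorem okF01e : DatumOK dF01e :=
  ⟨wfF01e, completeF01e, Or.inl ⟨by decide +kernel, checkF01e⟩, by decide +kernel⟩

theorem okF02n : DatumOK dF02n :=
  ⟨wfF02n, completeF02n, Or.inl ⟨by decide +kernel, checkF02n⟩, by decide +kernel⟩

theorem okF02e : DatumOK dF02e :=
  ⟨wfF02e, completeF02e, Or.inl ⟨by decide +kernel, checkF02e⟩, by decide +kernel⟩

theorem okF03n : DatumOK dF03n :=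
  ⟨wfF03n, completeF03n, Or.inl ⟨by decide +kernel, checkF03n⟩, by decide +kernel⟩

theorem okF03e : DatumOK dF03e :=
  ⟨wfF03e, completeF03e, Or.inl ⟨by decide +kernel, checkF03e⟩, by decide +kernel⟩

theorem okF10n : DatumOK dF10n :=
  ⟨wfF10n, completeF10n, Or.inl ⟨by decide +kernel, checkF10n⟩, by decide +kernel⟩

theorem okF10e : DatumOK dF10e :=
  ⟨wfF10e, completeF10e, Or.inl ⟨by decide +kernel, checkF10e⟩, by decide +kernel⟩

theorem okF11n : DatumOK dF11n :=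
  ⟨wfF11n, completeF11n, Or.inl ⟨by decide +kernel, checkF11n⟩, by decide +kernel⟩

theorem okF11e : DatumOK dF11e :=
  ⟨wfF11e, completeF11e, Or.inl ⟨by decide +kernel, checkF11e⟩, by decide +kernel⟩

theorem okF12n : DatumOK dF12n :=
  ⟨wfF12n, completeF12n, Or.inl ⟨by decide +kernel, checkF12n⟩, by decide +kernel⟩

theorem okF12e : DatumOK dF12e :=
  ⟨wfF12e, completeF12e, Or.inr ⟨by decide +kernel, (congrArg (fun p => dF12e.check (specialP 16 p)) (show key witA (witB dF12e.kind dF12e.b) = [0,1,2,0,1,3,2,4,5] by decide +kernel)).trans checkF12e, by decide +kernel⟩, by decide +kernel⟩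

theorem okF13n : DatumOK dF13n :=
  ⟨wfF13n, completeF13n, Or.inr ⟨by decide +kernel, (congrArg (fun p => dF13n.check (specialP 16 p)) (show key witA (witB dF13n.kind dF13n.b) = [0,1,2,1,0,3,2,4,5] by decide +kernel)).trans checkF13n, by decide +kernel⟩, by decide +kernel⟩

theorem okF13e : DatumOK dF13e :=
  ⟨wfF13e, completeF13e, Or.inl ⟨by decide +kernel, checkF13e⟩, by decide +kernel⟩

theorem okP01n : DatumOK dP01n :=
  ⟨wfP01n, completeP01n, Or.inl ⟨by decide +kernel, checkP01n⟩, by decide +kernel⟩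

theorem okP01e : DatumOK dP01e :=
  ⟨wfP01e, completeP01e, Or.inl ⟨by decide +kernel, checkP01e⟩, by decide +kernel⟩

theorem okP02n : DatumOK dP02n :=
  ⟨wfP02n, completeP02n, Or.inl ⟨by decide +kernel, checkP02n⟩, by decide +kernel⟩

theorem okP02e : DatumOK dP02e :=
  ⟨wfP02e, completeP02e, Or.inl ⟨by decide +kernel, checkP02e⟩, by decide +kernel⟩

theorem okP03n : DatumOK dP03n :=
  ⟨wfP03n, completeP03n, Or.inl ⟨by decide +kernel, checkP03n⟩, by decide +kernel⟩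

theorem okP03e : DatumOK dP03e :=
  ⟨wfP03e, completeP03e, Or.inl ⟨by decide +kernel, checkP03e⟩, by decide +kernel⟩

theorem okP10n : DatumOK dP10n :=
  ⟨wfP10n, completeP10n, Or.inl ⟨by decide +kernel, checkP10n⟩, by decide +kernel⟩

theorem okP10e : DatumOK dP10e :=
  ⟨wfP10e, completeP10e, Or.inl ⟨by decide +kernel, checkP10e⟩, by decide +kernel⟩

theorem okP11n : DatumOK dP11n :=
  ⟨wfP11n, completeP11n, Or.inl ⟨by decide +kernel, checkP11n⟩, by decide +kernel⟩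

theorem okP11e : DatumOK dP11e :=
  ⟨wfP11e, completeP11e, Or.inl ⟨by decide +kernel, checkP11e⟩, by decide +kernel⟩

theorem okP12n : DatumOK dP12n :=
  ⟨wfP12n, completeP12n, Or.inl ⟨by decide +kernel, checkP12n⟩, by decide +kernel⟩

theorem okP12e : DatumOK dP12e :=
  ⟨wfP12e, completeP12e, Or.inr ⟨by decide +kernel, (congrArg (fun p => dP12e.check (specialP 16 p)) (show key witA (witB dP12e.kind dP12e.b) = [0,1,2,0,1,3,2,4,5] by decide +kernel)).trans checkP12e, by decide +kernel⟩, by decide +kernel⟩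

theorem okP13n : DatumOK dP13n :=
  ⟨wfP13n, completeP13n, Or.inr ⟨by decide +kernel, (congrArg (fun p => dP13n.check (specialP 16 p)) (show key witA (witB dP13n.kind dP13n.b) = [0,1,2,1,0,3,2,4,5] by decide +kernel)).trans checkP13n, by decide +kernel⟩, by decide +kernel⟩

theorem okP13e : DatumOK dP13e :=
  ⟨wfP13e, completeP13e, Or.inl ⟨by decide +kernel, checkP13e⟩, by decide +kernel⟩

theorem data_ok : ∀ k, ∀ d ∈ data k, DatumOK d := by
  intro k
  cases k with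
  | tensor =>
    simp only [data, List.forall_mem_cons]
    exact ⟨okT01, okT02, okT03, okT10, okT11, okT12, okT13, by simp⟩
  | sum s =>
    cases s <;> simp only [data, List.forall_mem_cons]
    · exact ⟨okF01n, okF01e, okF02n, okF02e, okF03n, okF03e, okF10n, okF10e, okF11n, okF11e, okF12n, okF12e, okF13n, okF13e, by simp⟩
    · exact ⟨okP01n, okP01e, okP02n, okP02e, okP03n, okP03e, okP10n, okP10e, okP11n, okP11e, okP12n, okP12e, okP13n, okP13e, by simp⟩

/-- Involutions conjugate to a survivor. -/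
def Allow (k : Kind) (p : Perm (Fin 3) × Perm (Fin 6)) : Prop :=
  match k with
  | Kind.tensor => p.1 = 1 ∧ ∃ g : Perm (Fin 6), g * p.2 * g⁻¹ = Equiv.swap 2 3 * Equiv.swap 4 5 ∨
      g * p.2 * g⁻¹ = Equiv.swap 0 1 * Equiv.swap 2 3 * Equiv.swap 4 5
  | Kind.sum _ => p.1 ≠ 1 ∧ ∃ g : Perm (Fin 6), g * p.2 * g⁻¹ = Equiv.swap 2 3 * Equiv.swap 4 5 ∨
      g * p.2 * g⁻¹ = Equiv.swap 0 1 * Equiv.swap 2 3 * Equiv.swap 4 5

theorem no_dt : ∀ g : Perm (Fin 6),
    g * Equiv.swap 2 3 * g⁻¹ ≠ Equiv.swap 2 3 * Equiv.swap 4 5 ∧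
    g * Equiv.swap 2 3 * g⁻¹ ≠ Equiv.swap 0 1 * Equiv.swap 2 3 * Equiv.swap 4 5 ∧
    g * Equiv.swap 4 5 * g⁻¹ ≠ Equiv.swap 2 3 * Equiv.swap 4 5 ∧
    g * Equiv.swap 4 5 * g⁻¹ ≠ Equiv.swap 0 1 * Equiv.swap 2 3 * Equiv.swap 4 5 := by decide +kernel

theorem no_ttt : ∀ g : Perm (Fin 6),
    g * Equiv.swap 0 1 * g⁻¹ ≠ Equiv.swap 0 1 * Equiv.swap 2 3 * Equiv.swap 4 5 ∧
    g * (Equiv.swap 2 3 * Equiv.swap 4 5) * g⁻¹ ≠ Equiv.swap 0 1 * Equiv.swap 2 3 * Equiv.swap 4 5 := by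
  decide +kernel

end Cfsg.Agent.ExtraTwoNine
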