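import Cfsg.Agent.Lib.ExtraTwoNine.CoordTensorBasis
import Cfsg.Agent.Lib.Transfer.Special

/-!
Coordinates on `Q/⟨z⟩` for `Q = 2^{1+8}` and `M/Q` inside `S₃ × S₆`.
-/

set_option autoImplicit false
set_option linter.unusedSectionVars false

namespace Cfsg.Agent.ExtraTwoNine

open Cfsg.Agent.LargeExtra.SixTwo CoordPerm

namespace Hyp

variable {G : Type*} [Group G] [Finite G] {z : G} (h : Hyp z)

theorem conj_mem (m : ↥(Subgroup.centralizer ({z} : Set G))) {x : G} (hx : x ∈ h.Q) :
    (m : G) * x * (m : G)⁻¹ ∈ h.Q := by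
  have e := (h.ker_iff ⟨x, h.le_cent hx⟩).2 hx
  exact (h.ker_iff (m * ⟨x, h.le_cent hx⟩ * m⁻¹)).1
    (by rw [map_mul, map_mul, e, mul_one, map_inv, mul_inv_cancel])

theorem commutes (m : ↥(Subgroup.centralizer ({z} : Set G))) : (m : G) * z = z * m :=
  (Subgroup.mem_centralizer_iff.1 m.2 z rfl).symm

theorem z_mem : z ∈ h.Q :=
  h.self_cent z (Subgroup.mem_centralizer_iff.2 fun g hg => by rw [Set.mem_singleton_iff.1 hg])
    fun x hx => (Subgroup.mem_centralizer_iff.1 (h.le_cent hx) z rfl)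

include h in
theorem z_ne : z ≠ 1 := fun e => by
  have := h.ord
  rw [e, orderOf_one] at this
  omega

include h in
theorem z_sq : z * z = 1 := by
  rw [← pow_two, ← h.ord, pow_orderOf_eq_one]

/-- The central involution in the subgroup. -/
def zQ : ↥h.Q := ⟨z, h.z_mem⟩

theorem zQ_central : h.zQ ∈ Subgroup.center ↥h.Q :=
  Subgroup.mem_center_iff.2 fun x =>
    Subtype.ext (Subgroup.mem_centralizer_iff.1 (h.le_cent x.2) z rfl).symm

theorem center_cases {c : ↥h.Q} (hc : c ∈ Subgroup.center ↥h.Q) : c = 1 ∨ c = h.zQ := by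
  by_cases h1 : c = 1
  · exact Or.inl h1
  obtain ⟨y, -, huniq⟩ := (Nat.card_eq_two_iff' (1 : Subgroup.center ↥h.Q)).1 h.ext.2
  have e1 := huniq ⟨c, hc⟩ (fun e => h1 (congrArg Subtype.val e))
  have e2 := huniq ⟨h.zQ, h.zQ_central⟩ (fun e =>
    h.z_ne (congrArg Subtype.val (congrArg Subtype.val e) :))
  exact Or.inr (congrArg Subtype.val (e1.trans e2.symm))

theorem comm_cases (x y : ↥h.Q) : x * y = y * x ∨ x * y = h.zQ * (y * x) := by
  have hc : x * y * x⁻¹ * y⁻¹ ∈ Subgroup.center ↥h.Q :=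
    h.ext.1.2.2 ▸ Subgroup.commutator_mem_commutator (Subgroup.mem_top x) (Subgroup.mem_top y)
  rcases h.center_cases hc with e | e
  · left
    calc x * y = x * y * x⁻¹ * y⁻¹ * (y * x) := by group
      _ = _ := by rw [e, one_mul]
  · right
    calc x * y = x * y * x⁻¹ * y⁻¹ * (y * x) := by group
      _ = _ := by rw [e]

theorem center_sq {c : ↥h.Q} (hc : c ∈ Subgroup.center ↥h.Q) : c * c = 1 := by
  rcases h.center_cases hc with rfl | rfl
  · exact one_mul 1
  · exact Subtype.ext h.z_sq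

theorem zQ_mul_zQ : h.zQ * h.zQ = 1 := h.center_sq h.zQ_central

theorem zQ_comm (x : ↥h.Q) : x * h.zQ = h.zQ * x := Subgroup.mem_center_iff.1 h.zQ_central x

theorem sq_central (x : ↥h.Q) : x * x ∈ Subgroup.center ↥h.Q := by
  refine Subgroup.mem_center_iff.2 fun y => ?_
  rcases h.comm_cases y x with e | e
  · rw [← mul_assoc, e, mul_assoc, e, mul_assoc]
  · rw [← mul_assoc, e, mul_assoc, mul_assoc, e, ← mul_assoc x h.zQ, h.zQ_comm, mul_assoc h.zQ x,
      ← mul_assoc h.zQ h.zQ, h.zQ_mul_zQ, one_mul, ← mul_assoc]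

/-- The quotient by the centre. -/
abbrev Vq := Additive (↥h.Q ⧸ Subgroup.center ↥h.Q)

/-- The class of an element. -/
def cls (x : ↥h.Q) : h.Vq := Additive.ofMul (QuotientGroup.mk x)

theorem cls_mul (x y : ↥h.Q) : h.cls (x * y) = h.cls x + h.cls y := rfl

theorem cls_surj (v : h.Vq) : ∃ x, h.cls x = v := QuotientGroup.mk_surjective v.toMul

theorem cls_eq_iff (x y : ↥h.Q) : h.cls x = h.cls y ↔ x⁻¹ * y ∈ Subgroup.center ↥h.Q :=
  Additive.ofMul.injective.eq_iff.trans QuotientGroup.eq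

theorem cls_eq_zero (x : ↥h.Q) : h.cls x = 0 ↔ x ∈ Subgroup.center ↥h.Q := by
  rw [show (0 : h.Vq) = h.cls 1 from rfl, cls_eq_iff, mul_one, inv_mem_iff]

noncomputable instance instAddCommGroupVq : AddCommGroup h.Vq :=
  { (inferInstance : AddGroup h.Vq) with
    add_comm := fun a b => by
      obtain ⟨x, rfl⟩ := h.cls_surj a
      obtain ⟨y, rfl⟩ := h.cls_surj b
      rw [← cls_mul, ← cls_mul, cls_eq_iff]
      rcases h.comm_cases y x with e | e <;> rw [e]
      · rw [inv_mul_cancel]; exact one_mem _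
      · rw [← mul_assoc, h.zQ_comm, inv_mul_cancel_right]
        exact h.zQ_central }

theorem out_cases (x : ↥h.Q) : ∃ c ∈ Subgroup.center ↥h.Q, Quotient.out (h.cls x).toMul = x * c := by
  refine ⟨x⁻¹ * Quotient.out (h.cls x).toMul, ?_, (mul_inv_cancel_left _ _).symm⟩
  exact QuotientGroup.eq.1 (QuotientGroup.out_eq' (h.cls x).toMul).symm

/-- The quadratic map. -/
noncomputable def qq (v : h.Vq) : ZMod 2 :=
  open Classical in
  if Quotient.out v.toMul * Quotient.out v.toMul = h.zQ then 1 else 0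

/-- Its polarisation. -/
noncomputable def bb (v w : h.Vq) : ZMod 2 :=
  open Classical in
  if Quotient.out v.toMul * Quotient.out w.toMul = Quotient.out w.toMul * Quotient.out v.toMul then 0 else 1

theorem qq_cls (x : ↥h.Q) [Decidable (x * x = h.zQ)] : h.qq (h.cls x) = if x * x = h.zQ then 1 else 0 := by
  obtain ⟨c, hc, e⟩ := h.out_cases x
  have hsq : x * c * (x * c) = x * x := by
    rw [mul_assoc, ← mul_assoc c, ← Subgroup.mem_center_iff.1 hc x, mul_assoc x c, h.center_sq hc, mul_one]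
  rw [qq, e, hsq]
  congr

theorem bb_cls (x y : ↥h.Q) [Decidable (x * y = y * x)] :
    h.bb (h.cls x) (h.cls y) = if x * y = y * x then 0 else 1 := by
  obtain ⟨c, hc, ec⟩ := h.out_cases x
  obtain ⟨d, hd, ed⟩ := h.out_cases y
  have hc' := Subgroup.mem_center_iff.1 hc
  have hd' := Subgroup.mem_center_iff.1 hd
  have key : x * c * (y * d) = y * d * (x * c) ↔ x * y = y * x := by
    rw [show x * c * (y * d) = x * y * (c * d) by rw [mul_assoc, ← mul_assoc c y, ← hc' y, mul_assoc y, mul_assoc],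
      show y * d * (x * c) = y * x * (c * d) by
        rw [mul_assoc, ← mul_assoc d x, ← hd' x, mul_assoc x, hc' d, mul_assoc],
      mul_left_inj]
  rw [bb, ec, ed]
  by_cases hxy : x * y = y * x
  · rw [if_pos hxy, if_pos (key.2 hxy)]
  · rw [if_neg hxy, if_neg (fun e => hxy (key.1 e))]

theorem sq_cases (x : ↥h.Q) : x * x = 1 ∨ x * x = h.zQ := h.center_cases (h.sq_central x)

theorem zQ_ne : h.zQ ≠ 1 := fun e => h.z_ne (congrArg Subtype.val e)

/-- The quadratic form of the quotient. -/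
noncomputable def form : QF h.Vq where
  q := h.qq
  b := h.bb
  polar v w := by
    classical
    obtain ⟨x, rfl⟩ := h.cls_surj v
    obtain ⟨y, rfl⟩ := h.cls_surj w
    rw [← cls_mul, qq_cls, qq_cls, qq_cls, bb_cls]
    have e : x * y * (x * y) = if x * y = y * x then x * x * (y * y) else h.zQ * (x * x * (y * y)) := by
      rw [mul_assoc x y]
      split
      · rename_i hxy
        rw [← mul_assoc y x, ← hxy, mul_assoc x y, ← mul_assoc x x]
      · rename_i hxy
        rcases h.comm_cases y x with e | e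
        · exact absurd e.symm hxy
        · rw [← mul_assoc y x, e, mul_assoc h.zQ, ← mul_assoc x h.zQ, h.zQ_comm, mul_assoc x y, mul_assoc,
            ← mul_assoc x x]
    rw [e]
    have hne := h.zQ_ne
    rcases h.sq_cases x with ex | ex <;> rcases h.sq_cases y with ey | ey <;> rw [ex, ey] <;>
      by_cases hxy : x * y = y * x <;>
      simp [hxy, h.zQ_mul_zQ, hne, hne.symm] <;> decide
  add_left u v w := by
    classical
    obtain ⟨x, rfl⟩ := h.cls_surj u
    obtain ⟨y, rfl⟩ := h.cls_surj v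
    obtain ⟨t, rfl⟩ := h.cls_surj w
    rw [← cls_mul, bb_cls, bb_cls, bb_cls]
    have hn : ∀ a b : ↥h.Q, a * b = h.zQ * (b * a) → ¬a * b = b * a := fun a b e e' =>
      h.zQ_ne (mul_eq_right.1 (e.symm.trans e'))
    rcases h.comm_cases x t with e1 | e1 <;> rcases h.comm_cases y t with e2 | e2
    · have e3 : x * y * t = t * (x * y) := by rw [mul_assoc, e2, ← mul_assoc, e1, mul_assoc]
      rw [if_pos e1, if_pos e2, if_pos e3, add_zero]
    · have e3 : x * y * t = h.zQ * (t * (x * y)) := by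
        rw [mul_assoc, e2, ← mul_assoc, h.zQ_comm, mul_assoc h.zQ, ← mul_assoc x, e1, mul_assoc t]
      rw [if_pos e1, if_neg (hn _ _ e2), if_neg (hn _ _ e3), zero_add]
    · have e3 : x * y * t = h.zQ * (t * (x * y)) := by
        rw [mul_assoc, e2, ← mul_assoc, e1, mul_assoc h.zQ, mul_assoc t]
      rw [if_neg (hn _ _ e1), if_pos e2, if_neg (hn _ _ e3), add_zero]
    · have e3 : x * y * t = t * (x * y) := by
        rw [mul_assoc, e2, ← mul_assoc, h.zQ_comm, mul_assoc h.zQ, ← mul_assoc x, e1, mul_assoc h.zQ,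
          ← mul_assoc h.zQ, h.zQ_mul_zQ, one_mul, mul_assoc t]
      rw [if_neg (hn _ _ e1), if_neg (hn _ _ e2), if_pos e3]
      decide
  add_right u v w := by
    classical
    obtain ⟨x, rfl⟩ := h.cls_surj u
    obtain ⟨y, rfl⟩ := h.cls_surj v
    obtain ⟨t, rfl⟩ := h.cls_surj w
    rw [← cls_mul, bb_cls, bb_cls, bb_cls]
    have hn : ∀ a b : ↥h.Q, a * b = h.zQ * (b * a) → ¬a * b = b * a := fun a b e e' =>
      h.zQ_ne (mul_eq_right.1 (e.symm.trans e'))
    rcases h.comm_cases x y with e1 | e1 <;> rcases h.comm_cases x t with e2 | e2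
    · have e3 : x * (y * t) = y * t * x := by rw [← mul_assoc, e1, mul_assoc, e2, mul_assoc]
      rw [if_pos e1, if_pos e2, if_pos e3, add_zero]
    · have e3 : x * (y * t) = h.zQ * (y * t * x) := by
        rw [← mul_assoc, e1, mul_assoc, e2, ← mul_assoc, h.zQ_comm, mul_assoc h.zQ, mul_assoc y]
      rw [if_pos e1, if_neg (hn _ _ e2), if_neg (hn _ _ e3), zero_add]
    · have e3 : x * (y * t) = h.zQ * (y * t * x) := by
        rw [← mul_assoc, e1, mul_assoc h.zQ, mul_assoc y, e2, mul_assoc y]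
      rw [if_neg (hn _ _ e1), if_pos e2, if_neg (hn _ _ e3), add_zero]
    · have e3 : x * (y * t) = y * t * x := by
        rw [← mul_assoc, e1, mul_assoc h.zQ, mul_assoc y x, e2, ← mul_assoc y h.zQ, h.zQ_comm, mul_assoc h.zQ,
          ← mul_assoc h.zQ, h.zQ_mul_zQ, one_mul, mul_assoc y]
      rw [if_neg (hn _ _ e1), if_neg (hn _ _ e2), if_pos e3]
      decide
  two v := by
    obtain ⟨x, rfl⟩ := h.cls_surj v
    rw [← cls_mul, cls_eq_zero]
    exact h.sq_central x
  nondeg v hv := by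
    classical
    obtain ⟨x, rfl⟩ := h.cls_surj v
    rw [ne_eq, cls_eq_zero, Subgroup.mem_center_iff] at hv
    push Not at hv
    obtain ⟨y, hy⟩ := hv
    exact ⟨h.cls y, by rw [bb_cls, if_neg fun e => hy e.symm]⟩

/-- Conjugation on the subgroup. -/
def conjQ (m : ↥(Subgroup.centralizer ({z} : Set G))) : ↥h.Q ≃* ↥h.Q where
  toFun x := ⟨(m : G) * x * (m : G)⁻¹, h.conj_mem m x.2⟩
  invFun x := ⟨(m⁻¹ : ↥(Subgroup.centralizer ({z} : Set G))) * x *
    ((m⁻¹ : ↥(Subgroup.centralizer ({z} : Set G))) : G)⁻¹, h.conj_mem _ x.2⟩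
  left_inv x := Subtype.ext (by simp [mul_assoc])
  right_inv x := Subtype.ext (by simp [mul_assoc])
  map_mul' x y := Subtype.ext (by simp [mul_assoc])

theorem conjQ_apply (m : ↥(Subgroup.centralizer ({z} : Set G))) (x : ↥h.Q) :
    ((h.conjQ m x : ↥h.Q) : G) = (m : G) * x * (m : G)⁻¹ := rfl

theorem conjQ_center (m : ↥(Subgroup.centralizer ({z} : Set G))) {c : ↥h.Q}
    (hc : c ∈ Subgroup.center ↥h.Q) : h.conjQ m c = c := by
  rcases h.center_cases hc with rfl | rfl
  · exact map_one _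
  · refine Subtype.ext ?_
    rw [conjQ_apply]
    show (m : G) * z * (m : G)⁻¹ = z
    rw [commutes m, mul_inv_cancel_right]

/-- The action on the quotient. -/
def act (m : ↥(Subgroup.centralizer ({z} : Set G))) : h.Vq →+ h.Vq :=
  MonoidHom.toAdditive (QuotientGroup.map _ _ (h.conjQ m).toMonoidHom fun c hc => by
    show h.conjQ m c ∈ Subgroup.center ↥h.Q
    rw [h.conjQ_center m hc]
    exact hc)

theorem act_cls (m : ↥(Subgroup.centralizer ({z} : Set G))) (x : ↥h.Q) :
    h.act m (h.cls x) = h.cls (h.conjQ m x) := rfl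

noncomputable instance instActVq : DistribMulAction ↥(Subgroup.centralizer ({z} : Set G)) h.Vq where
  smul m v := h.act m v
  one_smul v := by
    obtain ⟨x, rfl⟩ := h.cls_surj v
    show h.act 1 _ = _
    rw [act_cls]
    exact congrArg h.cls (Subtype.ext (by rw [conjQ_apply]; simp))
  mul_smul m n v := by
    obtain ⟨x, rfl⟩ := h.cls_surj v
    show h.act (m * n) _ = h.act m (h.act n _)
    rw [act_cls, act_cls, act_cls]
    exact congrArg h.cls (Subtype.ext (by simp only [conjQ_apply]; simp [mul_assoc]))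
  smul_zero m := map_zero (h.act m)
  smul_add m := map_add (h.act m)

theorem smul_cls (m : ↥(Subgroup.centralizer ({z} : Set G))) (x : ↥h.Q) :
    m • h.cls x = h.cls (h.conjQ m x) := rfl

theorem card_Vq : Nat.card h.Vq = 256 := by
  have e := Subgroup.card_eq_card_quotient_mul_card_subgroup (Subgroup.center ↥h.Q)
  rw [h.card, h.ext.2] at e
  show Nat.card (↥h.Q ⧸ Subgroup.center ↥h.Q) = 256
  omega

/-- The module. -/
noncomputable def setup : Setup ↥(Subgroup.centralizer ({z} : Set G)) h.Vq where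
  F := h.form
  card := h.card_Vq
  ψ := h.ψ
  ker m hm v := by
    obtain ⟨x, rfl⟩ := h.cls_surj v
    rw [smul_cls, cls_eq_iff]
    have hmQ := (h.ker_iff m).1 hm
    have e : h.conjQ m x = ⟨m, hmQ⟩ * x * (⟨m, hmQ⟩ : ↥h.Q)⁻¹ := Subtype.ext rfl
    rw [e]
    rcases h.comm_cases ⟨m, hmQ⟩ x with c | c <;> rw [c]
    · rw [mul_inv_cancel_right, inv_mul_cancel]; exact one_mem _
    · rw [mul_assoc h.zQ, mul_inv_cancel_right, ← h.zQ_comm, mul_inv_rev, inv_mul_cancel_right]
      exact inv_mem h.zQ_central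
  faithful m hm := by
    haveI : Fact (Nat.Prime 2) := ⟨Nat.prime_two⟩
    obtain ⟨g, hg⟩ := Cfsg.Agent.Transfer.Special.exists_inner_of_trivial_mod_center h.ext (h.conjQ m)
      fun x => by
        have e := hm (h.cls x)
        rw [smul_cls, eq_comm, cls_eq_iff] at e
        have : h.conjQ m x * x⁻¹ = x * (x⁻¹ * h.conjQ m x) * x⁻¹ := by group
        rw [this, Subgroup.mem_center_iff.1 e x, mul_inv_cancel_right]
        exact e
    refine (h.ker_iff m).2 ?_
    have hmem : (g : G)⁻¹ * m ∈ h.Q := by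
      refine h.self_cent _ (mul_mem (inv_mem (h.le_cent g.2)) m.2) fun x hx => ?_
      have e := congrArg Subtype.val (hg ⟨x, hx⟩)
      rw [conjQ_apply] at e
      calc (g : G)⁻¹ * m * x = (g : G)⁻¹ * ((m : G) * x * (m : G)⁻¹) * m := by group
        _ = (g : G)⁻¹ * ((g : G) * x * (g : G)⁻¹) * m := by
            rw [show (m : G) * x * (m : G)⁻¹ = (g : G) * x * (g : G)⁻¹ from e]
        _ = _ := by group
    have := mul_mem g.2 hmem
    rwa [mul_inv_cancel_left] at this
  big := h.big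
  outer := h.outer
  iso m v := by
    classical
    obtain ⟨x, rfl⟩ := h.cls_surj v
    show h.qq (m • h.cls x) = h.qq (h.cls x)
    rw [smul_cls, qq_cls, qq_cls]
    refine if_congr ?_ rfl rfl
    rw [← map_mul]
    conv_lhs => rhs; rw [← h.conjQ_center m h.zQ_central]
    exact (h.conjQ m).injective.eq_iff

end Hyp

theorem img_lt : ∀ (k : Kind) (a : P3) (b : P6) (e : Bool), ∀ x ∈ img k a b e, x < 256 := by
  intro k a b e x hx
  cases k with
  | tensor =>
    obtain ⟨i, hi, rfl⟩ := List.getElem_of_mem hx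
    rw [← List.getD_eq_getElem _ 0 hi]
    have e' := Ten.img_getD a b e ⟨i, by rwa [img_length] at hi⟩
    simp only at e'
    rw [e']
    exact TenTables.tens_lt ⟨_, by omega⟩ ⟨_, TenTables.coord_lt _ _⟩
  | sum k =>
    simp only [img, List.mem_append, List.mem_ofFn, List.mem_cons, List.not_mem_nil, or_false] at hx
    rcases hx with ⟨i, rfl⟩ | rfl | rfl
    · refine Nat.xor_lt_two_pow (n := 8)
        (Nat.pow_lt_pow_right (by norm_num : 1 < 2) (show ((b i : Fin 6) : ℕ) < 8 by omega)) ?_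
      split <;> norm_num
    · exact (by decide +kernel : ∀ a : P3, ((img2 a).1 <<< 6) < 256) a
    · exact (by decide +kernel : ∀ a : P3, ((img2 a).2 <<< 6) < 256) a

open Classical in
/-- Coordinates exist. -/
theorem exists_coord {G : Type*} [Group G] [Finite G] {z : G} (h : Hyp z) : Nonempty (Coord z) := by
  let S := h.setup
  obtain ⟨θ, hθ, ⟨B⟩⟩ : ∃ (θ : P6 ≃* P6) (hθ : ∀ b, Equiv.Perm.sign (θ b) = Equiv.Perm.sign b),
      Nonempty (Basis8 (S.twist θ hθ)) := by
    rcases S.split_cases with e | ⟨e1, e2, e3⟩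
    · exact S.exists_tensor e
    · exact S.exists_sum e1 e2 e3
  let S' := S.twist θ hθ
  let code8 : h.Vq → ℕ := fun v => (B.surj v).choose
  have hcode : ∀ v, code8 v < 256 ∧ vecOf B.basis (code8 v) = v := fun v => (B.surj v).choose_spec
  have huniq : ∀ v n, n < 256 → vecOf B.basis n = v → code8 v = n := fun v n hn e =>
    B.injective _ (hcode v).1 _ hn ((hcode v).2.trans e.symm)
  let π : G → ℕ := fun g => if hg : g ∈ h.Q then code8 (h.cls ⟨g, hg⟩) else 0
  have hπ : ∀ g (hg : g ∈ h.Q), π g = code8 (h.cls ⟨g, hg⟩) := fun g hg => dif_pos hg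
  have hψ : ∀ m, S'.ψ m = ((h.ψ m).1, θ (h.ψ m).2) := fun m => rfl
  refine ⟨{ ord := h.ord, Q := h.Q, le_cent := h.le_cent, ext := h.ext, card := h.card,
            self_cent := h.self_cent, ψ := S'.ψ, ker_iff := ?_, big := S'.big, outer := S'.outer,
            kind := B.kind, eps := B.eps, π := π, π_lt := ?_, π_mul := ?_, π_zero := ?_, π_surj := ?_,
            π_sq := ?_, π_conj := ?_ }⟩
  · intro m
    refine Iff.trans ?_ (h.ker_iff m)
    rw [hψ, Prod.ext_iff, Prod.ext_iff]
    simp only [Prod.fst_one, Prod.snd_one, map_eq_one_iff θ θ.injective]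
  · intro x hx
    rw [hπ x hx]
    exact (hcode _).1
  · intro x hx y hy
    rw [hπ x hx, hπ y hy, hπ _ (mul_mem hx hy)]
    refine huniq _ _ (Nat.xor_lt_two_pow (n := 8) (hcode _).1 (hcode _).1) ?_
    rw [vecOf_xor h.form.two, (hcode _).2, (hcode _).2]
    exact (h.cls_mul ⟨x, hx⟩ ⟨y, hy⟩).symm
  · intro x hx
    rw [hπ x hx]
    constructor
    · intro e
      have e' := (hcode (h.cls ⟨x, hx⟩)).2
      rw [e, show vecOf B.basis 0 = 0 by simp [vecOf], eq_comm, Hyp.cls_eq_zero] at e'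
      rcases h.center_cases e' with c | c
      · exact Or.inl (congrArg Subtype.val c)
      · exact Or.inr (congrArg Subtype.val c)
    · intro e
      refine huniq _ 0 (by norm_num) ?_
      rw [show vecOf B.basis 0 = 0 by simp [vecOf], eq_comm, Hyp.cls_eq_zero]
      rcases e with rfl | rfl
      · exact one_mem _
      · exact h.zQ_central
  · intro n hn
    obtain ⟨x, hx⟩ := h.cls_surj (vecOf B.basis n)
    exact ⟨x, x.2, by rw [hπ x x.2]; exact huniq _ n hn hx.symm⟩
  · intro x hx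
    rw [hπ x hx]
    have e := B.q_eq _ (hcode (h.cls ⟨x, hx⟩)).1
    rw [(hcode _).2] at e
    change h.qq _ = _ at e
    rw [h.qq_cls] at e
    constructor
    · intro hz
      rw [if_pos (show (⟨x, hx⟩ : ↥h.Q) * ⟨x, hx⟩ = h.zQ from Subtype.ext hz)] at e
      by_contra hq
      rw [if_neg hq] at e
      exact one_ne_zero e
    · intro hq
      rw [if_pos hq] at e
      by_contra hz
      rw [if_neg (fun e' => hz (congrArg Subtype.val e'))] at e
      exact zero_ne_one e
  · intro m x hx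
    rw [hπ x hx, hπ _ (h.conj_mem m hx)]
    refine huniq _ _ (ap_lt _ _ (img_lt _ _ _ _)) ?_
    rw [← B.equivariant m, (hcode _).2]
    exact h.smul_cls m ⟨x, hx⟩

end Cfsg.Agent.ExtraTwoNine
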