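import Cfsg.Agent.Lib.ExtraTwoNine.CoordPerm
import Cfsg.Agent.Lib.LargeExtra.SixTwo.Split

/-!
A group acting on an orthogonal space of dimension eight over the field with two elements through
`S₃ × S₆`, the alternating groups included.
-/

set_option autoImplicit false
set_option linter.unusedSectionVars false

namespace Cfsg.Agent.ExtraTwoNine

open Cfsg.Agent.LargeExtra.SixTwo CoordPerm

abbrev P3 := Equiv.Perm (Fin 3)

/-- The cycle of the three points. -/
def cyc : P3 := finRotate 3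

theorem P3_facts : Equiv.Perm.sign cyc = 1 ∧ cyc * cyc * cyc = 1 ∧
    (∀ a : P3, Equiv.Perm.sign a = 1 → a = 1 ∨ a = cyc ∨ a = cyc * cyc) ∧
    (∀ a : P3, Equiv.Perm.sign a = 1 → a * cyc * a⁻¹ = cyc) ∧
    ∀ a : P3, Equiv.Perm.sign a = -1 → a * cyc * a⁻¹ = cyc * cyc := by
  decide +kernel

universe u v

/-- The hypotheses on the module. -/
structure Setup (M : Type u) (V : Type v) [Group M] [AddCommGroup V] [DistribMulAction M V] where
  /-- The quadratic form. -/
  F : QF V
  card : Nat.card V = 256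
  /-- The homomorphism. -/
  ψ : M →* P3 × P6
  ker : ∀ m, ψ m = 1 → ∀ x : V, m • x = x
  faithful : ∀ m, (∀ x : V, m • x = x) → ψ m = 1
  big : ∀ a b, Equiv.Perm.sign a = 1 → Equiv.Perm.sign b = 1 → ∃ m, ψ m = (a, b)
  outer : ∃ m, Equiv.Perm.sign (ψ m).1 = -1
  iso : ∀ (m : M) x, F.q (m • x) = F.q x

namespace Setup

variable {M : Type u} {V : Type v} [Group M] [AddCommGroup V] [DistribMulAction M V]
variable (h : Setup M V)

/-- The same module with an automorphism of the symmetric group of degree six applied. -/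
noncomputable def twist (θ : P6 ≃* P6) (hθ : ∀ b, Equiv.Perm.sign (θ b) = Equiv.Perm.sign b) : Setup M V :=
  { h with
    ψ := (MonoidHom.prodMap (MonoidHom.id P3) θ.toMonoidHom).comp h.ψ
    ker := fun m hm => h.ker m (by
      have h1 := congrArg Prod.fst hm
      have h2 := congrArg Prod.snd hm
      exact Prod.ext h1 (θ.injective (h2.trans (map_one θ).symm)))
    faithful := fun m hm => by
      show ((h.ψ m).1, θ (h.ψ m).2) = 1
      rw [h.faithful m hm]; exact Prod.ext rfl (map_one θ)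
    big := fun a b ha hb => by
      obtain ⟨m, hm⟩ := h.big a (θ.symm b) ha (by rw [← hθ, θ.apply_symm_apply]; exact hb)
      refine ⟨m, ?_⟩
      show ((h.ψ m).1, θ (h.ψ m).2) = (a, b)
      rw [hm, θ.apply_symm_apply]
    outer := h.outer }

theorem twist_ψ (θ : P6 ≃* P6) (hθ) (m : M) :
    (h.twist θ hθ).ψ m = ((h.ψ m).1, θ (h.ψ m).2) := rfl

theorem congr_ψ {m n : M} (e : h.ψ m = h.ψ n) (x : V) : m • x = n • x := by
  have := h.ker (n⁻¹ * m) (by rw [map_mul, map_inv, e, inv_mul_cancel]) x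
  rwa [mul_smul, inv_smul_eq_iff] at this

open Classical in
/-- An element lying over a permutation of six points. -/
noncomputable def lift (g : P6) : M := if hg : ∃ m, h.ψ m = (1, g) then hg.choose else 1

theorem lift_ψ {g : P6} (hg : Equiv.Perm.sign g = 1) : h.ψ (h.lift g) = (1, g) := by
  have he : ∃ m, h.ψ m = (1, g) := h.big 1 g (by simp) hg
  rw [lift, dif_pos he]
  exact he.choose_spec

theorem lift_one (x : V) : h.lift 1 • x = x := h.ker _ (h.lift_ψ (map_one _)) x

theorem lift_mul {g g' : P6} (hg : Equiv.Perm.sign g = 1) (hg' : Equiv.Perm.sign g' = 1) (x : V) :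
    h.lift (g * g') • x = h.lift g • h.lift g' • x := by
  rw [← mul_smul]
  refine h.congr_ψ ?_ x
  rw [map_mul, h.lift_ψ hg, h.lift_ψ hg', h.lift_ψ (by rw [map_mul, hg, hg', one_mul]), Prod.mk_mul_mk,
    one_mul]

theorem lift_conj (m : M) {g : P6} (hg : Equiv.Perm.sign g = 1) (x : V) :
    m • h.lift g • x = h.lift ((h.ψ m).2 * g * ((h.ψ m).2)⁻¹) • m • x := by
  have hs : Equiv.Perm.sign ((h.ψ m).2 * g * ((h.ψ m).2)⁻¹) = 1 := by
    simp [map_mul, map_inv, hg]
  rw [← mul_smul, ← mul_smul]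
  refine h.congr_ψ ?_ x
  rw [map_mul, map_mul, h.lift_ψ hg, h.lift_ψ hs]
  refine Prod.ext ?_ ?_
  · simp
  · simp [mul_assoc]

/-- An element over the cycle. -/
noncomputable def d : M := (h.big cyc 1 P3_facts.1 (map_one _)).choose

theorem d_ψ : h.ψ h.d = (cyc, 1) := (h.big cyc 1 P3_facts.1 (map_one _)).choose_spec

/-- Its action. -/
noncomputable def D : V →+ V := DistribSMul.toAddMonoidHom V h.d

theorem D_apply (x : V) : h.D x = h.d • x := rfl

theorem D_cube (x : V) : h.D (h.D (h.D x)) = x := by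
  simp only [D_apply, ← mul_smul]
  refine h.ker _ ?_ x
  rw [map_mul, map_mul, h.d_ψ, Prod.mk_mul_mk, Prod.mk_mul_mk, ← mul_assoc, P3_facts.2.1, one_mul, one_mul]
  rfl

theorem D_iso (x : V) : h.F.q (h.D x) = h.F.q x := h.iso _ x

theorem D_moves : ∃ x, h.D x ≠ x := by
  by_contra hc
  push Not at hc
  have := congrArg Prod.fst (h.faithful h.d hc)
  rw [h.d_ψ] at this
  exact absurd this (by decide +kernel : cyc ≠ 1)

theorem D_lift {g : P6} (hg : Equiv.Perm.sign g = 1) (x : V) : h.lift g • h.D x = h.D (h.lift g • x) := by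
  simp only [D_apply, ← mul_smul]
  refine h.congr_ψ ?_ x
  rw [map_mul, map_mul, h.lift_ψ hg, h.d_ψ, Prod.mk_mul_mk, Prod.mk_mul_mk, one_mul, mul_one, mul_one,
    one_mul]

theorem D_conj_even (m : M) (hm : Equiv.Perm.sign (h.ψ m).1 = 1) (x : V) : m • h.D x = h.D (m • x) := by
  simp only [D_apply, ← mul_smul]
  refine h.congr_ψ ?_ x
  rw [map_mul, map_mul, h.d_ψ]
  refine Prod.ext ?_ (by simp)
  show (h.ψ m).1 * cyc = cyc * (h.ψ m).1
  exact mul_inv_eq_iff_eq_mul.1 (P3_facts.2.2.2.1 _ hm)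

theorem D_conj_odd (m : M) (hm : Equiv.Perm.sign (h.ψ m).1 = -1) (x : V) :
    m • h.D x = h.D (h.D (m • x)) := by
  simp only [D_apply, ← mul_smul]
  refine h.congr_ψ ?_ x
  rw [map_mul, map_mul, map_mul, h.d_ψ]
  refine Prod.ext ?_ (by simp)
  show (h.ψ m).1 * cyc = cyc * cyc * (h.ψ m).1
  exact mul_inv_eq_iff_eq_mul.1 (P3_facts.2.2.2.2 _ hm)

theorem lift_iso (g : P6) (x : V) : h.F.q (h.lift g • x) = h.F.q x := h.iso _ x

/-- The alternating group acts. -/
noncomputable abbrev altAct : DistribMulAction ↥(alternatingGroup (Fin 6)) V where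
  smul a x := h.lift (a : P6) • x
  one_smul x := h.lift_one x
  mul_smul a b x := h.lift_mul (Equiv.Perm.mem_alternatingGroup.1 a.2) (Equiv.Perm.mem_alternatingGroup.1 b.2) x
  smul_zero a := smul_zero (h.lift (a : P6))
  smul_add a x y := smul_add (h.lift (a : P6)) x y

theorem altAct_faithful : letI := h.altAct; FaithfulSMul ↥(alternatingGroup (Fin 6)) V := by
  letI := h.altAct
  refine ⟨fun {a b} e => ?_⟩
  have hab : ∀ x : V, h.lift ((b : P6)⁻¹ * a) • x = x := fun x => by
    have e' : ((b⁻¹ * a : ↥(alternatingGroup (Fin 6))) • x : V) = x := by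
      rw [mul_smul, e x, inv_smul_smul]
    exact e'
  have := congrArg Prod.snd (h.faithful _ hab)
  rw [h.lift_ψ (by rw [map_mul, map_inv, Equiv.Perm.mem_alternatingGroup.1 a.2,
    Equiv.Perm.mem_alternatingGroup.1 b.2, inv_one, one_mul])] at this
  exact Subtype.ext (inv_mul_eq_one.1 this).symm

theorem card_alt : Nat.card ↥(alternatingGroup (Fin 6)) = 360 := by
  rw [nat_card_alternatingGroup, Nat.card_fin]
  decide +kernel

theorem simple_alt : IsSimpleGroup ↥(alternatingGroup (Fin 6)) :=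
  alternatingGroup.isSimpleGroup (by simp)

variable [Finite V]

theorem split_cases : (∀ x : V, h.D x = x → x = 0) ∨
    (Nat.card (fixD h.D) = 64 ∧ Nat.card (movD h.D) = 4 ∧
      ∀ g : P6, Equiv.Perm.sign g = 1 → ∀ x ∈ movD h.D, h.lift g • x = x) := by
  letI := h.altAct
  haveI := h.altAct_faithful
  haveI := simple_alt
  rcases split (A := ↥(alternatingGroup (Fin 6))) h.F h.card card_alt (fun a x => h.lift_iso _ x) h.D
    h.D_cube h.D_iso h.D_moves (fun a x => h.D_lift (Equiv.Perm.mem_alternatingGroup.1 a.2) x) with e | ⟨e1, e2, e3⟩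
  · exact Or.inl e
  · exact Or.inr ⟨e1, e2, fun g hg x hx => e3 ⟨g, Equiv.Perm.mem_alternatingGroup.2 hg⟩ x hx⟩

/-- The stabiliser of a vector. -/
def stab (x : V) : Subgroup P6 where
  carrier := {g | Equiv.Perm.sign g = 1 ∧ h.lift g • x = x}
  one_mem' := ⟨map_one _, h.lift_one x⟩
  mul_mem' {a b} ha hb := ⟨by rw [map_mul, ha.1, hb.1, one_mul], by rw [h.lift_mul ha.1 hb.1, hb.2, ha.2]⟩
  inv_mem' {a} ha := by
    have hs : Equiv.Perm.sign a⁻¹ = 1 := by rw [map_inv, ha.1, inv_one]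
    refine ⟨hs, ?_⟩
    conv_lhs => rw [← ha.2]
    rw [← h.lift_mul hs ha.1, inv_mul_cancel, h.lift_one]

theorem mem_stab {x : V} {g : P6} : g ∈ h.stab x ↔ Equiv.Perm.sign g = 1 ∧ h.lift g • x = x := Iff.rfl

/-- The stabiliser is not inside a short list if the vector has few companions. -/
theorem exists_stab_notMem (P : V → Prop) (hP : ∀ g, Equiv.Perm.sign g = 1 → ∀ x, P x → P (h.lift g • x))
    (x : V) (hx : P x) (l : List ℕ) (hl : Nat.card {y // P y} * l.length < 360) :
    ∃ g ∈ h.stab x, code g ∉ l := by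
  classical
  by_contra hc
  push Not at hc
  letI := h.altAct
  let A := ↥(alternatingGroup (Fin 6))
  have h1 : Nat.card (MulAction.orbit A x) ≤ Nat.card {y // P y} :=
    Nat.card_le_card_of_injective
      (fun y => ⟨y.1, by obtain ⟨a, ha⟩ := y.2; exact ha ▸ hP _ (Equiv.Perm.mem_alternatingGroup.1 a.2) x hx⟩)
      fun y y' e => Subtype.ext (congrArg (fun z : {z // P z} => z.1) e)
  have hmem : ∀ a : MulAction.stabilizer A x, code (a.1 : P6) ∈ l.toFinset := fun a =>
    List.mem_toFinset.2 (hc _ ⟨Equiv.Perm.mem_alternatingGroup.1 a.1.2, a.2⟩)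
  have h2 : Nat.card (MulAction.stabilizer A x) ≤ l.length := by
    refine le_trans (Nat.card_le_card_of_injective (fun a => (⟨_, hmem a⟩ : l.toFinset)) fun a b e =>
      Subtype.ext (Subtype.ext (code_injective (congrArg (fun z : l.toFinset => z.1) e)))) ?_
    rw [Nat.card_eq_fintype_card, Fintype.card_coe]
    exact List.toFinset_card_le l
  have h3 := (MulAction.stabilizer A x).card_mul_index
  rw [MulAction.index_stabilizer, ← Nat.card_coe_set_eq, card_alt] at h3
  have := Nat.mul_le_mul h1 h2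
  rw [mul_comm] at h3
  omega

end Setup

/-- The vector of a code. -/
def vecOf {V : Type v} [AddCommGroup V] (basis : Fin 8 → V) (n : ℕ) : V :=
  ∑ i : Fin 8, if n.testBit i then basis i else 0

theorem vecOf_xor {V : Type v} [AddCommGroup V] (two : ∀ x : V, x + x = 0) (basis : Fin 8 → V) (a b : ℕ) :
    vecOf basis (a ^^^ b) = vecOf basis a + vecOf basis b := by
  rw [vecOf, vecOf, vecOf, ← Finset.sum_add_distrib]
  refine Finset.sum_congr rfl fun i _ => ?_
  rw [Nat.testBit_xor]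
  cases a.testBit i <;> cases b.testBit i <;> simp [two]

theorem vecOf_ap {V : Type v} [AddCommGroup V] (two : ∀ x : V, x + x = 0) (basis : Fin 8 → V) (L : List ℕ)
    (hL : L.length = 8) (n : ℕ) :
    vecOf basis (ap L n) = ∑ i : Fin 8, if n.testBit i then vecOf basis (L.getD i 0) else 0 := by
  have key : ∀ k, vecOf basis
      ((List.range k).foldl (fun s i => if n.testBit i then s ^^^ L.getD i 0 else s) 0) =
      ∑ i ∈ Finset.range k, if n.testBit i then vecOf basis (L.getD i 0) else 0 := by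
    intro k
    induction k with
    | zero => simp [vecOf]
    | succ k ih =>
      rw [List.range_succ, List.foldl_append, List.foldl_cons, List.foldl_nil, Finset.sum_range_succ]
      split
      · rw [vecOf_xor two, ih]
      · rw [ih, add_zero]
  rw [ap, hL, key, Finset.sum_range]

/-- An equivariant basis gives the coordinates. -/
structure Basis8 {M : Type u} {V : Type v} [Group M] [AddCommGroup V] [DistribMulAction M V]
    (h : Setup M V) where
  /-- The kind of module. -/
  kind : Kind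
  /-- The extra translation. -/
  eps : M → Bool
  /-- The basis. -/
  basis : Fin 8 → V
  surj : ∀ x : V, ∃ n < 256, vecOf basis n = x
  q_eq : ∀ n < 256, h.F.q (vecOf basis n) = if qv kind n then 1 else 0
  act : ∀ (m : M) (i : Fin 8), m • basis i =
    vecOf basis ((img kind (h.ψ m).1 (h.ψ m).2 (eps m)).getD i 0)

theorem img_length : ∀ (k : Kind) (a : P3) (b : P6) (e : Bool), (img k a b e).length = 8 := by
  intro k a b e
  cases k <;> simp [img]

theorem Basis8.equivariant {M : Type u} {V : Type v} [Group M] [AddCommGroup V] [DistribMulAction M V]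
    {h : Setup M V} (B : Basis8 h) (m : M) (n : ℕ) :
    m • vecOf B.basis n = vecOf B.basis (ap (img B.kind (h.ψ m).1 (h.ψ m).2 (B.eps m)) n) := by
  rw [vecOf_ap h.F.two _ _ (img_length _ _ _ _), vecOf, Finset.smul_sum]
  refine Finset.sum_congr rfl fun i _ => ?_
  split
  · exact B.act m i
  · exact smul_zero m

theorem Basis8.injective {M : Type u} {V : Type v} [Group M] [AddCommGroup V] [DistribMulAction M V]
    [Finite V] {h : Setup M V} (B : Basis8 h) :
    ∀ a < 256, ∀ b < 256, vecOf B.basis a = vecOf B.basis b → a = b := by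
  have hb : Function.Bijective fun n : Fin 256 => vecOf B.basis n :=
    (Nat.bijective_iff_surjective_and_card _).2 ⟨fun x => by
      obtain ⟨n, hn, e⟩ := B.surj x
      exact ⟨⟨n, hn⟩, e⟩, by rw [Nat.card_fin, h.card]⟩
  intro a ha b hb' e
  exact congrArg Fin.val (hb.1 (a₁ := ⟨a, ha⟩) (a₂ := ⟨b, hb'⟩) e)

/-- A homomorphism to three points agreeing on the cycle is the given one up to a power of it. -/
theorem exists_shift {M : Type u} [Group M] (ψ : M →* P3 × P6) (p : M →* P3)
    (hc : ∀ m, ψ m = (cyc, 1) → p m = cyc) (hA : ∀ m, (ψ m).1 = 1 → Equiv.Perm.sign (ψ m).2 = 1 → p m = 1)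
    (hd : ∃ m, ψ m = (cyc, 1))
    (hodd : ∃ m, Equiv.Perm.sign (ψ m).1 = -1)
    (hcomm : ∀ m, Equiv.Perm.sign (ψ m).1 = 1 → p m * cyc = cyc * p m)
    (hinv : ∀ m, Equiv.Perm.sign (ψ m).1 = -1 → p m * cyc = cyc * cyc * p m) :
    ∃ k : Fin 3, ∀ m, p m = cyc ^ (k : ℕ) * (ψ m).1 * (cyc ^ (k : ℕ))⁻¹ := by
  obtain ⟨d, hd⟩ := hd
  have hone : ∀ m, (ψ m).1 = 1 → p m = 1 := by
    intro m hm
    have h2 : p m * p m = 1 := by
      rw [← map_mul]
      refine hA _ (by rw [map_mul, Prod.fst_mul, hm, one_mul]) ?_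
      rw [map_mul, Prod.snd_mul, map_mul, Int.units_mul_self]
    have hc' := hcomm m (by rw [hm, map_one])
    exact (by decide +kernel : ∀ a : P3, a * a = 1 → a * cyc = cyc * a → a = 1) _ h2 hc'
  have heq : ∀ m n, (ψ m).1 = (ψ n).1 → p m = p n := fun m n e => by
    have := hone (n⁻¹ * m) (by rw [map_mul, map_inv, Prod.fst_mul, Prod.fst_inv, e, inv_mul_cancel])
    rwa [map_mul, map_inv, inv_mul_eq_one, eq_comm] at this
  obtain ⟨o, ho⟩ := hodd
  obtain ⟨k, hk⟩ : ∃ k : Fin 3, p o = cyc ^ (k : ℕ) * (ψ o).1 * (cyc ^ (k : ℕ))⁻¹ := by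
    have h1 := hinv o ho
    exact (by decide +kernel : ∀ a b : P3, Equiv.Perm.sign a = -1 → b * cyc = cyc * cyc * b →
      ∃ k : Fin 3, b = cyc ^ (k : ℕ) * a * (cyc ^ (k : ℕ))⁻¹) _ _ ho h1
  refine ⟨k, fun m => ?_⟩
  obtain ⟨j, hj⟩ : ∃ j : Fin 3, (ψ m).1 = cyc ^ (j : ℕ) ∨ (ψ m).1 = cyc ^ (j : ℕ) * (ψ o).1 :=
    (by decide +kernel : ∀ a b : P3, Equiv.Perm.sign a = -1 →
      ∃ j : Fin 3, b = cyc ^ (j : ℕ) ∨ b = cyc ^ (j : ℕ) * a) _ _ ho
  have hdk : (ψ (d ^ (j : ℕ))).1 = cyc ^ (j : ℕ) := by rw [map_pow, hd]; rfl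
  have hpd : p (d ^ (j : ℕ)) = cyc ^ (j : ℕ) := by rw [map_pow, hc d hd]
  rcases hj with e | e
  · rw [heq m (d ^ (j : ℕ)) (e.trans hdk.symm), hpd, e, (Commute.pow_pow_self cyc (k : ℕ) j).eq,
      mul_inv_cancel_right]
  · rw [heq m (d ^ (j : ℕ) * o) (by rw [map_mul, Prod.fst_mul, hdk, e]), map_mul, hpd, hk, e, ← mul_assoc,
      ← mul_assoc, ← mul_assoc, (Commute.pow_pow_self cyc (j : ℕ) k).eq]

end Cfsg.Agent.ExtraTwoNine
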