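import Cfsg.Agent.Lib.ExtraTwoNine.Model

/-!
Facts about the symmetric group of degree six used for the coordinates: generation certificates and
the outer automorphism, given by the action on the six synthematic totals.
-/

set_option autoImplicit false
set_option maxRecDepth 20000

namespace Cfsg.Agent.ExtraTwoNine.CoordPerm

abbrev P6 := Equiv.Perm (Fin 6)

/-- A number attached to a permutation. -/
def code (g : P6) : ℕ :=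
  (g 0).val + 6 * ((g 1).val + 6 * ((g 2).val + 6 * ((g 3).val + 6 * ((g 4).val + 6 * (g 5).val))))

theorem code_injective : Function.Injective code := by
  intro g h e
  have h0 := (g 0).isLt; have h1 := (g 1).isLt; have h2 := (g 2).isLt
  have h3 := (g 3).isLt; have h4 := (g 4).isLt; have h5 := (g 5).isLt
  have k0 := (h 0).isLt; have k1 := (h 1).isLt; have k2 := (h 2).isLt
  have k3 := (h 3).isLt; have k4 := (h 4).isLt; have k5 := (h 5).isLt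
  simp only [code] at e
  ext i
  fin_cases i <;> (simp only [Fin.zero_eta, Fin.mk_one, Fin.reduceFinMk]; omega)

/-- The product of a word. -/
def eval (gens : List P6) (w : List ℕ) : P6 := w.foldr (fun k x => gens.getD k 1 * x) 1

theorem eval_mem (S : Subgroup P6) {gens : List P6} (h : ∀ g ∈ gens, g ∈ S) :
    ∀ w, eval gens w ∈ S
  | [] => one_mem S
  | k :: w => by
    refine mul_mem ?_ (eval_mem S h w)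
    rcases Nat.lt_or_ge k gens.length with hk | hk
    · rw [List.getD_eq_getElem _ _ hk]; exact h _ (List.getElem_mem hk)
    · rw [List.getD_eq_default _ _ hk]; exact one_mem S

/-- An element of order five. -/
def f : P6 :=
  Equiv.swap 0 1 * Equiv.swap 1 2 * Equiv.swap 2 4 * Equiv.swap 4 3

/-- A three-cycle. -/
def ea : P6 :=
  Equiv.swap 0 1 * Equiv.swap 1 2

/-- A product of two three-cycles. -/
def eb : P6 :=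
  Equiv.swap 0 2 * Equiv.swap 2 4 * Equiv.swap 1 3 * Equiv.swap 3 5

/-- An element of order four of the Sylow subgroup. -/
def t1 : P6 :=
  Equiv.swap 0 2 * Equiv.swap 2 1 * Equiv.swap 1 3 * Equiv.swap 4 5

/-- An involution of the Sylow subgroup. -/
def t2 : P6 :=
  Equiv.swap 0 1 * Equiv.swap 4 5

/-- The image of `f`. -/
def thf : P6 :=
  Equiv.swap 0 4 * Equiv.swap 4 2 * Equiv.swap 2 3 * Equiv.swap 3 1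

/-- The image of `eb`. -/
def theb : P6 :=
  Equiv.swap 1 3 * Equiv.swap 3 2

/-- The image of `t1`. -/
def tht1 : P6 :=
  Equiv.swap 0 3 * Equiv.swap 3 2 * Equiv.swap 2 1 * Equiv.swap 4 5

/-- The image of `t2`. -/
def tht2 : P6 :=
  Equiv.swap 0 3 * Equiv.swap 1 2

/-- The normaliser of the group of `f`. -/
def nList : List ℕ :=
  [44790, 41850, 44605, 42925, 43640, 39230, 42375, 40275, 39580, 40630]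

/-- The Sylow subgroup. -/
def tList : List ℕ :=
  [44790, 37640, 38305, 44605, 44300, 44115, 37815, 38130]

/-- Words reaching `ea` or `eb`. -/
def fTab : List (ℕ × List ℕ) :=
  [(30750, [1, 1, 0, 1, 0, 1]), (36150, [0, 0, 1, 0, 1, 0, 0]), (38130, [1, 0, 0, 0, 1, 0]),
   (42450, [0, 1]), (21930, [1, 1, 0, 0, 0, 1, 1, 0, 1]), (43350, [0, 1, 1]),
   (22830, [0, 0, 0, 1, 0, 1, 0]), (27150, [1, 0, 0, 0, 0, 1, 0, 1, 0, 0, 0]),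
   (29130, [1, 0, 0, 1, 0, 1, 0, 0]), (34530, [1, 0, 0, 0, 1]),
   (20490, [0, 0, 1, 0, 0, 0, 0, 1, 0, 1]), (38280, [1, 0, 1, 0, 0, 0, 0, 1, 0, 0]),
   (43680, [0, 0, 1, 0, 0, 0, 1]), (29640, [0, 0, 1]), (44400, [1, 0, 0, 1, 0]),
   (15240, [0, 0, 0, 1, 1, 0, 1]), (33600, [0, 1, 0, 0, 0, 1, 1, 1]),
   (30180, [0, 1, 1, 1, 0, 1, 0]), (40980, [0, 0, 0, 0, 1, 0]), (12900, [1, 1, 1, 0, 1, 0]),
   (35400, [1, 0, 1]), (13800, [0, 0, 0, 0, 1, 0, 1]), (25680, [1, 1, 1, 0, 1, 0, 0, 1]),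
   (44550, [1, 1, 0, 0, 1, 1, 0]), (22950, [0, 1, 0, 0, 0, 1, 0]),
   (34830, [0, 1, 1, 0, 0, 1, 0, 0]), (37890, [0, 0, 1, 0, 1, 0, 0, 1, 0]),
   (41130, [1, 0, 0, 0, 1]), (14130, [1, 0, 0, 1, 1, 0, 1]), (14850, [1, 0, 1, 0, 0, 0, 1]),
   (18090, [0, 0, 1, 1, 0, 1, 0]), (21150, [0, 1, 0, 0, 1, 0, 1, 0, 0]),
   (33030, [1, 0, 1, 1, 0]), (11430, [0, 0, 1, 0, 0, 1, 1, 0]), (30300, [0, 1, 1, 0, 1, 0]),
   (42180, [1, 0, 1, 0, 0]), (20580, [1, 0, 1, 1, 0, 0, 0]), (43080, [1, 0, 1, 0, 1]),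
   (15000, [1, 1, 0, 1, 0, 0, 1, 1]), (25800, [0, 0, 0, 1, 0, 1, 0, 0, 1, 0]),
   (22380, [1, 0, 0, 0, 0, 1, 1]), (40740, [1, 0, 0, 0]), (11580, [1, 1, 0, 1, 1]),
   (26340, [0, 1, 0, 0, 0, 0, 1, 1]), (12300, [1, 1, 1, 0, 0, 0, 1, 0]),
   (17700, [0, 1, 0, 0, 0, 1]), (35490, [1, 0, 1, 0, 0, 1]), (21450, [1, 0, 1, 0, 1, 1]),
   (26850, [1, 0, 0, 0, 1]), (28830, [1, 1, 0, 0, 1, 0, 1, 1]), (33150, [1, 0, 1, 1, 0, 0, 1]),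
   (12630, [1, 0, 0]), (34050, [1, 1, 0, 0, 0, 0, 1, 0]),
   (13530, [0, 0, 0, 1, 0, 0, 1, 0, 1, 0]), (17850, [0, 1, 0, 1, 1, 0]),
   (19830, [0, 1, 0, 1, 1, 1, 0]), (25230, [1, 0, 0, 0, 0, 1]),
   (11190, [1, 0, 1, 0, 0, 0, 0, 1, 0, 0, 0]), (38305, [1, 0, 0, 1, 0]),
   (43705, [1, 0, 0, 0, 1, 0, 0]), (29665, [1, 0, 0, 0, 0, 1, 0, 1, 0, 0]),
   (23005, [1, 0, 0, 1, 0, 0, 0, 1]), (34885, [0, 1, 1, 0, 0, 1, 0, 0]),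
   (30385, [0, 1, 1, 0, 1, 0]), (42265, [1, 0, 1, 0, 0, 0, 1]), (20665, [1, 1, 0, 1, 0]),
   (35605, [1, 0, 1, 1, 0, 0]), (21565, [0, 1, 0, 1, 0, 0, 0, 0, 1, 0]),
   (26965, [1, 1, 0, 1, 1, 1, 0]), (44725, [1]), (30685, [1, 0, 1, 0, 0]),
   (36085, [0, 1, 0, 1, 0, 0, 1]), (37705, [0, 0, 1, 1, 0]), (39865, [0, 0, 1, 0, 0]),
   (6385, [1, 1, 1, 0, 1, 0, 0, 0]), (7285, [1, 0, 0, 0, 1, 0]), (24565, [0, 1, 1, 0, 0]),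
   (28705, [1, 0, 1, 1, 1, 0]), (31945, [0, 0, 1, 1, 1, 0, 1]), (4945, [0, 1, 0, 1, 0, 0, 1]),
   (38035, [0, 1, 1, 0, 0, 1, 0, 1]), (42355, [0, 1, 0, 1]), (21835, [1, 1, 1, 0]),
   (44155, [0, 1, 0, 0, 0, 0]), (7435, [1, 0, 0, 1, 0, 1, 1, 1]),
   (32275, [1, 0, 0, 0, 1, 1, 1, 0, 0]), (22195, [1, 1, 0, 1, 0, 0, 1, 1, 0]),
   (39475, [1, 1, 1, 0, 1]), (3835, [0, 0, 1, 1, 0, 1, 0]), (33895, [1, 0, 0, 1]),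
   (5815, [0, 0, 0, 1, 0, 1, 1, 0]), (16615, [1, 0, 0, 0, 1, 0, 1, 0, 1]),
   (43225, [1, 1, 0, 0]), (22705, [1, 1, 0, 1, 0, 0, 1, 1]),
   (27025, [1, 0, 1, 0, 0, 1, 0, 0, 0, 0]), (29905, [0, 1, 1, 1, 0, 1, 0, 0]),
   (39625, [0, 1, 0, 0, 1]), (5065, [0, 1]), (41605, [0, 0, 0, 1, 0]),
   (7045, [1, 0, 0, 1, 0, 0, 1, 0, 1]), (16765, [0, 1, 0, 1, 0, 0]), (19645, [0, 0, 0, 1, 1]),
   (23965, [1, 0, 1, 0]), (3445, [0, 1, 0, 1, 1, 0, 0, 0]), (28975, [0, 0, 0, 1, 0, 1, 1]),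
   (34375, [1, 1, 0, 0, 0, 0, 1, 0]), (20335, [0, 0, 1, 0, 1, 1, 0]),
   (35095, [0, 1, 0, 1, 1, 1]), (5935, [1, 0, 1, 0, 0, 0, 0]), (24295, [0, 0, 0, 1, 0, 1, 1]),
   (20875, [1, 0, 1, 0, 1, 1, 1, 0, 1]), (31675, [1, 1, 0, 1, 1, 1, 0, 1, 0]),
   (3595, [1, 0, 1, 1, 0, 0, 0, 1]), (26095, [1, 0, 1, 1, 0]), (4495, [0, 1, 0, 0, 1, 0, 1]),
   (16375, [1, 0, 0, 1, 1]), (44750, [1, 1]), (30710, [1, 0, 0, 0, 0, 1, 0, 1, 1]),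
   (36110, [1, 1, 0, 1, 1, 0, 0]), (37910, [1, 0, 0, 1, 0, 1, 0, 0]), (41150, [1, 1, 1, 0, 0]),
   (14150, [1, 0, 1, 0, 0, 1]), (43130, [1, 1, 0, 1]), (15050, [0, 1, 0, 1, 1, 0, 0]),
   (25850, [0, 1, 0, 1, 0, 0, 1, 0, 0]), (28910, [1, 1, 0]), (33230, [0, 0, 1, 1, 0, 1]),
   (12710, [0, 0, 0, 1, 1, 0, 0, 1]), (38240, [1, 0, 0, 1, 0, 1, 0, 0, 0]),
   (29600, [0, 1, 0, 1, 0, 0, 1, 0, 0]), (44180, [0, 0, 0, 1, 0, 1]),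
   (7460, [1, 0, 0, 0, 0, 1, 1, 0]), (32300, [1, 0, 1, 1]), (29960, [1, 1, 0, 0, 1]),
   (39680, [1, 0, 1, 0, 0, 0]), (5120, [1, 1, 1, 0, 1, 0, 0]), (35180, [1, 0, 1, 1, 1, 0, 0]),
   (6020, [1, 0, 1, 1, 0, 0, 1]), (24380, [1, 1, 0, 1, 0, 1, 1, 0, 1]), (44300, [0, 0, 1, 0]),
   (15140, [1, 0, 0, 0, 1, 0, 1]), (33500, [1, 1, 0, 0]), (37640, [1, 0, 0, 1, 0, 1, 0, 0, 0]),
   (39800, [0, 0, 1, 1, 1]), (6320, [0, 1, 0, 0, 0, 1, 0, 0, 1]), (40340, [1, 0, 1]),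
   (6860, [1, 0, 1, 1, 1, 0, 1, 1, 0, 0]), (9020, [1]), (13160, [1, 1, 0, 0, 1, 0, 0, 0, 1]),
   (31520, [0, 1, 1, 0]), (2360, [0, 1, 0, 0, 0]), (30050, [1, 1, 0, 0]), (40850, [0, 1, 0, 0]),
   (12770, [1, 1, 1, 0, 1, 1, 0, 0, 1, 1]), (42830, [1, 0, 1, 1]), (7190, [1, 1, 1, 0, 0, 0]),
   (24470, [1, 1, 0, 1]), (14390, [0, 0, 1, 0, 1, 0]), (2510, [1, 0, 0, 1, 1, 0, 1]),
   (24830, [1, 0, 0, 1, 0, 0, 0, 0, 1]), (4310, [1, 0, 0, 1]), (8630, [1, 1, 0, 1]),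
   (35240, [1, 1, 0, 0, 1, 1, 0, 1, 1, 1]), (13640, [0, 0, 0, 1, 0, 0, 1]),
   (25520, [1, 0, 1, 0, 0, 0, 1]), (28580, [1, 1, 0, 1, 0, 0, 0]), (31820, [1, 0, 0, 1, 0, 1]),
   (4820, [0, 0, 0, 1, 0, 0, 1, 1]), (32540, [0, 1, 0, 1]), (5540, [1, 1, 1, 1, 0, 1, 0, 1]),
   (8780, [1, 0, 1, 1]), (11840, [0, 0, 0, 1, 0, 1]), (23720, [1, 0, 1, 1, 0, 1, 1, 0]),
   (2120, [0, 1, 1, 1, 0, 0, 0, 1]), (38055, [0, 0, 1, 1, 0]),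
   (21855, [1, 1, 1, 1, 0, 1, 1, 0]), (44355, [0, 0, 1, 0, 1]),
   (15195, [0, 1, 1, 1, 1, 0, 1, 1]), (33555, [1, 0, 0, 1, 1, 0, 0, 0]),
   (22395, [1, 1, 0, 0, 1, 1]), (40755, [0, 0, 1]), (11595, [1, 1, 1, 0, 1, 1, 0]),
   (34095, [1, 0, 1, 1, 0, 0, 1, 0]), (13575, [1, 0, 0, 1, 1, 1, 0, 1]),
   (17895, [0, 0, 0, 1, 1]), (44505, [0, 0, 1, 1, 0, 0, 0, 1]),
   (22905, [0, 1, 0, 0, 1, 1, 0, 0]), (34785, [0, 0, 0, 1]),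
   (37665, [0, 1, 0, 0, 0, 0, 1, 0, 1, 0]), (39825, [1, 0]), (6345, [1, 0, 0, 0, 0, 1, 0, 0]),
   (41625, [0, 1, 0, 0, 0, 1, 0]), (7065, [1, 1, 1, 0, 1, 0, 0, 0]),
   (16785, [0, 0, 1, 1, 0, 1, 0]), (20925, [0, 1, 0, 0, 1]), (31725, [1, 0, 1, 1, 0, 0]),
   (3645, [1, 0, 0, 1]), (37815, [0, 0, 1, 0, 1, 0, 0, 1, 0]), (41055, [1, 0, 1, 0]),
   (14055, [0, 1, 1, 0, 1, 0, 1, 0]), (44115, [1, 0, 0, 0, 1, 0, 1]),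
   (7395, [0, 1, 1, 1, 0, 1, 1]), (32235, [1, 0, 0, 1, 1, 0, 0, 0]), (14415, [0, 1, 1, 0, 1]),
   (39255, [0, 1, 0, 0, 0]), (2535, [1, 0, 1, 0, 0, 1, 1]), (32595, [0, 0, 1, 1, 0, 1]),
   (5595, [0, 0, 1, 0, 1, 1, 0]), (8835, [0, 1, 1, 0, 0, 0, 1]), (41715, [0, 1, 1, 1, 0]),
   (14715, [1, 0, 0, 0, 0]), (17955, [0, 0, 1, 1, 0, 1, 0, 1, 0]),
   (22095, [0, 0, 1, 1, 0, 0, 1, 0]), (39375, [1, 1, 0, 0, 0, 0]),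
   (3735, [0, 1, 0, 0, 1, 1, 0, 1]), (6795, [0, 0, 1, 0, 0, 0, 0, 1, 1]),
   (8955, [1, 1, 1, 0, 0, 0, 0, 1, 0]), (10575, [1, 1, 0, 0, 1, 1, 0, 1]),
   (15975, [0, 1, 0, 0, 1, 0, 1, 0]), (1935, [1, 0, 1, 0, 1, 1, 0, 1, 1]),
   (20985, [1, 0, 1, 1, 0, 0, 0]), (32865, [0, 1, 0, 1, 0, 1, 1]),
   (11265, [1, 0, 1, 1, 0, 1, 1]), (33765, [1, 1, 0, 0, 0, 0, 1]), (5685, [0, 1, 0, 0]),
   (16485, [0, 1, 0, 1, 1, 0, 0, 1]), (13065, [0, 0, 1, 0, 1, 0, 0, 0, 0, 1]),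
   (31425, [0, 1, 1]), (2265, [0, 1, 0, 0, 1, 1, 0, 0, 0]), (17025, [0, 1, 0, 1, 1, 0]),
   (2985, [1, 0, 1, 1, 0, 0, 1, 1]), (8385, [0, 0, 1, 0, 0, 1, 0, 1, 0]), (43240, [0, 1, 0]),
   (22720, [1, 0, 1, 1, 0, 0, 1, 1]), (27040, [0, 1, 1, 0, 0]), (30100, [1, 1, 0, 1, 0, 0, 0]),
   (40900, [0, 1, 1, 0, 0, 1, 1]), (12820, [1, 0, 0, 1, 0, 1]), (41800, [0, 0, 0, 0, 1, 1]),
   (14800, [1, 1, 1, 0, 1, 0, 1, 0, 0]), (18040, [0, 0, 0, 0, 1]),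
   (19840, [0, 1, 0, 0, 1, 0, 1, 0, 0]), (25240, [0, 1, 0, 0, 0, 1]), (11200, [1, 0, 0, 0]),
   (30250, [1, 1, 1, 0, 0, 1, 1, 1]), (42130, [1, 1, 0, 1, 1, 0, 0, 0]),
   (20530, [1, 0, 1, 1, 0, 0, 0]), (42850, [1, 1, 0]), (7210, [0, 0, 1, 0, 1, 0, 0, 1]),
   (24490, [1, 0, 0, 1, 0, 0, 0]), (22150, [1, 0, 0, 0, 1, 0, 0, 1]),
   (39430, [0, 1, 0, 0, 1, 0]), (3790, [1, 1, 0, 1, 0, 0]), (26110, [0, 1, 0, 1, 1, 1, 0, 0]),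
   (4510, [0, 0, 0, 1, 1]), (16390, [0, 0, 0, 1, 0, 1, 0, 0, 1]), (43000, [0, 0, 1, 1]),
   (14920, [0, 0, 0, 1, 1, 0, 1]), (25720, [1, 1, 0, 1, 1, 1]), (29860, [0, 0, 0, 1, 1, 0, 1]),
   (5020, [1, 1, 0, 1, 0, 0]), (40300, [1, 0, 1, 1, 1]), (6820, [0, 1, 0, 0, 0, 0]),
   (8980, [1, 1, 0, 1, 1, 1, 0, 1, 0, 0]), (11860, [1, 0, 0, 1, 0, 1, 0]),
   (23740, [1, 0, 1, 0, 0, 1, 0, 0, 1]), (2140, [0, 0, 1, 0, 1, 1, 0]), (22270, [0, 1, 1, 0]),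
   (11470, [1, 1, 0, 1, 0, 1, 0]), (41530, [1, 0, 0]), (6970, [1, 0, 0, 0, 1, 0]),
   (16690, [1, 0, 1, 0, 1, 1, 0, 0, 0]), (14350, [0, 1, 1, 1]), (39190, [0, 0, 0, 1]),
   (2470, [0, 1, 1, 0, 1]), (17050, [1, 0, 1, 0, 0, 1, 1, 0]),
   (3010, [1, 1, 0, 1, 1, 0, 1, 0, 1]), (8410, [0, 0, 1, 1]), (26170, [1, 1]),
   (12130, [1, 1, 1, 0, 1, 1]), (17530, [0, 1, 0, 1, 1]), (19510, [0, 0, 1, 0, 1]),
   (23830, [1, 1, 0, 1, 0, 1, 0, 0, 0]), (3310, [1, 0, 1, 1, 1, 0, 0, 1]),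
   (24730, [1, 0, 0, 0, 1, 0, 1]), (4210, [1, 1, 1, 0, 0, 0, 1, 0, 0]),
   (8530, [0, 0, 1, 0, 0, 1, 0, 1, 0]), (10510, [0, 1, 0, 0, 1, 0, 1, 0, 0, 0]),
   (15910, [0, 0, 1, 1]), (1870, [1, 0, 1, 0, 0, 0, 0]), (28985, [1, 1, 0, 0, 1, 1, 0, 1]),
   (34385, [1, 0, 1, 1, 1]), (20345, [1, 0, 1, 0, 0, 1, 1, 0, 0]),
   (35285, [0, 1, 1, 0, 1, 0, 0]), (13685, [1, 1, 0, 1, 1, 0, 0, 0, 0]), (25565, [0, 0, 1, 0]),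
   (21065, [1, 0, 1, 0, 1, 0, 0, 1]), (32945, [0, 1, 1, 0, 1, 0, 1, 0, 0]),
   (11345, [1, 0, 0, 1, 1, 0, 1, 0]), (26285, [0, 0, 1, 1, 0, 0, 1, 0, 0]),
   (12245, [1, 1, 0, 0, 1, 0, 1]), (17645, [1, 1, 0, 1, 0, 1, 0, 0]),
   (35435, [0, 1, 1, 0, 1, 0, 0]), (21395, [1, 0, 1, 0, 0, 1, 0, 0]),
   (26795, [1, 1, 0, 0, 1, 0, 0, 0]), (28595, [0, 1, 0, 1, 0, 0, 0]),
   (31835, [1, 0, 0, 1, 1, 0, 1]), (4835, [0, 0, 0, 1, 0, 0, 1, 0, 1, 0, 1]),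
   (33815, [1, 1, 0, 1, 0, 0, 0, 0]), (5735, [0, 0, 0, 1, 0, 0, 1, 0, 1]),
   (16535, [0, 0, 0, 1, 1, 1]), (19595, [1, 1, 0, 1, 1, 1, 1]),
   (23915, [1, 0, 0, 1, 0, 0, 0, 1]), (3395, [0, 1, 0]), (28745, [1, 1, 0, 0, 1, 0, 1, 1]),
   (33065, [1, 1, 0, 0, 0]), (12545, [0, 0, 1, 0, 1, 1]), (35045, [0, 1, 0, 1, 1]),
   (5885, [0, 1, 0, 1, 0, 0, 0, 0, 1, 0, 0]), (24245, [1, 0, 0, 0, 1, 0, 0, 1]),
   (13085, [1, 0]), (31445, [1, 0, 1, 0, 0, 0]), (2285, [1, 0, 1, 0, 1, 0, 0, 0, 1]),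
   (24785, [1, 0, 1, 0, 0, 1, 0]), (4265, [1, 1, 0, 0, 0]), (8585, [0, 0, 1, 0, 1, 1, 1]),
   (33935, [0, 1, 1, 0, 1, 0, 1, 0, 0, 0]), (13415, [1, 1, 0, 1, 0]),
   (17735, [1, 1, 0, 0, 1, 1]), (20795, [1, 0, 1, 0, 1, 1, 0, 0]), (31595, [0, 0, 0, 1, 0]),
   (3515, [1, 1, 0, 0, 0]), (32495, [0, 0, 0, 1, 1, 0, 1, 0]), (5495, [1, 0, 0, 1, 0, 0, 1]),
   (8735, [0, 1, 0, 1, 1, 0, 0]), (10535, [0, 0, 0, 1, 0, 1, 1]),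
   (15935, [1, 1, 0, 1, 1, 0, 0, 1, 0, 1]), (1895, [0, 1, 0, 0, 0, 1, 1, 0, 1]),
   (19685, [0, 1, 1, 0, 0, 0]), (25085, [0, 1, 0, 1, 0, 0, 0]), (11045, [0, 0, 1, 0, 1, 1]),
   (25985, [1, 0, 0, 1, 1, 0, 0, 0]), (4385, [1, 0, 1, 0, 0, 1, 0, 0, 0]),
   (16265, [1, 0, 0, 1, 0, 1, 0, 1]), (11765, [1, 0, 1, 1, 1, 0, 0, 0]),
   (23645, [1, 1, 0, 0, 0, 0, 1]), (2045, [1, 0, 1, 0, 0, 1, 0, 0, 0]),
   (16985, [0, 1, 1, 0, 1, 1, 1, 0, 1]), (2945, [0, 1, 0, 1, 0, 0, 1, 0]),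
   (8345, [1, 1, 0, 0, 1, 1, 0])]

/-- Words reaching `ea` or `eb`. -/
def tTab : List (ℕ × List ℕ) :=
  [(30750, [0, 1, 2, 0, 0, 2]), (36150, [0, 2, 0, 0, 2, 1]), (42450, [0, 1, 2, 1, 2]),
   (21930, [0, 2, 1, 2, 1]), (43350, [0, 2, 1, 2, 1]), (22830, [0, 2, 0, 0, 2, 1]),
   (27150, [1, 0, 2]), (29130, [0, 1, 2, 1, 2]), (34530, [0, 1, 2, 0, 0, 2]), (20490, [0, 2]),
   (38280, [1, 2]), (43680, [2, 0, 0, 2, 1, 0, 0, 2]), (29640, [2, 1, 0, 2, 0, 0, 2, 1, 0]),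
   (44400, [0, 2, 1]), (15240, [1, 2, 0, 0, 0, 2, 1, 2]), (33600, [1, 2, 0, 0, 0, 2, 1, 2]),
   (30180, [1, 2, 1, 2, 2]), (40980, [2, 0, 0, 2, 1, 0, 2]), (12900, [2, 0, 0, 2, 2, 2, 2, 1]),
   (35400, [2, 1, 2, 2]), (13800, [2, 0, 0, 2, 1, 0, 2]), (25680, [2, 0, 0, 2, 2, 2, 2, 1]),
   (44550, [2, 1, 0]), (22950, [2, 1, 2, 2, 1]), (34830, [1, 2, 0, 2, 1, 2]),
   (37890, [2, 0, 0, 0]), (41130, [2, 0, 1, 2, 0, 1, 2, 2]), (14130, [2, 0, 1, 2, 0, 1, 2, 2]),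
   (41850, [2, 0, 0, 2, 0, 1, 2, 1, 0]), (14850, [2, 0, 1, 2, 2, 0, 2]),
   (18090, [0, 2, 0, 2, 2, 1, 2, 0]), (21150, [2, 0, 0, 2, 0, 1, 2, 1, 0]),
   (33030, [2, 0, 1, 2, 2, 0, 2]), (11430, [0, 2, 0, 2, 2, 1, 2, 0]),
   (30300, [2, 0, 2, 1, 2, 0]), (42180, [2, 2, 0, 2, 2, 0, 0, 2]), (20580, [2, 0, 2, 1, 2, 2]),
   (43080, [2, 2, 0, 0, 2, 0, 0, 2]), (15000, [2, 2, 1, 2, 0]), (25800, [2, 1, 0, 2, 1]),
   (22380, [2, 1, 2, 0, 0, 2, 2]), (40740, [2, 1, 2, 1, 0]), (11580, [1, 2, 0, 2, 0]),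
   (26340, [2, 2, 0, 2, 0, 0, 2]), (12300, [2, 0, 2, 1, 2]), (17700, [0, 2, 0, 1, 2, 1, 0]),
   (35490, [2, 0, 2, 1, 2, 0]), (21450, [2, 1, 0, 2, 1, 2, 2]), (26850, [1, 2, 0, 2, 1, 2, 2]),
   (28830, [2, 2, 0, 0, 2, 0, 0, 2]), (33150, [2, 1, 2, 2, 0]), (12630, [2, 1, 0, 2, 1]),
   (34050, [2, 0, 0, 2, 2, 1, 2]), (13530, [2, 1, 2, 0]), (17850, [1, 2, 0, 2, 0]),
   (19830, [2, 2, 0, 2, 0, 0, 2]), (25230, [2, 0, 2, 1, 2]), (11190, [0, 2, 0, 1, 2, 1, 0]),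
   (43705, [1, 0, 2, 1, 0, 0, 2]), (29665, [0, 2, 1, 0, 0, 2]), (23005, [1, 0, 2, 2]),
   (34885, [0, 2, 2]), (30385, [0, 2, 2]), (42265, [0, 2, 1, 0, 0, 2]), (20665, [0, 1, 2]),
   (35605, [1, 0, 2, 2]), (21565, [2, 0, 1, 2, 1, 0, 2]), (26965, [0, 2, 1]), (44725, [2]),
   (30685, [2, 1, 0, 0, 2, 0, 0, 2]), (36085, [2, 2, 0, 0, 2, 0, 0, 2]), (37705, [2, 1, 0, 0]),
   (39865, [2, 1, 0, 2, 2]), (6385, [2, 1, 0, 2, 2]), (42925, [2, 2, 1, 0, 2]),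
   (7285, [1, 2, 2, 2, 1, 2, 2]), (24565, [1, 2, 0, 0, 2, 2, 2]), (28705, [2, 2, 1, 2]),
   (31945, [1, 2, 2, 2, 1, 2, 2]), (4945, [1, 2, 0, 0, 2, 2, 2]), (38035, [1, 2, 1, 0]),
   (42355, [2, 0, 1, 2, 2]), (21835, [2, 0, 1, 2, 2]), (44155, [0, 2, 0]),
   (7435, [2, 1, 2, 0, 2, 0, 2, 0]), (32275, [0, 2, 0, 2, 1, 0, 2]),
   (22195, [2, 0, 2, 0, 0, 2, 2, 0, 0]), (39475, [2, 2, 0, 1, 2, 1, 0]),
   (3835, [2, 2, 2, 0, 0, 2, 0]), (33895, [2, 0, 2, 0, 0, 2, 2, 0, 0]),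
   (5815, [2, 2, 0, 1, 2, 1, 0]), (16615, [2, 2, 2, 0, 1, 2, 0]), (43225, [2, 2, 0, 1, 2]),
   (22705, [2, 2, 1, 2, 2, 2, 1]), (27025, [2, 2, 2, 0, 0, 2, 1]),
   (29905, [2, 0, 2, 2, 1, 2, 1]), (39625, [2, 1, 2, 2, 0]), (5065, [1, 2, 0, 0, 0, 2, 1]),
   (41605, [2, 1, 0, 2, 2, 0, 0]), (7045, [2, 2, 1, 0]), (16765, [2, 0, 1, 2, 0]),
   (19645, [2, 0, 0, 2, 2, 2, 0]), (23965, [0, 2, 1, 0, 2]), (3445, [2, 0, 2, 0, 1]),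
   (28975, [2, 2, 0, 1, 2]), (34375, [2, 2, 1, 2, 2, 2, 1]), (20335, [2, 2, 2, 0, 0, 2, 1]),
   (35095, [2, 0, 0, 2, 0, 2, 2]), (5935, [2, 2, 1, 2, 0]), (24295, [2, 0, 0, 2, 2, 1]),
   (20875, [2, 1, 0, 2, 2, 0, 0]), (31675, [2, 2, 0]), (3595, [2, 0, 1, 2, 0]),
   (26095, [2, 1, 0, 2, 2, 2, 0]), (4495, [0, 2, 1, 0, 2]), (16375, [2, 0, 2, 0, 1]),
   (44750, [2, 2]), (30710, [2, 0, 2, 1, 0, 0, 2, 0]), (36110, [2, 0, 2, 1, 0, 0, 2, 0]),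
   (37910, [0, 2]), (41150, [2, 2, 0, 1, 2, 0, 0]), (14150, [2, 2, 0, 1, 2, 0, 0]),
   (43130, [2, 2, 1, 2, 0, 0]), (15050, [2, 2, 2, 1, 2, 2, 1]), (25850, [2, 0, 0, 2, 2, 2, 1]),
   (28910, [2, 2, 1, 2, 1]), (33230, [2, 2, 2, 1, 2, 2, 1]), (12710, [2, 0, 0, 2, 2, 2, 1]),
   (38240, [2, 1]), (43640, [2, 0, 0, 2, 0, 1, 2, 0, 0]), (29600, [2, 0, 0, 2, 0, 1, 2, 0, 0]),
   (44180, [2, 0, 0]), (7460, [2, 0, 2, 1, 2, 1]), (32300, [2, 0, 2, 1, 2, 1]),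
   (29960, [2, 1, 2, 0, 2, 1]), (39680, [2, 0, 1, 2, 0, 0, 2, 0, 0]),
   (5120, [2, 2, 2, 1, 2, 0, 2, 0]), (35180, [2, 1, 2, 2, 1]),
   (6020, [2, 0, 1, 2, 0, 0, 2, 0, 0]), (24380, [2, 2, 2, 1, 2, 0, 2, 0]),
   (15140, [2, 0, 1, 2, 1]), (33500, [2, 0, 1, 2, 0, 0]), (39800, [2, 0, 2, 1]),
   (6320, [2, 0, 2, 0, 0]), (40340, [2, 0, 2, 0, 0]), (6860, [2, 0, 1, 2, 0, 0]), (9020, [2]),
   (13160, [2, 0, 2, 1]), (31520, [2, 0, 1, 2, 1]), (2360, [1, 2]),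
   (30050, [2, 2, 1, 0, 2, 2, 1]), (40850, [2, 0, 0, 2, 0, 1, 2]), (12770, [2, 2, 0, 0, 0]),
   (42830, [0, 2, 0, 2, 0]), (7190, [2, 2, 0, 2, 2, 0, 1]), (24470, [0, 2, 1, 2, 0]),
   (14390, [0, 2, 0, 2, 1, 2]), (39230, [2, 1, 0, 2, 2, 2]), (2510, [2, 2, 2, 0, 0, 2, 1]),
   (24830, [2, 0, 2, 1, 2]), (4310, [1, 2, 0, 1, 2, 2]), (8630, [1, 2, 2, 2, 2, 1, 2]),
   (35240, [0, 2, 1, 2, 2, 2]), (13640, [2, 0, 0, 2, 0, 1, 2]), (25520, [2, 2, 0, 0, 0]),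
   (28580, [0, 2, 0, 2, 1, 0]), (31820, [2, 2, 0, 2, 2, 0, 1]), (4820, [0, 2, 1, 2, 0]),
   (32540, [0, 2, 0, 2, 1, 2]), (5540, [2, 1, 2, 2, 2]), (8780, [2, 2, 2, 0, 0, 2, 1]),
   (11840, [2, 0, 2, 1, 2]), (23720, [1, 2, 0, 1, 2, 2]), (2120, [1, 2, 2, 2, 2, 1, 2]),
   (38055, [2, 0]), (42375, [2, 2, 1, 2]), (21855, [1, 2, 2, 1, 2]), (44355, [2, 0, 1]),
   (15195, [1, 2, 2, 2, 0, 0, 2, 2]), (33555, [1, 2, 2, 2, 0, 0, 2, 2]),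
   (22395, [2, 2, 0, 0, 2, 0, 0, 2]), (40755, [2, 0, 0, 2, 2, 2]),
   (11595, [1, 2, 0, 2, 1, 2, 2]), (34095, [2, 1, 0, 0, 2, 0, 0, 2]),
   (13575, [2, 0, 0, 2, 2, 2]), (17895, [1, 2, 0, 2, 1, 2, 2]), (44505, [1, 2, 0]),
   (22905, [2, 1, 2, 2]), (34785, [1, 2, 1, 2, 2]), (37665, [0, 2, 1, 0]),
   (39825, [2, 2, 0, 0, 2, 0, 2]), (6345, [2, 0, 2, 0, 0, 2, 2]),
   (41625, [2, 1, 0, 2, 0, 0, 2, 0, 0]), (7065, [2, 1, 2, 0, 0, 0, 2, 0]),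
   (16785, [2, 0, 1, 2, 2, 1, 2]), (20925, [2, 0, 0, 2, 1, 0, 0, 2]),
   (31725, [2, 1, 2, 0, 0, 0, 2, 0]), (3645, [2, 0, 1, 2, 2, 1, 2]), (41055, [2, 0, 0, 2, 2]),
   (14055, [2, 0, 0, 2, 2]), (7395, [2, 1, 0, 2]), (32235, [1, 2, 1, 0, 2]),
   (14415, [1, 2, 1, 0, 2]), (39255, [1, 2, 0, 0, 0, 2]), (2535, [2, 1]), (32595, [2, 1, 0, 2]),
   (5595, [2, 0, 0, 0, 2]), (8835, [2, 0, 0]), (41715, [1, 2, 0, 0, 2, 2, 0]),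
   (14715, [2, 2, 1, 2, 1, 2, 1]), (17955, [0, 2, 1, 0, 0, 2, 1]), (22095, [0, 2, 1, 0, 2, 0]),
   (39375, [2, 2, 2, 0, 1, 2]), (3735, [2, 2, 1, 0, 2, 1]), (40275, [2, 1, 2, 0, 0, 2]),
   (6795, [2, 2, 1, 0, 0, 2]), (8955, [1, 2, 2, 0, 2, 1, 2, 0]), (10575, [1, 2, 2]),
   (15975, [2, 1, 2]), (1935, [1, 2, 2, 2, 1, 2]), (20985, [1, 2, 0, 0, 2, 2, 0]),
   (32865, [2, 0, 0, 2, 1, 2]), (11265, [2, 2, 1, 2, 2, 0]), (33765, [0, 2, 1, 0, 2, 1, 0]),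
   (5685, [2, 2, 2, 0, 1, 2]), (16485, [2, 2, 1, 0, 2, 1]), (13065, [1, 2, 1, 2, 0, 0, 2]),
   (31425, [2, 2, 2, 0, 0, 2]), (2265, [0, 2, 1, 2, 2, 0, 2]), (17025, [1, 2, 2]),
   (2985, [2, 1, 2]), (8385, [1, 2, 2, 2, 1, 2]), (43240, [2, 1, 0, 2, 2, 1, 0]),
   (22720, [1, 2, 2, 1, 2, 2, 2]), (27040, [1, 2, 2, 2, 0, 0, 2]),
   (30100, [2, 2, 0, 0, 2, 2, 2, 1]), (40900, [2, 2, 1, 2, 0]), (12820, [2, 0, 2]),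
   (41800, [2, 2, 2, 0, 0, 2]), (14800, [2, 2, 0]), (18040, [1, 2, 2, 0, 1, 2]),
   (19840, [2, 2, 1, 2, 0, 2, 1]), (25240, [2, 1, 0, 2, 2, 1]), (11200, [2, 0, 0, 2, 2, 1]),
   (30250, [2, 0, 0, 2, 2, 1, 2]), (42130, [2, 0, 1, 2, 0, 0, 2]),
   (20530, [2, 1, 2, 2, 0, 0, 0, 2]), (42850, [2, 1, 0, 2, 1, 2, 2]), (7210, [2, 1, 2, 2, 0]),
   (24490, [1, 2, 0, 1, 2]), (22150, [2, 0, 2, 2, 1, 0, 2]), (39430, [2, 1, 2, 0]),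
   (3790, [2, 1, 2, 0, 2]), (26110, [1, 2, 0, 2, 1, 2, 2]), (4510, [0, 2, 0, 2, 1]),
   (16390, [2, 1, 0, 2, 0, 0, 0]), (43000, [2, 2, 0, 0, 2]), (14920, [2, 2, 2, 0, 0, 2]),
   (25720, [2, 1, 2, 0, 1]), (29860, [1, 2, 2, 0, 1, 2, 2]), (39580, [2, 1, 0, 2, 0, 0, 2]),
   (5020, [0, 2, 2, 1, 0]), (40300, [2, 1, 0, 0, 2, 2]), (6820, [2, 0, 0, 2, 1, 2]),
   (8980, [1, 2, 2, 2, 0, 0, 2]), (11860, [2, 0, 0, 2, 0]), (23740, [2, 2, 1, 2, 2, 0]),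
   (2140, [2, 2, 2, 2, 1, 2, 1]), (22270, [0, 2, 1, 2, 2, 2]), (40630, [2, 1, 2, 2, 2]),
   (11470, [0, 2, 0, 0, 2]), (41530, [2, 0, 1, 2, 2, 2]), (6970, [2, 1, 2, 0, 2, 0]),
   (16690, [2, 1, 2, 0, 2]), (14350, [2, 2, 0, 2, 2]), (39190, [2, 1, 2, 0, 0, 2, 1]),
   (2470, [2, 0, 2, 1, 0, 2, 2]), (17050, [1, 2, 1, 2, 1]), (3010, [2, 2, 1]),
   (8410, [2, 2, 2, 1, 2, 1]), (26170, [2, 2]), (12130, [2, 2, 1, 2, 0, 2, 0]),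
   (17530, [1, 2, 1, 2, 2, 2, 2]), (19510, [2, 1, 2]), (23830, [1, 2, 0, 0, 2, 2, 2]),
   (3310, [2, 1, 2, 2, 2, 2, 1]), (24730, [2, 2, 0, 1, 2, 0, 2]), (4210, [0, 2, 0, 2, 2, 1, 2]),
   (8530, [2, 1, 0]), (10510, [1, 2, 1, 2, 2, 2]), (15910, [2, 1, 2, 2, 2, 1]),
   (1870, [2, 0, 0, 0]), (28985, [2, 1, 0, 2, 2, 1, 0]), (34385, [1, 2, 2, 1, 2, 2, 2]),
   (20345, [1, 2, 2, 2, 0, 0, 2]), (35285, [2, 2, 0, 0, 2, 2, 2, 1]), (13685, [2, 1, 2, 2, 0]),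
   (25565, [2, 0, 2]), (21065, [2, 2, 2, 0, 0, 2]), (32945, [2, 2, 1, 0]),
   (11345, [1, 2, 2, 0, 1, 2]), (26285, [2, 2, 1, 2, 0, 2, 1]), (12245, [2, 1, 0, 2, 2, 1]),
   (17645, [0, 2, 0, 0, 0, 2, 0]), (35435, [2, 1, 2, 0, 0, 2, 2]),
   (21395, [2, 0, 1, 2, 0, 0, 2]), (26795, [2, 1, 2, 2, 0, 0, 0, 2]),
   (28595, [2, 2, 1, 0, 2, 1, 0, 2]), (31835, [2, 2, 1, 2, 0]), (4835, [1, 2, 0, 1, 2]),
   (33815, [2, 0, 2, 2, 1, 0, 2]), (5735, [2, 1, 2, 1, 0]), (16535, [2, 1, 2, 0, 2]),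
   (19595, [2, 0, 2, 1, 2, 2]), (23915, [0, 2, 0, 2, 1]), (3395, [2, 1, 0, 2, 0, 0, 0]),
   (28745, [2, 2, 0, 0, 2]), (33065, [2, 2, 1, 0, 0, 2]), (12545, [2, 1, 2, 0, 1]),
   (35045, [0, 2, 1, 0, 2, 0]), (5885, [2, 1, 2, 0, 0, 2]), (24245, [0, 2, 2, 1, 0]),
   (13085, [2, 1, 2, 2, 2, 1]), (31445, [2, 2, 1, 2, 1, 2, 1]), (2285, [1, 2, 2, 2, 0, 0, 2]),
   (24785, [2, 0, 0, 2, 0]), (4265, [1, 2, 1, 0, 0, 2, 0]), (8585, [2, 2, 2, 2, 1, 2, 1]),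
   (33935, [2, 2, 1, 2, 2, 0, 2]), (13415, [1, 2, 1, 2, 2, 2]), (17735, [0, 2, 0, 0, 2]),
   (20795, [0, 2, 0, 2, 0]), (31595, [2, 1, 2, 0, 2, 0]), (3515, [2, 1, 2, 0, 2]),
   (32495, [2, 2, 0, 2, 2]), (5495, [2, 1, 2, 0, 0, 2, 0, 0]), (8735, [2, 0, 2, 1, 0, 2, 2]),
   (10535, [1, 2, 1, 2, 1]), (15935, [2, 2, 1]), (1895, [2, 2, 2, 1, 2, 1]), (19685, [1, 2, 2]),
   (25085, [2, 2, 1, 2, 0, 2, 0]), (11045, [1, 2, 1, 2, 2, 2, 2]), (25985, [2, 2, 1]),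
   (4385, [1, 2, 0, 0, 2, 2, 2]), (16265, [2, 1, 2, 2, 2, 2, 1]),
   (11765, [2, 2, 0, 1, 2, 0, 2]), (23645, [0, 2, 1, 2, 0, 2, 2, 1]), (2045, [2, 0]),
   (16985, [1, 2, 1, 2, 2, 2]), (2945, [2, 1, 2, 2, 2, 1]), (8345, [2, 0, 1])]

/-- Words for the stabiliser of a point. -/
def fiveA : List (ℕ × List ℕ) :=
  [(44790, []), (42450, [0, 0, 0, 0, 1]), (43350, [1, 1, 0]), (43680, [0, 1, 0, 1, 0, 0, 0]),
   (44400, [0, 1, 0, 0, 0, 1]), (40980, [0, 1, 0, 0, 0, 0]), (44550, [1, 0, 1, 1, 0, 0]),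
   (41130, [1, 1, 0, 1, 0, 0]), (41850, [1, 1, 0, 1, 0, 1]), (42180, [0, 0, 0, 1, 0]),
   (43080, [1, 0, 1]), (40740, [1, 0, 0]), (43705, [0, 1, 0, 1, 1, 0, 0]),
   (44605, [1, 0, 1, 0, 0, 0, 1]), (42265, [1, 0, 1, 0, 0, 0, 0]), (44725, [1]),
   (39865, [0, 1, 1, 0]), (42925, [0]), (42355, [0, 1, 0, 0]), (44155, [0, 0, 0, 0, 1, 0]),
   (39475, [0, 1, 0, 1]), (43225, [1, 1, 0, 1]), (39625, [1, 0, 0, 0, 1, 0]),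
   (41605, [1, 1, 0, 0]), (44750, [1, 1]), (41150, [1, 0, 1, 1, 0]), (43130, [1, 0]),
   (43640, [1, 0, 1, 0, 1, 1, 0, 0]), (44180, [0, 1, 0, 1, 0, 0, 0, 0]),
   (39680, [1, 1, 0, 1, 0, 0, 0, 0]), (44300, [0, 1, 1, 0, 0]), (39800, [1, 0, 1, 0, 0]),
   (40340, [1, 0, 1, 0, 1]), (40850, [0, 0, 1, 1, 0]), (42830, [0, 1]), (39230, [0, 0]),
   (42375, [0, 0, 0, 0]), (44355, [0, 1, 0, 0, 0]), (40755, [0, 0, 0, 1]),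
   (44505, [1, 0, 1, 0, 0, 0]), (39825, [1, 0, 0, 0, 0]), (41625, [1, 0, 0, 0, 1]),
   (41055, [0, 0, 1, 0]), (44115, [1, 1, 0, 1, 0, 0, 0]), (39255, [0, 0, 1, 1]),
   (41715, [0, 1, 0, 1, 0]), (39375, [0, 1, 0, 1, 1]), (40275, [1, 0, 1, 0, 1, 1]),
   (43240, [1, 1, 0, 1, 1]), (40900, [0, 1, 0, 1, 0, 0]), (41800, [1, 1, 0, 1, 0]),
   (42130, [0, 1, 0, 1, 1, 0]), (42850, [0, 1, 1]), (39430, [0, 1, 0]), (43000, [1, 0, 1, 1]),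
   (39580, [1, 0, 1, 0, 1, 1, 0]), (40300, [1, 0, 1, 0]), (40630, [0, 0, 0]),
   (41530, [1, 0, 0, 0]), (39190, [0, 0, 1])]

/-- Words for the stabiliser of a point in the images. -/
def fiveB : List (ℕ × List ℕ) :=
  [(44790, []), (42450, [1, 0, 1, 0, 0]), (43350, [0, 1, 1, 0, 0, 0]), (43680, [0, 1, 0, 0]),
   (44400, [1, 1]), (40980, [0, 1, 0, 1, 1, 0]), (44550, [1]), (41130, [1, 1, 0, 1, 0, 0]),
   (41850, [1, 0, 1, 1, 0, 0, 0]), (42180, [1, 0, 1, 0, 0, 1]), (43080, [0, 1, 0, 0, 1]),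
   (40740, [1, 1, 0, 1, 0, 0, 1]), (43705, [1, 0, 1, 1, 0, 1, 1]),
   (44605, [0, 1, 0, 1, 1, 0, 0]), (42265, [1, 0, 0, 1]), (44725, [0, 1, 1, 0, 1, 0]),
   (39865, [0, 1, 1, 0, 0]), (42925, [1, 0, 1, 1, 0, 1]), (42355, [1, 1, 0, 0, 0]),
   (44155, [0, 1, 0, 0, 0, 0]), (39475, [0, 0, 0, 0]), (43225, [1, 0, 1, 1, 0]),
   (39625, [1, 0, 1, 0]), (41605, [1, 0, 0]), (44750, [1, 0, 0, 1, 0, 1]),
   (41150, [0, 1, 1, 0, 1, 1]), (43130, [0, 0, 1]), (43640, [1, 0, 0, 0]),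
   (44180, [1, 0, 0, 1, 0]), (39680, [0, 1, 0, 1]), (44300, [1, 0, 0, 1, 0, 1, 1]),
   (39800, [0, 1, 0, 1, 1]), (40340, [0, 1, 1, 0, 1]), (40850, [0, 1, 1, 0]), (42830, [0, 0]),
   (39230, [0, 1, 0]), (42375, [0, 1, 0, 0, 1, 0]), (44355, [0, 0, 1, 0, 1]),
   (40755, [0, 1, 0, 0, 0]), (44505, [0, 0, 1, 0, 1, 1]), (39825, [1, 0, 1, 1, 0, 0]),
   (41625, [1, 1, 0, 1, 1, 0, 1]), (41055, [0, 0, 0]), (44115, [0, 0, 1, 0]),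
   (39255, [1, 0, 0, 0, 0]), (41715, [1, 1, 0, 1, 1, 0]), (39375, [1, 1, 0, 1, 0]),
   (40275, [1, 1, 0, 0]), (43240, [1, 1, 0]), (40900, [1, 0]), (41800, [0]), (42130, [0, 1]),
   (42850, [1, 1, 0, 1, 1]), (39430, [0, 1, 1, 0, 1, 0, 0]), (43000, [1, 1, 0, 1]),
   (39580, [1, 0, 0, 1, 0, 1, 1, 0]), (40300, [1, 0, 1, 1]), (40630, [1, 0, 1]),
   (41530, [0, 1, 1]), (39190, [0, 0, 1, 0, 1, 1, 0])]

/-- Words for the stabiliser of a pair. -/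
def fourA : List (ℕ × List ℕ) :=
  [(44790, []), (38130, [1, 0, 0]), (38280, [1, 2]), (44400, [2, 2, 0, 0]), (44550, [2, 1, 0]),
   (37890, [2, 0]), (38305, [1]), (44605, [0, 0]), (44725, [2]), (37705, [0, 2, 2]),
   (38035, [2, 2, 0]), (44155, [1, 2, 0]), (44750, [2, 2]), (37910, [1, 2, 0, 0]),
   (38240, [2, 1]), (44180, [2, 0, 0]), (44300, [1, 0]), (37640, [0]), (38055, [2, 0, 0, 0]),
   (44355, [2, 0, 1]), (44505, [2, 2, 0, 1]), (37665, [0, 2]), (37815, [0, 0, 0]),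
   (44115, [0, 1])]

/-- Words for the stabiliser of a pair in the images. -/
def fourB : List (ℕ × List ℕ) :=
  [(44790, []), (38130, [1, 0, 2]), (38280, [2, 1, 0]), (44400, [2, 2]), (44550, [2]),
   (37890, [1, 0]), (38305, [2, 2, 0]), (44605, [1, 0, 0]), (44725, [2, 0, 0]),
   (37705, [0, 0, 0]), (38035, [1, 2, 0]), (44155, [0, 2, 0]), (44750, [2, 1, 2]),
   (37910, [2, 0]), (38240, [0, 1]), (44180, [2, 1]), (44300, [0, 0]), (37640, [0, 1, 2]),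
   (38055, [0]), (44355, [1, 2]), (44505, [1, 2, 2]), (37665, [0, 2, 2]), (37815, [0, 2]),
   (44115, [1])]

/-- The six synthematic totals. -/
def tot : Fin 6 → List P6 :=
  ![[Equiv.swap 0 1 * Equiv.swap 2 4 * Equiv.swap 3 5,
      Equiv.swap 0 2 * Equiv.swap 1 3 * Equiv.swap 4 5,
      Equiv.swap 0 3 * Equiv.swap 1 4 * Equiv.swap 2 5,
      Equiv.swap 0 4 * Equiv.swap 1 5 * Equiv.swap 2 3,
      Equiv.swap 0 5 * Equiv.swap 1 2 * Equiv.swap 3 4],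
    [Equiv.swap 0 1 * Equiv.swap 2 4 * Equiv.swap 3 5,
      Equiv.swap 0 2 * Equiv.swap 1 5 * Equiv.swap 3 4,
      Equiv.swap 0 3 * Equiv.swap 1 2 * Equiv.swap 4 5,
      Equiv.swap 0 4 * Equiv.swap 1 3 * Equiv.swap 2 5,
      Equiv.swap 0 5 * Equiv.swap 1 4 * Equiv.swap 2 3],
    [Equiv.swap 0 1 * Equiv.swap 2 5 * Equiv.swap 3 4,
      Equiv.swap 0 2 * Equiv.swap 1 3 * Equiv.swap 4 5,
      Equiv.swap 0 3 * Equiv.swap 1 5 * Equiv.swap 2 4,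
      Equiv.swap 0 4 * Equiv.swap 1 2 * Equiv.swap 3 5,
      Equiv.swap 0 5 * Equiv.swap 1 4 * Equiv.swap 2 3],
    [Equiv.swap 0 1 * Equiv.swap 2 5 * Equiv.swap 3 4,
      Equiv.swap 0 2 * Equiv.swap 1 4 * Equiv.swap 3 5,
      Equiv.swap 0 3 * Equiv.swap 1 2 * Equiv.swap 4 5,
      Equiv.swap 0 4 * Equiv.swap 1 5 * Equiv.swap 2 3,
      Equiv.swap 0 5 * Equiv.swap 1 3 * Equiv.swap 2 4],
    [Equiv.swap 0 1 * Equiv.swap 2 3 * Equiv.swap 4 5,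
      Equiv.swap 0 2 * Equiv.swap 1 4 * Equiv.swap 3 5,
      Equiv.swap 0 3 * Equiv.swap 1 5 * Equiv.swap 2 4,
      Equiv.swap 0 4 * Equiv.swap 1 3 * Equiv.swap 2 5,
      Equiv.swap 0 5 * Equiv.swap 1 2 * Equiv.swap 3 4],
    [Equiv.swap 0 1 * Equiv.swap 2 3 * Equiv.swap 4 5,
      Equiv.swap 0 2 * Equiv.swap 1 5 * Equiv.swap 3 4,
      Equiv.swap 0 3 * Equiv.swap 1 4 * Equiv.swap 2 5,
      Equiv.swap 0 4 * Equiv.swap 1 2 * Equiv.swap 3 5,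
      Equiv.swap 0 5 * Equiv.swap 1 3 * Equiv.swap 2 4]]

theorem f_table : ∀ g : P6, code g ∈ nList ∨ (fTab.any fun e => e.1 == code g &&
    (decide (eval [f, g] e.2 = ea) || decide (eval [f, g] e.2 = eb))) = true ∨
    Equiv.Perm.sign g = -1 := by
  decide +kernel

theorem t_table : ∀ g : P6, code g ∈ tList ∨ (tTab.any fun e => e.1 == code g &&
    (decide (eval [t1, t2, g] e.2 = ea) || decide (eval [t1, t2, g] e.2 = eb))) = true ∨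
    Equiv.Perm.sign g = -1 := by
  decide +kernel

theorem five_table : ∀ g : P6, g 5 = 5 → ((fiveA.any fun e => e.1 == code g && decide (eval [f, ea] e.2 = g)) &&
    fiveB.any fun e => e.1 == code g && decide (eval [thf, theb] e.2 = g)) = true ∨
    Equiv.Perm.sign g = -1 := by
  decide +kernel

theorem four_table : ∀ g : P6, g 4 = 4 ∧ g 5 = 5 ∨ g 4 = 5 ∧ g 5 = 4 →
    ((fourA.any fun e => e.1 == code g && decide (eval [t1, t2, ea] e.2 = g)) &&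
    fourB.any fun e => e.1 == code g && decide (eval [tht1, tht2, theb] e.2 = g)) = true ∨
    Equiv.Perm.sign g = -1 := by
  decide +kernel

theorem even_gens : ∀ g ∈ [f, ea, eb, t1, t2, thf, theb, tht1, tht2], Equiv.Perm.sign g = 1 := by
  decide +kernel

theorem exists_triple : ∀ i j k : Fin 6, i ≠ j → i ≠ k → j ≠ k →
    ∃ g : P6, g 4 = i ∧ g 5 = j ∧ g 3 = k ∧ Equiv.Perm.sign g = 1 := by
  decide +kernel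

theorem tot_swap : ∀ a c i : Fin 6, ∃ j, ∀ s ∈ tot i, Equiv.swap a c * s * Equiv.swap a c ∈ tot j := by
  decide +kernel

theorem tot_unique : ∀ j k, (∀ s ∈ tot j, s ∈ tot k) → j = k := by
  decide +kernel

theorem tot_meet : ∀ i, ∀ s ∈ tot i, ∃ k, k ≠ i ∧ s ∈ tot k ∧ ∀ s' ∈ tot i, s' ∈ tot k → s' = s := by
  decide +kernel

theorem tot_faithful : ∀ b : P6, (∀ s ∈ tot 0, b * s = s * b) → (∀ s ∈ tot 1, b * s = s * b) → b = 1 := by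
  decide +kernel

/-- The permutation of the totals. -/
def thetaFun (b : P6) (i : Fin 6) : Fin 6 :=
  ((List.finRange 6).find? fun j => (tot i).all fun s => decide (b * s * b⁻¹ ∈ tot j)).getD 0

theorem exists_image (b : P6) : ∀ i, ∃ j, ∀ s ∈ tot i, b * s * b⁻¹ ∈ tot j := by
  induction b using Equiv.Perm.swap_induction_on with
  | one => exact fun i => ⟨i, fun s hs => by simpa using hs⟩
  | swap_mul b a c _ ih =>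
    intro i
    obtain ⟨j, hj⟩ := ih i
    obtain ⟨k, hk⟩ := tot_swap a c j
    refine ⟨k, fun s hs => ?_⟩
    have := hk _ (hj s hs)
    rwa [mul_inv_rev, Equiv.swap_inv, show Equiv.swap a c * b * s * (b⁻¹ * Equiv.swap a c) =
      Equiv.swap a c * (b * s * b⁻¹) * Equiv.swap a c by group]

theorem thetaFun_spec (b : P6) (i : Fin 6) : ∀ s ∈ tot i, b * s * b⁻¹ ∈ tot (thetaFun b i) := by
  obtain ⟨j, hj⟩ := exists_image b i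
  unfold thetaFun
  cases h : (List.finRange 6).find? fun j => (tot i).all fun s => decide (b * s * b⁻¹ ∈ tot j) with
  | none =>
    exfalso
    have := List.find?_eq_none.1 h j (List.mem_finRange j)
    simp only [List.all_eq_true, decide_eq_true_eq] at this
    exact this hj
  | some k =>
    have := List.find?_some h
    simp only [List.all_eq_true, decide_eq_true_eq] at this
    exact this

theorem thetaFun_mul (b c : P6) (i : Fin 6) : thetaFun (b * c) i = thetaFun b (thetaFun c i) := by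
  set j := thetaFun b (thetaFun c i) with hj
  set k := thetaFun (b * c) i with hk
  have h1 : ∀ s ∈ tot i, (b * c) * s * (b * c)⁻¹ ∈ tot j := fun s hs => by
    have := thetaFun_spec b _ _ (thetaFun_spec c i s hs)
    rwa [show (b * c) * s * (b * c)⁻¹ = b * (c * s * c⁻¹) * b⁻¹ by group]
  obtain ⟨l, hl⟩ := exists_image (b * c)⁻¹ k
  obtain ⟨l', hl'⟩ := exists_image (b * c)⁻¹ j
  have ekl : l = i := (tot_unique i l fun s hs => by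
    have := hl _ (thetaFun_spec (b * c) i s hs)
    rwa [inv_inv, show (b * c)⁻¹ * (b * c * s * (b * c)⁻¹) * (b * c) = s by group] at this).symm
  subst ekl
  refine tot_unique k j fun s hs => ?_
  have := h1 _ (hl s hs)
  rwa [inv_inv, show b * c * ((b * c)⁻¹ * s * (b * c)) * (b * c)⁻¹ = s by group] at this

theorem thetaFun_one (i : Fin 6) : thetaFun 1 i = i :=
  (tot_unique i (thetaFun 1 i) fun s hs => by simpa using thetaFun_spec 1 i s hs).symm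

/-- The action on the totals. -/
def thetaHom : P6 →* P6 where
  toFun b :=
    { toFun := thetaFun b
      invFun := thetaFun b⁻¹
      left_inv := fun i => by rw [← thetaFun_mul, inv_mul_cancel, thetaFun_one]
      right_inv := fun i => by rw [← thetaFun_mul, mul_inv_cancel, thetaFun_one] }
  map_one' := Equiv.ext thetaFun_one
  map_mul' b c := Equiv.ext (thetaFun_mul b c)

theorem thetaHom_apply (b : P6) (i : Fin 6) : thetaHom b i = thetaFun b i := rfl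

theorem thetaHom_injective : Function.Injective thetaHom := by
  refine (injective_iff_map_eq_one _).2 fun b hb => ?_
  have hfix : ∀ i, ∀ s ∈ tot i, b * s * b⁻¹ ∈ tot i := fun i s hs => by
    have h : thetaFun b i = i := Equiv.ext_iff.1 hb i
    simpa [h] using thetaFun_spec b i s hs
  have hall : ∀ i, ∀ s ∈ tot i, b * s = s * b := fun i s hs => by
    obtain ⟨k, -, hsk, huniq⟩ := tot_meet i s hs
    exact mul_inv_eq_iff_eq_mul.1 (huniq _ (hfix i s hs) (hfix k s hsk))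
  exact tot_faithful b (hall 0) (hall 1)

/-- The outer automorphism. -/
noncomputable def theta : P6 ≃* P6 :=
  MulEquiv.ofBijective thetaHom
    ⟨thetaHom_injective, Finite.surjective_of_injective thetaHom_injective⟩

theorem theta_apply (b : P6) : theta b = thetaHom b := rfl

theorem theta_gens : thetaHom f = thf ∧ thetaHom eb = theb ∧ thetaHom t1 = tht1 ∧ thetaHom t2 = tht2 := by
  decide +kernel

theorem sign_swap : ∀ a c : Fin 6, a ≠ c → Equiv.Perm.sign (thetaHom (Equiv.swap a c)) = -1 := by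
  decide +kernel

theorem sign_theta (b : P6) : Equiv.Perm.sign (theta b) = Equiv.Perm.sign b := by
  rw [theta_apply]
  induction b using Equiv.Perm.swap_induction_on with
  | one => simp
  | swap_mul b a c hac ih => rw [map_mul, map_mul, map_mul, ih, sign_swap a c hac, Equiv.Perm.sign_swap hac]

end Cfsg.Agent.ExtraTwoNine.CoordPerm
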