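import Cfsg.Agent.Lib.ExtraTwoNine.CoordTools

/-!
The sum of the permutation module of six points and a plane: the case of a fixed space of dimension
six.
-/

set_option autoImplicit false
set_option linter.unusedSectionVars false
set_option maxRecDepth 20000

namespace Cfsg.Agent.ExtraTwoNine

open Cfsg.Agent.LargeExtra.SixTwo CoordPerm

universe u v

/-- A vector selected by a coefficient. -/
def sel {V : Type v} [AddCommGroup V] (c : ZMod 2) (x : V) : V := if c = 1 then x else 0

theorem sel_add {V : Type v} [AddCommGroup V] (two : ∀ x : V, x + x = 0) (a c : ZMod 2) (x : V) :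
    sel (a + c) x = sel a x + sel c x := by
  rcases zmod_two a with rfl | rfl <;> rcases zmod_two c with rfl | rfl <;> simp [sel, two, add_self']

theorem b_sel {V : Type v} [AddCommGroup V] (F : QF V) (a : ZMod 2) (x y : V) :
    F.b (sel a x) y = a * F.b x y := by
  rcases zmod_two a with rfl | rfl <;> simp [sel, F.b_zero_left]

theorem vecOf_two_pow {V : Type v} [AddCommGroup V] (basis : Fin 8 → V) (i : Fin 8) :
    vecOf basis (2 ^ (i : ℕ)) = basis i := by
  rw [vecOf, Finset.sum_eq_single i]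
  · rw [if_pos (Nat.testBit_two_pow_self)]
  · intro j _ hj
    rw [if_neg]
    rw [Nat.testBit_two_pow]
    simpa using fun h => hj (Fin.ext h.symm)
  · simp

theorem ap_lt (L : List ℕ) (v : ℕ) (hL : ∀ x ∈ L, x < 256) : ap L v < 256 := by
  have key : ∀ l : List ℕ, ∀ s < 256,
      l.foldl (fun s i => if v.testBit i then s ^^^ L.getD i 0 else s) s < 256 := by
    intro l
    induction l with
    | nil => exact fun s hs => hs
    | cons i l ih =>
      intro s hs
      refine ih _ ?_
      dsimp only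
      split
      · refine Nat.xor_lt_two_pow (n := 8) hs ?_
        rcases Nat.lt_or_ge i L.length with hi | hi
        · rw [List.getD_eq_getElem _ _ hi]; exact hL _ (List.getElem_mem hi)
        · rw [List.getD_eq_default _ _ hi]; norm_num
      · exact hs
  exact key _ 0 (by norm_num)

namespace SumTables

theorem q_table : ∀ κ : Bool, ∀ n : Fin 256,
    qAcc (fun i => if i < 6 then (if κ then 1 else 0) else 1)
      (fun i j => if (i < 6 ↔ j < 6) then 1 else 0) 8 n = if qv (Kind.sum κ) n then 1 else 0 := by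
  decide +kernel

theorem nd_table : ∀ n : Fin 256, n ≠ 0 →
    ∃ j : Fin 8, bAcc (fun i j => if (i < 6 ↔ j < 6) then 1 else 0) n j ≠ 0 := by
  decide +kernel

theorem fix_table : ∀ κ : Bool, ∀ n : Fin 64, ap (img (Kind.sum κ) 1 f false) n = n →
    ap (img (Kind.sum κ) 1 ea false) n = n → n = 0 ∨ n = 32 ∨ n = 31 ∨ n = 63 := by
  decide +kernel

theorem q_vals : ∀ κ : Bool, qv (Kind.sum κ) 63 = true := by
  decide +kernel

theorem pick_four : ∀ c : Fin 6 → ZMod 2, c ≠ 0 → c ≠ 1 → ∃ i j k l : Fin 6,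
    c i ≠ c j ∧ k ≠ i ∧ k ≠ j ∧ l ≠ i ∧ l ≠ j ∧ k ≠ l ∧ c k = c l := by
  decide +kernel

theorem other : ∀ i j : Fin 6, ∃ k, k ≠ i ∧ k ≠ j := by
  decide +kernel

theorem exists_pair_perm {i j : Fin 6} (hij : i ≠ j) :
    ∃ g : P6, g 4 = i ∧ g 5 = j ∧ Equiv.Perm.sign g = 1 := by
  obtain ⟨k, hki, hkj⟩ := other i j
  obtain ⟨g, h4, h5, -, hs⟩ := exists_triple i j k hij hki.symm hkj.symm
  exact ⟨g, h4, h5, hs⟩

theorem exists_fix (i j : Fin 6) (hi : i ≠ 5) (hj : j ≠ 5) :
    ∃ g : P6, Equiv.Perm.sign g = 1 ∧ g 5 = 5 ∧ g i = j := by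
  obtain ⟨a, a4, a5, ha⟩ := exists_pair_perm hi
  obtain ⟨c, c4, c5, hc⟩ := exists_pair_perm hj
  have a5' : a⁻¹ 5 = 5 := by rw [Equiv.Perm.inv_eq_iff_eq, a5]
  have a4' : a⁻¹ i = 4 := by rw [Equiv.Perm.inv_eq_iff_eq, a4]
  exact ⟨c * a⁻¹, by rw [map_mul, map_inv, ha, hc, inv_one, one_mul],
    by rw [Equiv.Perm.mul_apply, a5', c5], by rw [Equiv.Perm.mul_apply, a4', c4]⟩

theorem exists_to : ∀ i : Fin 6, ∃ g : P6, Equiv.Perm.sign g = 1 ∧ g 5 = i := by
  decide +kernel

theorem f_facts : f ^ 5 = 1 ∧ f ≠ 1 ∧ f 5 = 5 ∧ ea 5 = 5 := by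
  decide +kernel

end SumTables

/-- Six vectors permuted by the alternating group, one stabilised by each point stabiliser. -/
structure Six {M : Type u} {V : Type v} [Group M] [AddCommGroup V] [DistribMulAction M V]
    (h : Setup M V) where
  /-- The vectors. -/
  v : Fin 6 → V
  mem : ∀ i, v i ∈ fixD h.D
  act : ∀ g : P6, Equiv.Perm.sign g = 1 → ∀ i, h.lift g • v i = v (g i)
  moved : ∃ i, v i ≠ v 5

namespace Setup

variable {M : Type u} {V : Type v} [Group M] [AddCommGroup V] [DistribMulAction M V] [Finite V]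
variable (h : Setup M V)

theorem mem_stab_of_word {x : V} {gens : List P6} (hg : ∀ g ∈ gens, g ∈ h.stab x)
    {tab : List (ℕ × List ℕ)} {g : P6}
    (ht : (tab.any fun e => e.1 == code g && decide (eval gens e.2 = g)) = true) : g ∈ h.stab x := by
  simp only [List.any_eq_true, Bool.and_eq_true, decide_eq_true_eq] at ht
  obtain ⟨e, -, -, he⟩ := ht
  exact he ▸ eval_mem _ hg _

/-- The point stabiliser fixes a vector, after an automorphism. -/
theorem exists_five {x : V} (hf : f ∈ h.stab x)
    (hg : ∃ g ∈ h.stab x, code g ∉ nList) :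
    ∃ (θ : P6 ≃* P6) (hθ : ∀ b, Equiv.Perm.sign (θ b) = Equiv.Perm.sign b),
      ∀ g : P6, Equiv.Perm.sign g = 1 → g 5 = 5 → g ∈ (h.twist θ hθ).stab x := by
  obtain ⟨g, hg, hgn⟩ := hg
  have hne : Equiv.Perm.sign g ≠ -1 := by rw [hg.1]; decide
  have hr := (f_table g).resolve_left hgn |>.resolve_right hne
  simp only [List.any_eq_true, Bool.and_eq_true, Bool.or_eq_true, decide_eq_true_eq] at hr
  obtain ⟨e, -, -, he⟩ := hr
  have hw : eval [f, g] e.2 ∈ h.stab x := eval_mem _ (by simp [hf, hg]) _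
  rcases he with he | he <;> rw [he] at hw
  · refine ⟨MulEquiv.refl _, fun b => rfl, fun k hk hk5 => ?_⟩
    have ht := (five_table k hk5).resolve_right (by rw [hk]; decide)
    rw [Bool.and_eq_true] at ht
    refine (h.twist _ _).mem_stab_of_word (gens := [f, ea]) ?_ ht.1
    intro a ha
    have := h.twist_stab (MulEquiv.refl P6) (fun b => rfl) (g := a) (x := x)
    simp only [List.mem_cons, List.not_mem_nil, or_false] at ha
    rcases ha with rfl | rfl
    · exact this hf
    · exact this hw
  · refine ⟨theta, sign_theta, fun k hk hk5 => ?_⟩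
    have ht := (five_table k hk5).resolve_right (by rw [hk]; decide)
    rw [Bool.and_eq_true] at ht
    refine (h.twist _ _).mem_stab_of_word (gens := [thf, theb]) ?_ ht.2
    intro a ha
    simp only [List.mem_cons, List.not_mem_nil, or_false] at ha
    rcases ha with rfl | rfl
    · have := h.twist_stab theta sign_theta hf
      rwa [theta_apply, theta_gens.1] at this
    · have := h.twist_stab theta sign_theta hw
      rwa [theta_apply, theta_gens.2.1] at this

/-- Two vectors of the plane fixed by an element of order five, with few companions. -/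
theorem exists_pair (hC : Nat.card (fixD h.D) = 64)
    (hU : ∀ g : P6, Equiv.Perm.sign g = 1 → ∀ x ∈ movD h.D, h.lift g • x = x) :
    ∃ x ∈ fixD h.D, f ∈ h.stab x ∧ (∃ g : P6, Equiv.Perm.sign g = 1 ∧ h.lift g • x ≠ x) ∧
      Nat.card {y // y ∈ fixD h.D ∧ h.F.q y = h.F.q x} ≤ 28 := by
  classical
  letI := h.altAct
  haveI := h.altAct_faithful
  haveI := simple_alt
  haveI : Fact (Nat.Prime 5) := ⟨by norm_num⟩
  have : Fintype V := Fintype.ofFinite V
  have : Fintype (fixD h.D) := Fintype.ofFinite _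
  have hsf : Equiv.Perm.sign f = 1 := even_gens f (by simp)
  let A := ↥(alternatingGroup (Fin 6))
  let fA : A := ⟨f, Equiv.Perm.mem_alternatingGroup.2 hsf⟩
  have hord : orderOf fA = 5 := orderOf_eq_prime (Subtype.ext SumTables.f_facts.1)
    (fun e => SumTables.f_facts.2.1 (congrArg Subtype.val e))
  have hspan : ∀ x, ∃ c ∈ fixD h.D, ∃ w ∈ movD h.D, x = c + w := fun x =>
    ⟨_, (h.decompose x).1, _, (h.decompose x).2.1, (h.decompose x).2.2⟩
  let FC := h.F.restrict (fixD h.D) (movD h.D) hspan fun c hc w hw => h.orth hc hw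
  have hsing := FC.card_singular_cases (m := 8) (by rw [← Nat.card_eq_fintype_card]; exact hC)
  rw [show Nat.card {x : fixD h.D // FC.q x = 0} = Nat.card {x // x ∈ fixD h.D ∧ h.F.q x = 0} from
    Nat.card_congr (Equiv.subtypeSubtypeEquivSubtypeInter (fun x => x ∈ fixD h.D) (fun x => h.F.q x = 0))]
    at hsing
  let cls : ZMod 2 → Finset V := fun t => Finset.univ.filter fun x => x ∈ fixD h.D ∧ h.F.q x = t
  let fcls : ZMod 2 → Finset V := fun t => (cls t).filter fun x => h.lift f • x = x
  have hcls : ∀ t, Nat.card {x // x ∈ fixD h.D ∧ h.F.q x = t} = (cls t).card := fun t => by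
    rw [Nat.card_eq_fintype_card, Fintype.card_subtype]
  have hmod : ∀ t, (cls t).card ≡ (fcls t).card [MOD 5] := by
    intro t
    have := modEq_fixed_subset (A := A) hord (fun x => x ∈ fixD h.D ∧ h.F.q x = t)
      (fun a x hx => ⟨h.fixD_smul _ hx.1, (h.iso _ x).trans hx.2⟩)
    rw [hcls] at this
    have e : Nat.card {x // (x ∈ fixD h.D ∧ h.F.q x = t) ∧ fA • x = x} = (fcls t).card := by
      rw [Nat.card_eq_fintype_card, Fintype.card_subtype]
      congr 1
      simp only [fcls, cls, Finset.filter_filter]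
      exact Finset.filter_congr fun x _ => Iff.rfl
    rwa [e] at this
  let Φ : AddSubgroup V :=
    { carrier := {x | x ∈ fixD h.D ∧ h.lift f • x = x}
      add_mem' := fun {x y} hx hy => ⟨add_mem hx.1 hy.1, by rw [smul_add, hx.2, hy.2]⟩
      zero_mem' := ⟨zero_mem _, smul_zero _⟩
      neg_mem' := fun {x} hx => ⟨neg_mem hx.1, by rw [smul_neg, hx.2]⟩ }
  have hsplit : ∀ (P : V → Prop) [DecidablePred P],
      (Finset.univ.filter P).card = ((Finset.univ.filter P).filter fun x => h.F.q x = 0).card +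
        ((Finset.univ.filter P).filter fun x => h.F.q x = 1).card := by
    intro P _
    rw [← Finset.card_filter_add_card_filter_not (s := Finset.univ.filter P) (p := fun x => h.F.q x = 0)]
    congr 2
    exact Finset.filter_congr fun x _ => ⟨(zmod_two _).resolve_left, fun e e0 => by rw [e] at e0; exact one_ne_zero e0⟩
  have htotC := hsplit (fun x => x ∈ fixD h.D)
  have htotP := hsplit (fun x => x ∈ Φ)
  have eC : ∀ t, ((Finset.univ.filter fun x => x ∈ fixD h.D).filter fun x => h.F.q x = t) = cls t :=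
    fun t => by rw [Finset.filter_filter]
  have eP : ∀ t, ((Finset.univ.filter fun x => x ∈ Φ).filter fun x => h.F.q x = t) = fcls t :=
    fun t => Finset.ext fun x => by
      simp [fcls, cls, Φ]; tauto
  rw [eC, eC, show (Finset.univ.filter fun x => x ∈ fixD h.D).card = 64 by
    rw [← Fintype.card_subtype, ← Nat.card_eq_fintype_card]; exact hC] at htotC
  have hΦc : (Finset.univ.filter fun x => x ∈ Φ).card = Nat.card Φ := by
    rw [← Fintype.card_subtype, ← Nat.card_eq_fintype_card]
  rw [eP, eP, hΦc] at htotP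
  rw [hcls] at hsing
  obtain ⟨i, hi, hi2⟩ := (Nat.dvd_prime_pow Nat.prime_two).1
    (show Nat.card Φ ∣ 2 ^ 6 by
      have := AddSubgroup.card_dvd_of_le (show Φ ≤ fixD h.D from fun x hx => hx.1)
      rwa [hC] at this)
  have h0 := hmod 0
  have h1 := hmod 1
  unfold Nat.ModEq at h0 h1
  have hΦne : Nat.card Φ ≠ 64 := by
    intro e
    have heq : Φ = fixD h.D :=
      AddSubgroup.eq_of_le_of_card_ge (fun x hx => hx.1) (by rw [hC, e])
    have hall : ∀ x : V, h.lift f • x = x := fun x => by
      obtain ⟨c, hc, w, hw, rfl⟩ := hspan x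
      rw [smul_add, hU f hsf w hw, (heq.symm ▸ hc : c ∈ Φ).2]
    have := congrArg Prod.snd (h.faithful _ hall)
    rw [h.lift_ψ hsf] at this
    exact SumTables.f_facts.2.1 this
  have hΦ4 : Nat.card Φ = 4 := by
    have hp : ∀ i ≤ 6, 2 ^ i % 5 = 4 → i = 2 ∨ i = 6 := by decide
    rcases hp i hi (by omega) with rfl | rfl
    · omega
    · exact absurd hi2 hΦne
  have h0mem : (0 : V) ∈ fcls 0 := by simp [fcls, cls, h.F.q_zero, zero_mem]
  have h0pos : 0 < (fcls 0).card := Finset.card_pos.2 ⟨0, h0mem⟩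
  -- two vectors with few companions
  obtain ⟨a, ha, c, hc, hac, hsa, hsc⟩ : ∃ a ∈ Φ, ∃ c ∈ Φ, h.F.b a c = 1 ∧
      (cls (h.F.q a)).card ≤ 28 ∧ (cls (h.F.q c)).card ≤ 28 := by
    have hmemΦ : ∀ t, ∀ x ∈ fcls t, x ∈ Φ ∧ h.F.q x = t := fun t x hx => by
      simp [fcls, cls] at hx
      exact ⟨⟨hx.1.1, hx.2⟩, hx.1.2⟩
    have hinΦ : ∀ x ∈ Φ, x ∈ fcls (h.F.q x) := fun x hx => by
      simp [fcls, cls]; exact ⟨hx.1, hx.2⟩
    rcases hsing with hs | hs
    · -- 36 singular vectors
      obtain ⟨a, c, w, hac, -, -, he⟩ := Finset.card_eq_three.1 (show (fcls 1).card = 3 by omega)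
      have ha := hmemΦ 1 a (by rw [he]; simp)
      have hc := hmemΦ 1 c (by rw [he]; simp)
      refine ⟨a, ha.1, c, hc.1, ?_, by rw [ha.2]; omega, by rw [hc.2]; omega⟩
      have hz : h.F.q (a + c) = 1 := by
        refine (zmod_two _).resolve_left fun e => hac ?_
        have hm := hinΦ _ (add_mem ha.1 hc.1)
        rw [e] at hm
        have := Finset.card_le_one.1 (show (fcls 0).card ≤ 1 by omega) _ hm _ h0mem
        rw [← add_zero a, ← h.F.two c, ← add_assoc, this, zero_add]
      rw [h.F.polar, ha.2, hc.2, add_self', zero_add] at hz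
      exact hz
    · -- 28 singular vectors
      obtain ⟨a, c, hac, he⟩ := Finset.card_eq_two.1
        (show ((fcls 0).erase 0).card = 2 by rw [Finset.card_erase_of_mem h0mem]; omega)
      have ha' : a ∈ (fcls 0).erase 0 := by rw [he]; simp
      have hc' : c ∈ (fcls 0).erase 0 := by rw [he]; simp
      rw [Finset.mem_erase] at ha' hc'
      have ha := hmemΦ 0 a ha'.2
      have hc := hmemΦ 0 c hc'.2
      refine ⟨a, ha.1, c, hc.1, ?_, by rw [ha.2]; omega, by rw [hc.2]; omega⟩
      have hz : h.F.q (a + c) = 1 := by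
        refine (zmod_two _).resolve_left fun e => ?_
        have hm := hinΦ _ (add_mem ha.1 hc.1)
        rw [e] at hm
        have hne : a + c ≠ 0 := fun e0 => hac (by rw [← add_zero a, ← h.F.two c, ← add_assoc, e0, zero_add])
        have : a + c ∈ (fcls 0).erase 0 := Finset.mem_erase.2 ⟨hne, hm⟩
        rw [he] at this
        simp [ha'.1, hc'.1] at this
      rw [h.F.polar, ha.2, hc.2, add_self', zero_add] at hz
      exact hz
  by_cases hmov : ∃ g : P6, Equiv.Perm.sign g = 1 ∧ h.lift g • a ≠ a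
  · exact ⟨a, ha.1, ⟨hsf, ha.2⟩, hmov, (hcls _).trans_le hsa⟩
  by_cases hmov' : ∃ g : P6, Equiv.Perm.sign g = 1 ∧ h.lift g • c ≠ c
  · exact ⟨c, hc.1, ⟨hsf, hc.2⟩, hmov', (hcls _).trans_le hsc⟩
  exfalso
  push Not at hmov hmov'
  let W : AddSubgroup V :=
    { carrier := {x | x ∈ fixD h.D ∧ h.F.b x a = 0 ∧ h.F.b x c = 0}
      add_mem' := fun {x y} hx hy => ⟨add_mem hx.1 hy.1, by rw [h.F.add_left, hx.2.1, hy.2.1, add_zero],
        by rw [h.F.add_left, hx.2.2, hy.2.2, add_zero]⟩
      zero_mem' := ⟨zero_mem _, h.F.b_zero_left _, h.F.b_zero_left _⟩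
      neg_mem' := fun {x} hx => by rwa [neg_eq_of_add_eq_zero_left (h.F.two x)] }
  have hca : h.F.b c a = 1 := (b_comm' h.F c a).trans hac
  let w : V → V := fun x => x + sel (h.F.b x c) a + sel (h.F.b x a) c
  have hw : ∀ x ∈ fixD h.D, w x ∈ W := fun x hx => by
    refine ⟨add_mem (add_mem hx ?_) ?_, ?_, ?_⟩
    · unfold sel; split
      · exact ha.1
      · exact zero_mem _
    · unfold sel; split
      · exact hc.1
      · exact zero_mem _
    · simp only [w, h.F.add_left, b_sel, b_self, hca, mul_zero, mul_one, add_zero, add_self']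
    · simp only [w, h.F.add_left, b_sel, b_self, hac, mul_zero, mul_one, add_zero, add_self']
  let W' : AddSubgroup V :=
    { carrier := {x | ∀ y ∈ W, h.F.b y x = 0}
      add_mem' := fun {x y} hx hy z hz => by rw [h.F.add_right, hx z hz, hy z hz, add_zero]
      zero_mem' := fun z _ => h.F.b_zero_right z
      neg_mem' := fun {x} hx => by rwa [neg_eq_of_add_eq_zero_left (h.F.two x)] }
  have hspanW : ∀ x, ∃ y ∈ W, ∃ z ∈ W', x = y + z := fun x => by
    obtain ⟨c', hc', u, hu, rfl⟩ := hspan x
    refine ⟨_, hw c' hc', sel (h.F.b c' c) a + sel (h.F.b c' a) c + u, fun y hy => ?_, ?_⟩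
    · rw [h.F.add_right, h.F.add_right, b_comm' h.F y (sel _ a), b_comm' h.F y (sel _ c), b_sel, b_sel,
        b_comm' h.F a y, b_comm' h.F c y, hy.2.1, hy.2.2, h.orth hy.1 hu, mul_zero, mul_zero, add_zero,
        add_zero]
    · simp only [w]
      rw [show c' + sel (h.F.b c' c) a + sel (h.F.b c' a) c + (sel (h.F.b c' c) a + sel (h.F.b c' a) c + u) =
        c' + u + ((sel (h.F.b c' c) a + sel (h.F.b c' c) a) + (sel (h.F.b c' a) c + sel (h.F.b c' a) c)) by
          abel, h.F.two, h.F.two, add_zero, add_zero]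
  have hW16 : Nat.card W = 16 := by
    have e : Nat.card (W × (ZMod 2 × ZMod 2)) = Nat.card (fixD h.D) := by
      refine Nat.card_congr
        { toFun := fun p => ⟨(p.1 : V) + sel p.2.2 a + sel p.2.1 c, add_mem (add_mem p.1.2.1 (by
            unfold sel; split
            · exact ha.1
            · exact zero_mem _)) (by
            unfold sel; split
            · exact hc.1
            · exact zero_mem _)⟩
          invFun := fun x => (⟨w x, hw x x.2⟩, (h.F.b x a, h.F.b x c))
          left_inv := ?_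
          right_inv := ?_ }
      · rintro ⟨⟨y, hy⟩, i, j⟩
        have hb1 : h.F.b (y + sel j a + sel i c) a = i := by
          simp only [h.F.add_left, b_sel, b_self, hca, hy.2.1, mul_zero, mul_one, add_zero, zero_add]
        have hb2 : h.F.b (y + sel j a + sel i c) c = j := by
          simp only [h.F.add_left, b_sel, b_self, hac, hy.2.2, mul_zero, mul_one, add_zero, zero_add]
        refine Prod.ext (Subtype.ext ?_) (Prod.ext hb1 hb2)
        show (y + sel j a + sel i c) + sel (h.F.b _ c) a + sel (h.F.b _ a) c = y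
        rw [hb1, hb2, show y + sel j a + sel i c + sel j a + sel i c =
          y + ((sel j a + sel j a) + (sel i c + sel i c)) by abel, h.F.two, h.F.two, add_zero, add_zero]
      · intro x
        refine Subtype.ext ?_
        show w x + sel (h.F.b x c) a + sel (h.F.b x a) c = x
        simp only [w]
        rw [show (x : V) + sel (h.F.b x c) a + sel (h.F.b x a) c + sel (h.F.b x c) a + sel (h.F.b x a) c =
          x + ((sel (h.F.b x c) a + sel (h.F.b x c) a) + (sel (h.F.b x a) c + sel (h.F.b x a) c)) by abel,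
          h.F.two, h.F.two, add_zero, add_zero]
    rw [Nat.card_prod, Nat.card_prod, Nat.card_zmod, hC] at e
    omega
  have hWA : ∀ (g : A) x, x ∈ W → g • x ∈ W := fun g x hx => by
    have hg := Equiv.Perm.mem_alternatingGroup.1 g.2
    refine ⟨h.fixD_smul _ hx.1, ?_, ?_⟩
    · have := h.smul_b (h.lift (g : P6)) x a
      rw [hmov _ hg, hx.2.1] at this
      exact this
    · have := h.smul_b (h.lift (g : P6)) x c
      rw [hmov' _ hg, hx.2.2] at this
      exact this
  have htriv := four_trivial (A := A) h.F card_alt (fun g x => h.lift_iso _ x) W W' hspanW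
    (fun y hy z hz => hz y hy) hW16 hWA
  have hle : Nat.card W ≤ Nat.card Φ :=
    AddSubgroup.card_le_of_le fun x hx => ⟨hx.1, htriv fA x hx⟩
  omega

/-- A vector fixed by a point stabiliser gives six vectors. -/
theorem exists_six {x : V} (hx : x ∈ fixD h.D) (hmov : ∃ g : P6, Equiv.Perm.sign g = 1 ∧ h.lift g • x ≠ x)
    (hst : ∀ g : P6, Equiv.Perm.sign g = 1 → g 5 = 5 → g ∈ h.stab x) : Nonempty (Six h) := by
  choose t ht using SumTables.exists_to
  have hv : ∀ g : P6, Equiv.Perm.sign g = 1 → h.lift g • x = h.lift (t (g 5)) • x := fun g hg => by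
    have hs : Equiv.Perm.sign ((t (g 5))⁻¹ * g) = 1 := by rw [map_mul, map_inv, (ht _).1, hg, inv_one, one_mul]
    have h5 : ((t (g 5))⁻¹ * g) 5 = 5 := by
      rw [Equiv.Perm.mul_apply, Equiv.Perm.inv_eq_iff_eq]; exact (ht _).2.symm
    have e := (hst _ hs h5).2
    rw [← mul_inv_cancel_left (t (g 5)) g, h.lift_mul (ht _).1 hs, e, mul_inv_cancel_left]
  refine ⟨⟨fun i => h.lift (t i) • x, fun i => h.fixD_smul _ hx, fun g hg i => ?_, ?_⟩⟩
  · rw [← h.lift_mul hg (ht i).1, hv _ (by rw [map_mul, hg, (ht i).1, one_mul]), Equiv.Perm.mul_apply,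
      (ht i).2]
  · obtain ⟨g, hg, hne⟩ := hmov
    refine ⟨g 5, fun e => hne ?_⟩
    have e5 : h.lift (t 5) • x = x := (hst _ (ht 5).1 (ht 5).2).2
    rw [hv g hg]
    exact e.trans e5

end Setup

namespace Six

variable {M : Type u} {V : Type v} [Group M] [AddCommGroup V] [DistribMulAction M V] [Finite V]
variable {h : Setup M V} (S : Six h)

theorem v_injective : Function.Injective S.v := by
  have hne : ∀ i, i ≠ 5 → S.v i ≠ S.v 5 := by
    intro i hi e
    obtain ⟨j, hj⟩ := S.moved
    have hj5 : j ≠ 5 := fun h5 => hj (by rw [h5])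
    obtain ⟨g, hg, g5, gi⟩ := SumTables.exists_fix i j hi hj5
    have := congrArg (h.lift g • ·) e
    simp only [S.act g hg, g5, gi] at this
    exact hj this
  intro i j e
  by_contra hij
  obtain ⟨g, hg, g5⟩ := SumTables.exists_to j
  have hs : Equiv.Perm.sign g⁻¹ = 1 := by rw [map_inv, hg, inv_one]
  have := congrArg (h.lift g⁻¹ • ·) e
  simp only [S.act _ hs] at this
  have hj5 : g⁻¹ j = 5 := by rw [Equiv.Perm.inv_eq_iff_eq, g5]
  rw [hj5] at this
  exact hne _ (fun e5 => hij (by
    have := congrArg g e5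
    rwa [← Equiv.Perm.mul_apply, mul_inv_cancel, Equiv.Perm.one_apply, g5] at this)) this

theorem b_const {i j k l : Fin 6} (hij : i ≠ j) (hkl : k ≠ l) :
    h.F.b (S.v i) (S.v j) = h.F.b (S.v k) (S.v l) := by
  have key : ∀ i j : Fin 6, i ≠ j → h.F.b (S.v i) (S.v j) = h.F.b (S.v 4) (S.v 5) := by
    intro i j hij
    obtain ⟨g, g4, g5, hg⟩ := SumTables.exists_pair_perm hij
    rw [← g4, ← g5, ← S.act g hg, ← S.act g hg, h.smul_b]
  rw [key i j hij, key k l hkl]

theorem q_const (i : Fin 6) : h.F.q (S.v i) = h.F.q (S.v 5) := by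
  obtain ⟨g, hg, g5⟩ := SumTables.exists_to i
  rw [← g5, ← S.act g hg, h.iso]

theorem b_one {i j : Fin 6} (hij : i ≠ j) : h.F.b (S.v i) (S.v j) = 1 := by
  refine (zmod_two _).resolve_left fun e => ?_
  have h0 : ∀ k l, h.F.b (S.v k) (S.v l) = 0 := fun k l => by
    by_cases hkl : k = l
    · rw [hkl, b_self]
    · rw [S.b_const hkl hij, e]
  let φ : (Fin 6 → ZMod 2) →+ V :=
    { toFun := fun c => ∑ m, sel (c m) (S.v m)
      map_zero' := by simp [sel]
      map_add' := fun c c' => by
        rw [← Finset.sum_add_distrib]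
        exact Finset.sum_congr rfl fun m _ => sel_add h.F.two _ _ _ }
  have hker : ∀ c, φ c = 0 → c = 0 ∨ c = 1 := by
    intro c hc
    by_contra hne
    push Not at hne
    obtain ⟨a, b, k, l, hab, hka, hkb, hla, hlb, hkl, hckl⟩ := SumTables.pick_four c hne.1 hne.2
    have hab' : a ≠ b := fun h => hab (by rw [h])
    let g : P6 := Equiv.swap a b * Equiv.swap k l
    have hg : Equiv.Perm.sign g = 1 := by
      rw [map_mul, Equiv.Perm.sign_swap hab', Equiv.Perm.sign_swap hkl]; rfl
    have h1 : φ (c ∘ g) = 0 := by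
      show ∑ m, sel (c (g m)) (S.v m) = 0
      have hs : Equiv.Perm.sign g⁻¹ = 1 := by rw [map_inv, hg, inv_one]
      rw [← smul_zero (h.lift g⁻¹), ← hc]
      show _ = h.lift g⁻¹ • ∑ m, sel (c m) (S.v m)
      rw [Finset.smul_sum]
      refine Fintype.sum_equiv g _ _ fun m => ?_
      unfold sel
      split
      · rw [S.act _ hs]; simp
      · rw [smul_zero]
    have h2 : c + c ∘ g = Pi.single a (1 : ZMod 2) + Pi.single b 1 := by
      have h01 : c a + c b = 1 := by
        rcases zmod_two (c a) with p | p <;> rcases zmod_two (c b) with r | r <;>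
          rw [p, r] at hab ⊢ <;> first | exact absurd rfl hab | decide
      funext m
      simp only [Pi.add_apply, Function.comp_apply, g, Equiv.Perm.mul_apply]
      rcases eq_or_ne m a with rfl | hma
      · rw [Equiv.swap_apply_of_ne_of_ne hka.symm hla.symm, Equiv.swap_apply_left, h01,
          Pi.single_eq_same, Pi.single_eq_of_ne hab', add_zero]
      rcases eq_or_ne m b with rfl | hmb
      · rw [Equiv.swap_apply_of_ne_of_ne hkb.symm hlb.symm, Equiv.swap_apply_right, add_comm, h01,
          Pi.single_eq_same, Pi.single_eq_of_ne hma, zero_add]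
      rw [Pi.single_eq_of_ne hma, Pi.single_eq_of_ne hmb, add_zero]
      rcases eq_or_ne m k with rfl | hmk
      · rw [Equiv.swap_apply_left, Equiv.swap_apply_of_ne_of_ne hla hlb, ← hckl, add_self']
      rcases eq_or_ne m l with rfl | hml
      · rw [Equiv.swap_apply_right, Equiv.swap_apply_of_ne_of_ne hka hkb, hckl, add_self']
      rw [Equiv.swap_apply_of_ne_of_ne hmk hml, Equiv.swap_apply_of_ne_of_ne hma hmb, add_self']
    have h3 : φ (c + c ∘ g) = 0 := by rw [map_add, hc, h1, add_zero]
    have hsingle : ∀ m, φ (Pi.single m 1) = S.v m := fun m => by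
      show ∑ k, sel ((Pi.single m (1 : ZMod 2) : Fin 6 → ZMod 2) k) (S.v k) = _
      rw [Finset.sum_eq_single m (fun k _ hk => by simp [sel, Pi.single_eq_of_ne hk]) (by simp)]
      simp [sel]
    rw [h2, map_add, hsingle, hsingle] at h3
    exact hab' (S.v_injective (by
      rw [← add_zero (S.v a), ← h.F.two (S.v b), ← add_assoc, h3, zero_add]))
  have hk2 : Nat.card φ.ker ≤ 2 :=
    (Nat.card_le_card_of_injective (fun c : φ.ker => decide (c.1 = 0)) (by
      intro x y e
      simp only [decide_eq_decide] at e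
      refine Subtype.ext ?_
      rcases hker _ x.2 with hx | hx <;> rcases hker _ y.2 with hy | hy
      · rw [hx, hy]
      · rw [hx, e.1 hx]
      · rw [hy, e.2 hy]
      · rw [hx, hy])).trans (by simp)
  have hmul := φ.ker.card_mul_index
  rw [AddSubgroup.index_ker] at hmul
  have hbd := isotropic_bound h.F φ.range (by
    rintro x ⟨c, rfl⟩ y ⟨c', rfl⟩
    show h.F.b (∑ m, sel (c m) (S.v m)) (∑ m, sel (c' m) (S.v m)) = 0
    rw [b_sum_left]
    refine Finset.sum_eq_zero fun m _ => ?_
    rw [b_sel, b_comm', b_sum_left, Finset.sum_eq_zero, mul_zero]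
    intro k _
    rw [b_sel, h0, mul_zero])
  rw [h.card] at hbd
  rw [Nat.card_fun, Nat.card_zmod, Nat.card_fin] at hmul
  have := Nat.mul_le_mul_right (Nat.card φ.range) hk2
  nlinarith

/-- The basis. -/
def basisOf (pt : Fin 3 → V) (i : Fin 8) : V :=
  if hi : (i : ℕ) < 6 then S.v ⟨i, hi⟩ else if (i : ℕ) = 6 then pt 0 else pt 1

include S in
/-- The six vectors and a plane give the coordinates. -/
theorem exists_basis (hW4 : Nat.card (movD h.D) = 4)
    (hU : ∀ g : P6, Equiv.Perm.sign g = 1 → ∀ x ∈ movD h.D, h.lift g • x = x) :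
    Nonempty (Basis8 h) := by
  classical
  have two := h.F.two
  -- the plane
  obtain ⟨u0, hu0, hu00⟩ : ∃ u ∈ movD h.D, u ≠ 0 := by
    by_contra hc
    push Not at hc
    have : Subsingleton (movD h.D) :=
      ⟨fun x y => Subtype.ext ((hc x x.2).trans (hc y y.2).symm)⟩
    rw [Nat.card_of_subsingleton (0 : movD h.D)] at hW4
    omega
  let pt0 : Fin 3 → V := ![u0, h.D u0, h.D (h.D u0)]
  have hpt0D : ∀ i, h.D (pt0 i) = pt0 (cyc i) := by
    intro i
    fin_cases i
    · rfl
    · rfl
    · exact h.D_cube u0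
  have hpt0mem : ∀ i, pt0 i ∈ movD h.D := by
    have hD : ∀ x ∈ movD h.D, h.D x ∈ movD h.D := fun x hx => by
      rw [h.D_apply]; exact h.movD_smul _ hx
    intro i
    fin_cases i
    · exact hu0
    · exact hD _ hu0
    · exact hD _ (hD _ hu0)
  have hD1 : h.D u0 ≠ u0 := fun e => hu00 (h.fix_inter_mov (show u0 ∈ fixD h.D from e) hu0)
  have hD2 : h.D (h.D u0) ≠ u0 := fun e => hD1 (by
    have := congrArg h.D e; rw [h.D_cube] at this; exact this.symm)
  have hD12 : h.D u0 ≠ h.D (h.D u0) := fun e => hD2 (by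
    have := congrArg (fun y => h.D (h.D y)) e; simp only [h.D_cube] at this
    have e2 := congrArg h.D this
    rw [← e2] at e ⊢
    exact this.symm.trans (this ▸ rfl))
  have hpt0inj : Function.Injective pt0 := by
    intro i j e
    fin_cases i <;> fin_cases j <;> first
      | rfl
      | exact absurd e hD1.symm | exact absurd e hD1 | exact absurd e hD2.symm | exact absurd e hD2
      | exact absurd e hD12 | exact absurd e hD12.symm
  have hpt0ne : ∀ i, pt0 i ≠ 0 := by
    intro i e
    fin_cases i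
    · exact hu00 e
    · exact hu00 (by rw [← h.D_cube u0, show h.D u0 = 0 from e, map_zero, map_zero])
    · exact hu00 (by rw [← h.D_cube u0, show h.D (h.D u0) = 0 from e, map_zero])
  have hcover : ∀ x ∈ movD h.D, x = 0 ∨ ∃ i, x = pt0 i := by
    intro x hx
    by_contra hc
    push Not at hc
    let e : Option (Option (Fin 3)) → movD h.D := fun o =>
      match o with
      | none => ⟨x, hx⟩
      | some none => ⟨0, zero_mem _⟩
      | some (some i) => ⟨pt0 i, hpt0mem i⟩
    have hinj : Function.Injective e := by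
      rintro (_ | _ | i) (_ | _ | j) hij <;> have hij := congrArg Subtype.val hij <;>
        simp only [e] at hij <;> first
        | rfl
        | exact absurd hij hc.1 | exact absurd hij.symm hc.1
        | exact absurd hij (hc.2 _) | exact absurd hij.symm (hc.2 _)
        | exact absurd hij (hpt0ne _) | exact absurd hij.symm (hpt0ne _)
        | rw [hpt0inj hij]
    have := Nat.card_le_card_of_injective e hinj
    rw [hW4] at this
    simp at this
  have hperm : ∀ m : M, ∃ σ : P3, ∀ i, m • pt0 i = pt0 (σ i) := by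
    intro m
    have : ∀ i, ∃ j, m • pt0 i = pt0 j := fun i => by
      rcases hcover _ (h.movD_smul m (hpt0mem i)) with e | e
      · rw [← inv_smul_smul m (pt0 i)] at *
        exact absurd (by rw [inv_smul_smul] at e; rw [← inv_smul_smul m (pt0 i), e, smul_zero] : pt0 i = 0) (hpt0ne i)
      · exact e
    choose s hs using this
    have hsi : Function.Injective s := fun i j e =>
      hpt0inj (MulAction.injective m ((hs i).trans ((congrArg pt0 e).trans (hs j).symm)))
    exact ⟨Equiv.ofBijective s (Finite.injective_iff_bijective.1 hsi), hs⟩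
  choose σ hσ using hperm
  have hσu : ∀ m (τ : P3), (∀ i, m • pt0 i = pt0 (τ i)) → σ m = τ := fun m τ hτ =>
    Equiv.ext fun i => hpt0inj ((hσ m i).symm.trans (hτ i))
  let p : M →* P3 :=
    { toFun := σ
      map_one' := hσu 1 1 fun i => by simp
      map_mul' := fun m n => hσu _ _ fun i => by
        rw [mul_smul, hσ n i, hσ m, Equiv.Perm.mul_apply] }
  obtain ⟨k, hk⟩ := exists_shift h.ψ p
    (fun m hm => hσu m cyc fun i => by
      rw [← hpt0D i, h.D_apply]
      exact h.congr_ψ (hm.trans h.d_ψ.symm) _)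
    (fun m hm1 hm2 => hσu m 1 fun i => by
      rw [h.congr_ψ (show h.ψ m = h.ψ (h.lift (h.ψ m).2) by rw [h.lift_ψ hm2]; exact Prod.ext hm1 rfl),
        hU _ hm2 _ (hpt0mem i)]
      rfl)
    ⟨h.d, h.d_ψ⟩ h.outer
    (fun m hm => Equiv.ext fun i => hpt0inj (by
      show pt0 (σ m (cyc i)) = pt0 (cyc (σ m i))
      rw [← hσ m, ← hpt0D, h.D_conj_even m hm, hσ m, hpt0D]))
    (fun m hm => Equiv.ext fun i => hpt0inj (by
      show pt0 (σ m (cyc i)) = pt0 (cyc (cyc (σ m i)))
      rw [← hσ m, ← hpt0D, h.D_conj_odd m hm, hσ m, hpt0D, hpt0D]))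
  let pt : Fin 3 → V := fun i => pt0 ((cyc ^ (k : ℕ)) i)
  have hptact : ∀ m i, m • pt i = pt ((h.ψ m).1 i) := fun m i => by
    show m • pt0 _ = pt0 _
    rw [hσ m, show σ m = p m from rfl, hk m]
    simp
  have hptmem : ∀ i, pt i ∈ movD h.D := fun i => hpt0mem _
  have hpt2 : pt 2 = pt 0 + pt 1 := by
    have e : u0 + h.D u0 + h.D (h.D u0) = 0 := hu0
    have e' : pt0 0 + pt0 1 + pt0 2 = 0 := e
    have hs : pt 0 + pt 1 + pt 2 = 0 := by
      rw [← e', ← Fin.sum_univ_three pt, ← Fin.sum_univ_three pt0]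
      exact Equiv.sum_comp (cyc ^ (k : ℕ)) pt0
    rw [← add_zero (pt 2), ← two (pt 0 + pt 1), ← add_assoc, add_comm (pt 2), hs, zero_add]
  have hqpt : ∀ i, h.F.q (pt i) = h.F.q u0 := fun i => by
    have : ∀ j, h.F.q (pt0 j) = h.F.q u0 := fun j => by
      fin_cases j
      · rfl
      · exact h.D_iso u0
      · exact (h.D_iso _).trans (h.D_iso u0)
    exact this _
  have hptb : h.F.b (pt 0) (pt 1) = h.F.q u0 := by
    have e := h.F.polar (pt 0) (pt 1)
    rw [← hpt2, hqpt, hqpt, hqpt, add_self', zero_add] at e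
    exact e.symm
  have hu1 : h.F.q u0 = 1 := by
    refine (zmod_two _).resolve_left fun e0 => ?_
    obtain ⟨y, hy⟩ := h.F.nondeg _ (show pt 0 ≠ 0 from hpt0ne _)
    rw [(h.decompose y).2.2, h.F.add_right, b_comm', h.orth (h.decompose y).1 (hptmem 0), zero_add] at hy
    have hb : ∀ i, h.F.b (pt 0) (pt i) = 0 := by
      intro i
      fin_cases i
      · exact b_self h.F _
      · exact hptb.trans e0
      · show h.F.b (pt 0) (pt 2) = 0
        rw [hpt2, h.F.add_right, b_self, hptb, e0, add_zero]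
    rcases hcover _ (h.decompose y).2.1 with e | ⟨i, e⟩
    · rw [e, h.F.b_zero_right] at hy; exact zero_ne_one hy
    · obtain ⟨i', rfl⟩ := (cyc ^ (k : ℕ)).surjective i
      rw [e, show pt0 ((cyc ^ (k : ℕ)) i') = pt i' from rfl, hb] at hy
      exact zero_ne_one hy
  -- the basis
  let κ : Bool := decide (h.F.q (S.v 5) = 1)
  have hκ : h.F.q (S.v 5) = if κ then 1 else 0 := by
    rcases zmod_two (h.F.q (S.v 5)) with e | e <;> simp [κ, e]
  let B := S.basisOf pt
  let dd : ℕ → ZMod 2 := fun i => if i < 6 then (if κ then 1 else 0) else 1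
  let GG : ℕ → ℕ → ZMod 2 := fun i j => if (i < 6 ↔ j < 6) then 1 else 0
  have hBs : ∀ i : Fin 6, B ⟨i, by omega⟩ = S.v i := fun i => by simp [B, basisOf]
  have hd : ∀ i : Fin 8, h.F.q (B i) = dd i := by
    intro i
    simp only [B, basisOf, dd]
    split
    · rw [S.q_const]; exact hκ
    · split <;> rw [hqpt, hu1]
  have hG : ∀ i j : Fin 8, i < j → h.F.b (B i) (B j) = GG i j := by
    intro i j hij
    have hij' : (i : ℕ) < j := hij
    simp only [B, basisOf, GG]
    rcases Nat.lt_or_ge (j : ℕ) 6 with hj | hj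
    · rw [dif_pos (show (i : ℕ) < 6 by omega), dif_pos hj, if_pos (by omega)]
      exact S.b_one (fun e => by simp [Fin.ext_iff] at e; omega)
    rw [dif_neg (show ¬(j : ℕ) < 6 by omega)]
    rcases Nat.lt_or_ge (i : ℕ) 6 with hi | hi
    · rw [dif_pos hi, if_neg (by omega : ¬((i : ℕ) < 6 ↔ (j : ℕ) < 6))]
      exact h.orth (S.mem _) (by split <;> exact hptmem _)
    · rw [dif_neg (show ¬(i : ℕ) < 6 by omega), if_pos (show (i : ℕ) = 6 by omega),
        if_neg (show ¬(j : ℕ) = 6 by omega), if_pos (by omega), hptb, hu1]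
  have hq : ∀ n < 256, h.F.q (vecOf B n) = if qv (Kind.sum κ) n then 1 else 0 := fun n hn =>
    (q_vecOf h.F B dd GG hd hG n).trans (SumTables.q_table κ ⟨n, hn⟩)
  have hsurj := surj_of_gram h.F B GG hG h.card fun n hn hn0 =>
    SumTables.nd_table ⟨n, hn⟩ (fun e => hn0 (congrArg Fin.val e))
  -- the images
  have hplane : ∀ i : Fin 3, vecOf B (((i : ℕ) + 1) <<< 6) = pt i := by
    have e6 : vecOf B (2 ^ ((6 : Fin 8) : ℕ)) = pt 0 := vecOf_two_pow B 6
    have e7 : vecOf B (2 ^ ((7 : Fin 8) : ℕ)) = pt 1 := vecOf_two_pow B 7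
    intro i
    fin_cases i
    · exact e6
    · exact e7
    · show vecOf B (2 ^ 6 ^^^ 2 ^ 7) = pt 2
      rw [vecOf_xor two, hpt2]
      exact congrArg₂ (· + ·) e6 e7
  let J : V := vecOf B 63
  have hJ : J = ∑ i, S.v i := by
    show vecOf B 63 = _
    rw [vecOf, Fin.sum_univ_eight, Fin.sum_univ_six]
    simp [B, basisOf, show Nat.testBit 63 0 = true from rfl, show Nat.testBit 63 1 = true from rfl,
      show Nat.testBit 63 2 = true from rfl, show Nat.testBit 63 3 = true from rfl,
      show Nat.testBit 63 4 = true from rfl, show Nat.testBit 63 5 = true from rfl,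
      show Nat.testBit 63 6 = false from rfl, show Nat.testBit 63 7 = false from rfl]
  have hJfix : ∀ g : P6, Equiv.Perm.sign g = 1 → h.lift g • J = J := fun g hg => by
    rw [hJ, Finset.smul_sum, Finset.sum_congr rfl fun i _ => S.act g hg i]
    exact Equiv.sum_comp g S.v
  have himg : ∀ (a : P3) (b : P6) (e : Bool) (i : Fin 8),
      vecOf B ((img (Kind.sum κ) a b e).getD i 0) =
        if hi : (i : ℕ) < 6 then S.v (b ⟨i, hi⟩) + (if e then J else 0)
        else if (i : ℕ) = 6 then pt (a 0) else pt (a 1) := by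
    intro a b e i
    simp only [img]
    by_cases hi : (i : ℕ) < 6
    · rw [dif_pos hi, List.getD_append _ _ _ _ (by simpa using hi),
        List.getD_eq_getElem _ _ (by simpa using hi), List.getElem_ofFn, vecOf_xor two]
      congr 1
      · exact (vecOf_two_pow B ⟨(b ⟨i, hi⟩ : ℕ), by omega⟩).trans (hBs _)
      · cases e
        · simp [vecOf]
        · rfl
    · rw [dif_neg hi, List.getD_append_right _ _ _ _ (by simpa using Nat.le_of_not_lt hi), List.length_ofFn]
      rcases (show (i : ℕ) = 6 ∨ (i : ℕ) = 7 by omega) with e6 | e6 <;> rw [e6]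
      · exact hplane _
      · exact hplane _
  have hAact : ∀ g : P6, Equiv.Perm.sign g = 1 → ∀ n,
      h.lift g • vecOf B n = vecOf B (ap (img (Kind.sum κ) 1 g false) n) := by
    intro g hg n
    rw [vecOf_ap two _ _ (img_length _ _ _ _), vecOf, Finset.smul_sum]
    refine Finset.sum_congr rfl fun i _ => ?_
    split
    · rw [himg]
      simp only [B, basisOf]
      split
      · rw [S.act g hg, if_neg (by simp), add_zero]
      · split <;> exact hU g hg _ (hptmem _)
    · exact smul_zero _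
  -- the translation
  have hmx : ∀ m : M, m • S.v 5 = S.v ((h.ψ m).2 5) ∨ m • S.v 5 = S.v ((h.ψ m).2 5) + J := by
    intro m
    set s := (h.ψ m).2 with hs
    obtain ⟨t, ht, ht5⟩ := SumTables.exists_to (s 5)
    have htinv : Equiv.Perm.sign t⁻¹ = 1 := by rw [map_inv, ht, inv_one]
    set y := h.lift t⁻¹ • m • S.v 5 with hy
    have hym : m • S.v 5 = h.lift t • y := by rw [hy, ← h.lift_mul ht htinv, mul_inv_cancel, h.lift_one]
    have hyC : y ∈ fixD h.D := h.fixD_smul _ (h.fixD_smul m (S.mem 5))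
    have hfixed : ∀ g : P6, Equiv.Perm.sign g = 1 → g 5 = 5 → h.lift g • y = y := by
      intro g hg g5
      have hg' : Equiv.Perm.sign (t * g * t⁻¹) = 1 := by rw [map_mul, map_mul, ht, hg, htinv, one_mul, one_mul]
      have hg'' : Equiv.Perm.sign (s⁻¹ * (t * g * t⁻¹) * s) = 1 := by
        rw [map_mul, map_mul, hg', map_inv, mul_one, inv_mul_cancel]
      have hfix5 : (s⁻¹ * (t * g * t⁻¹) * s) 5 = 5 := by
        have e5 : t⁻¹ (s 5) = 5 := by rw [Equiv.Perm.inv_eq_iff_eq, ht5]
        rw [Equiv.Perm.mul_apply, Equiv.Perm.mul_apply, Equiv.Perm.mul_apply, Equiv.Perm.mul_apply, e5, g5,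
          ht5, Equiv.Perm.inv_eq_iff_eq]
      have key := h.lift_conj m hg'' (S.v 5)
      rw [S.act _ hg'', hfix5, ← hs, show s * (s⁻¹ * (t * g * t⁻¹) * s) * s⁻¹ = t * g * t⁻¹ by group,
        hym] at key
      have key2 := congrArg (h.lift t⁻¹ • ·) key
      try simp only at key2
      rw [← h.lift_mul htinv ht, inv_mul_cancel, h.lift_one, ← h.lift_mul hg' ht, inv_mul_cancel_right,
        h.lift_mul ht hg, ← h.lift_mul htinv ht, inv_mul_cancel, h.lift_one] at key2
      exact key2.symm
    obtain ⟨n, hn, hny⟩ := hsurj y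
    have hbit : ∀ i, 6 ≤ i → (n % 64).testBit i = false := fun i hi =>
      Nat.testBit_lt_two_pow (lt_of_lt_of_le (Nat.mod_lt _ (by norm_num))
        (Nat.pow_le_pow_right (by norm_num : 0 < 2) hi))
    have hlow : vecOf B (n % 64) ∈ fixD h.D := by
      refine sum_mem fun i _ => ?_
      split
      · rename_i hb
        simp only [B, basisOf]
        rcases Nat.lt_or_ge (i : ℕ) 6 with hi | hi
        · rw [dif_pos hi]; exact S.mem _
        · rw [hbit _ hi] at hb; exact absurd hb (by simp)
      · exact zero_mem _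
    have hsum : vecOf B n = vecOf B (n % 64) + vecOf B (n / 64 * 64) := by
      rw [← vecOf_xor two]
      congr 1
      exact (by decide +kernel : ∀ n : Fin 256, (n : ℕ) = (n % 64 : ℕ) ^^^ (n / 64 * 64 : ℕ)) ⟨n, hn⟩
    have hhigh : vecOf B (n / 64 * 64) ∈ movD h.D := by
      refine sum_mem fun i _ => ?_
      split
      · rename_i hb
        simp only [B, basisOf]
        rcases Nat.lt_or_ge (i : ℕ) 6 with hi | hi
        · exfalso
          rw [show n / 64 * 64 = (n / 64) <<< 6 by rw [Nat.shiftLeft_eq], Nat.testBit_shiftLeft] at hb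
          simp at hb
          omega
        · rw [dif_neg (show ¬(i : ℕ) < 6 by omega)]
          split <;> exact hptmem _
      · exact zero_mem _
    have hy' : y = vecOf B (n % 64) := by
      have h0 : vecOf B (n / 64 * 64) ∈ fixD h.D := by
        have hyC' : vecOf B n ∈ fixD h.D := hny.symm ▸ hyC
        rw [hsum] at hyC'
        have := add_mem hlow hyC'
        rwa [← add_assoc, two, zero_add] at this
      rw [← hny, hsum, h.fix_inter_mov h0 hhigh, add_zero]
    set r : Fin 64 := ⟨n % 64, Nat.mod_lt _ (by norm_num)⟩ with hr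
    have hlt : ∀ (g : P6) (r : ℕ), ap (img (Kind.sum κ) 1 g false) r < 256 := fun g r => by
      refine ap_lt _ _ fun x hx => ?_
      simp only [img, List.mem_append, List.mem_ofFn, List.mem_cons, List.not_mem_nil, or_false] at hx
      rcases hx with ⟨i, rfl⟩ | rfl | rfl
      · rw [if_neg (by simp), Nat.xor_zero]
        exact Nat.pow_lt_pow_right (by norm_num : 1 < 2) (show ((g i : Fin 6) : ℕ) < 8 by omega)
      · decide
      · decide
    have hinj : ∀ a < 256, ∀ c < 256, vecOf B a = vecOf B c → a = c := by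
      have hb : Function.Bijective fun n : Fin 256 => vecOf B n :=
        (Nat.bijective_iff_surjective_and_card _).2 ⟨fun x => by
          obtain ⟨n, hn, e⟩ := hsurj x
          exact ⟨⟨n, hn⟩, e⟩, by rw [Nat.card_fin, h.card]⟩
      intro a ha c hc e
      exact congrArg Fin.val (hb.1 (a₁ := ⟨a, ha⟩) (a₂ := ⟨c, hc⟩) e)
    have hap : ∀ g : P6, Equiv.Perm.sign g = 1 → g 5 = 5 → ap (img (Kind.sum κ) 1 g false) r = r := by
      intro g hg g5
      have h1 := hfixed g hg g5
      rw [hy', hAact g hg] at h1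
      exact hinj _ (hlt g r) _ (by have := r.2; omega) h1
    have hne : y ≠ J := fun e => by
      obtain ⟨i, hi⟩ := S.moved
      obtain ⟨g, hg, g5⟩ := SumTables.exists_to i
      have hg' : Equiv.Perm.sign (s * g * s⁻¹) = 1 := by simp [map_mul, map_inv, hg]
      have hmJ : m • S.v 5 = J := by rw [hym, e, hJfix t ht]
      have key := h.lift_conj m hg (S.v 5)
      rw [S.act g hg, g5, ← hs, hmJ, hJfix _ hg'] at key
      exact hi (MulAction.injective m (key.trans hmJ.symm))
    have hy0 : y ≠ 0 := fun e => by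
      have h5 : S.v 5 = 0 := by
        rw [← inv_smul_smul m (S.v 5), hym, e, smul_zero, smul_zero]
      obtain ⟨i, hi⟩ := S.moved
      obtain ⟨g, hg, g5⟩ := SumTables.exists_to i
      exact hi (by rw [← g5, ← S.act g hg, h5, smul_zero, ← h5])
    rcases SumTables.fix_table κ r (hap f (even_gens f (by simp)) SumTables.f_facts.2.2.1)
      (hap ea (even_gens ea (by simp)) SumTables.f_facts.2.2.2) with e | e | e | e <;>
      have e' : n % 64 = _ := congrArg Fin.val e <;> rw [e'] at hy'
    · exact absurd (hy'.trans (by simp [vecOf])) hy0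
    · left
      rw [hym, hy', show ((32 : Fin 64) : ℕ) = 2 ^ ((5 : Fin 8) : ℕ) from rfl, vecOf_two_pow,
        show B 5 = S.v 5 from hBs 5, S.act t ht, ht5]
    · right
      rw [hym, hy', show ((31 : Fin 64) : ℕ) = 2 ^ ((5 : Fin 8) : ℕ) ^^^ 63 from rfl, vecOf_xor two,
        vecOf_two_pow, show B 5 = S.v 5 from hBs 5, smul_add, S.act t ht, ht5]
      exact congrArg _ (hJfix t ht)
    · exact absurd hy' hne
  let eps : M → Bool := fun m => decide (m • S.v 5 ≠ S.v ((h.ψ m).2 5))
  have hv5 : ∀ m, m • S.v 5 = S.v ((h.ψ m).2 5) + (if eps m then J else 0) := fun m => by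
    by_cases e : m • S.v 5 = S.v ((h.ψ m).2 5)
    · simp [eps, e]
    · rw [show eps m = true by simp [eps, e], if_pos rfl]
      exact (hmx m).resolve_left e
  refine ⟨{ kind := Kind.sum κ, eps := eps, basis := B, surj := hsurj, q_eq := hq, act := ?_ }⟩
  intro m i
  rw [himg]
  simp only [B, basisOf]
  split
  · rename_i hi
    obtain ⟨g, hg, g5⟩ := SumTables.exists_to (⟨i, hi⟩ : Fin 6)
    have hg' : Equiv.Perm.sign ((h.ψ m).2 * g * ((h.ψ m).2)⁻¹) = 1 := by simp [map_mul, map_inv, hg]
    conv_lhs => rw [← g5, ← S.act g hg, h.lift_conj m hg, hv5, smul_add, S.act _ hg']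
    congr 1
    · simp [g5]
    · split
      · exact hJfix _ hg'
      · exact smul_zero _
  · split <;> exact hptact _ _

end Six

namespace Setup

variable {M : Type u} {V : Type v} [Group M] [AddCommGroup V] [DistribMulAction M V] [Finite V]
variable (h : Setup M V)

/-- Coordinates when the fixed space of the cycle has dimension six. -/
theorem exists_sum (hC : Nat.card (fixD h.D) = 64) (hW : Nat.card (movD h.D) = 4)
    (hU : ∀ g : P6, Equiv.Perm.sign g = 1 → ∀ x ∈ movD h.D, h.lift g • x = x) :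
    ∃ (θ : P6 ≃* P6) (hθ : ∀ b, Equiv.Perm.sign (θ b) = Equiv.Perm.sign b),
      Nonempty (Basis8 (h.twist θ hθ)) := by
  obtain ⟨x, hx, hf, ⟨g, hg, hne⟩, hsmall⟩ := h.exists_pair hC hU
  have hout := h.exists_stab_notMem (fun y => y ∈ fixD h.D ∧ h.F.q y = h.F.q x)
    (fun g _ y hy => ⟨h.fixD_smul _ hy.1, (h.iso _ y).trans hy.2⟩) x ⟨hx, rfl⟩ nList
    (by simp only [nList, List.length_cons, List.length_nil]; omega)
  obtain ⟨θ, hθ, hst⟩ := h.exists_five hf hout
  refine ⟨θ, hθ, ?_⟩
  have hDeq := h.twist_D θ hθ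
  obtain ⟨S⟩ := (h.twist θ hθ).exists_six (x := x) (by rw [hDeq]; exact hx)
    ⟨θ g, by rw [hθ, hg], by rw [h.twist_lift θ hθ hg]; exact hne⟩ hst
  refine S.exists_basis (by rw [hDeq]; exact hW) fun a ha y hy => ?_
  rw [hDeq] at hy
  obtain ⟨b, rfl⟩ := θ.surjective a
  rw [hθ] at ha
  rw [h.twist_lift θ hθ ha]
  exact hU b ha y hy

end Setup

end Cfsg.Agent.ExtraTwoNine
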