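import Cfsg.Agent.Lib.ExtraTwoNine.CoordTools

/-!
The case of a cycle without fixed vectors: a singular vector stabilised by the stabiliser of a pair
of points.
-/

set_option autoImplicit false
set_option linter.unusedSectionVars false
set_option maxRecDepth 20000

namespace Cfsg.Agent.ExtraTwoNine

open Cfsg.Agent.LargeExtra.SixTwo CoordPerm

universe u v

namespace TensorTables

/-- The other three-cycle. -/
def e2 : P6 := Equiv.swap 3 4 * Equiv.swap 4 5

/-- An involution inverting both three-cycles. -/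
def wi : P6 := Equiv.swap 0 1 * Equiv.swap 3 4

theorem signs : Equiv.Perm.sign e2 = 1 ∧ Equiv.Perm.sign wi = 1 := by
  decide +kernel

theorem inverts : wi * ea * wi⁻¹ = ea⁻¹ ∧ wi * e2 * wi⁻¹ = e2⁻¹ ∧
    wi * (ea * e2) * wi⁻¹ = (ea * e2)⁻¹ ∧ wi * (ea * e2 * e2) * wi⁻¹ = (ea * e2 * e2)⁻¹ := by
  decide +kernel

theorem cubes : ea * ea * ea = 1 ∧ e2 * e2 * e2 = 1 ∧ ea * e2 = e2 * ea ∧
    (ea * e2) * (ea * e2) * (ea * e2) = 1 ∧ (ea * e2 * e2) * (ea * e2 * e2) * (ea * e2 * e2) = 1 ∧
    ea ≠ 1 ∧ e2 ≠ 1 ∧ ea * e2 ≠ 1 ∧ ea * e2 * e2 ≠ 1 := by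
  decide +kernel

theorem dihedral : t1 * t1 * (t1 * t1) = 1 ∧ t2 * t2 = 1 ∧ t1 * t2 = t2 * t1⁻¹ ∧
    t1 * t1 * t2 = t2 * (t1 * t1) := by
  decide +kernel

theorem word_f : eval [t1, t2, ea, e2] [3, 0, 2, 2] = f := by
  decide +kernel

theorem f_pow : f ^ 5 = 1 ∧ f ≠ 1 ∧ ∀ s : Fin 5, s ≠ 0 → ∃ t : Fin 5, (f ^ (s : ℕ)) ^ (t : ℕ) = f := by
  decide +kernel

theorem tList_elts : ∀ k : P6, code k ∈ tList →
    k ∈ [([] : List ℕ), [0], [0, 0], [0, 0, 0], [1], [1, 0], [1, 0, 0], [1, 0, 0, 0]].map (eval [t1, t2]) := by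
  decide +kernel

theorem tList_order : ∀ k : P6, code k ∈ tList → k * k * (k * k) = 1 := by
  decide +kernel

theorem tList_norm : ∀ k : P6, code (k * t1 * k⁻¹) ∈ tList → code (k * t2 * k⁻¹) ∈ tList →
    code k ∈ tList ∨ Equiv.Perm.sign k = -1 := by
  decide +kernel

end TensorTables

namespace Setup

variable {M : Type u} {V : Type v} [Group M] [AddCommGroup V] [DistribMulAction M V]
variable (h : Setup M V)

/-- The powers of the cycle. -/
noncomputable def powD : ℕ → V →+ V
  | 0 => AddMonoidHom.id V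
  | n + 1 => h.D.comp (powD n)

theorem powD_add (a b : ℕ) (x : V) : h.powD (a + b) x = h.powD a (h.powD b x) := by
  induction a with
  | zero => simp [powD]
  | succ a ih => rw [Nat.succ_add]; exact congrArg h.D ih

theorem powD_three_mul (n : ℕ) (x : V) : h.powD (3 * n) x = x := by
  induction n with
  | zero => rfl
  | succ n ih =>
    rw [Nat.mul_succ, h.powD_add, show h.powD 3 x = x from h.D_cube x, ih]

theorem powD_mod (n : ℕ) (x : V) : h.powD n x = h.powD (n % 3) x := by
  conv_lhs => rw [← Nat.mod_add_div n 3, h.powD_add, h.powD_three_mul]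

theorem powD_lift {g : P6} (hg : Equiv.Perm.sign g = 1) (n : ℕ) (x : V) :
    h.lift g • h.powD n x = h.powD n (h.lift g • x) := by
  induction n with
  | zero => rfl
  | succ n ih =>
    show h.lift g • h.D (h.powD n x) = h.D _
    rw [h.D_lift hg, ih]

theorem powD_q (n : ℕ) (x : V) : h.F.q (h.powD n x) = h.F.q x := by
  induction n with
  | zero => rfl
  | succ n ih => exact (h.D_iso _).trans ih

theorem powD_b (n : ℕ) (x y : V) : h.F.b (h.powD n x) (h.powD n y) = h.F.b x y := by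
  induction n with
  | zero => rfl
  | succ n ih => exact (h.D_b _ _).trans ih

variable [Finite V] (h0 : ∀ x : V, h.D x = x → x = 0)
include h0

theorem powD_fix {n : ℕ} {x : V} (hx : x ≠ 0) (e : h.powD n x = x) : n % 3 = 0 := by
  rw [h.powD_mod] at e
  have hlt := Nat.mod_lt n (show 3 > 0 by norm_num)
  by_contra hn
  have : n % 3 = 1 ∨ n % 3 = 2 := by omega
  rcases this with e1 | e1 <;> rw [e1] at e
  · exact hx (h0 x e)
  · refine hx (h0 x ?_)
    have e' := congrArg h.D e
    rw [show h.D (h.powD 2 x) = x from h.D_cube x] at e'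
    exact e'.symm

theorem sum_D (x : V) : x + h.D x + h.D (h.D x) = 0 :=
  h0 _ (h.decompose x).1

theorem b_D (x : V) : h.F.b x (h.D x) = h.F.q x := by
  have e := h.F.polar x (h.D x)
  have hx : x + h.D x = h.D (h.D x) := by
    rw [← add_zero (x + h.D x), ← h.F.two (h.D (h.D x)), ← add_assoc, h.sum_D h0, zero_add]
  rw [hx, h.D_iso, h.D_iso, add_self', zero_add] at e
  exact e.symm

theorem b_D_comm (x y : V) : h.F.b y (h.D x) = h.F.b x (h.D y) + h.F.b x y := by
  have e1 : h.F.b x (y + h.D y + h.D (h.D y)) = 0 := by rw [h.sum_D h0, h.F.b_zero_right]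
  have e2 : h.F.b (h.D x) y = h.F.b x (h.D (h.D y)) := by
    rw [← h.D_b x (h.D (h.D y)), h.D_cube]
  rw [b_comm' h.F y, e2]
  rw [h.F.add_right, h.F.add_right] at e1
  generalize h.F.b x (h.D (h.D y)) = c at e1 ⊢
  generalize h.F.b x (h.D y) = a at e1 ⊢
  generalize h.F.b x y = b at e1 ⊢
  revert a b c
  decide

/-- Orbits of the cycle have length three outside zero. -/
theorem card_three (P : V → Prop) (hP : ∀ x, P x → P (h.D x)) (hne : ∀ x, P x → x ≠ 0) :
    3 ∣ Nat.card {x // P x} := by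
  classical
  have : Fintype V := Fintype.ofFinite V
  let σ : Equiv.Perm {x // P x} :=
    { toFun := fun x => ⟨h.D x.1, hP _ x.2⟩
      invFun := fun x => ⟨h.D (h.D x.1), hP _ (hP _ x.2)⟩
      left_inv := fun x => Subtype.ext (h.D_cube x.1)
      right_inv := fun x => Subtype.ext (h.D_cube x.1) }
  have hσ : σ ^ 3 ^ 1 = 1 := by
    ext x
    exact h.D_cube x.1
  have hm := Equiv.Perm.card_compl_support_modEq (p := 3) hσ
  have he : σ.supportᶜ = ∅ := by
    rw [Finset.eq_empty_iff_forall_notMem]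
    intro x hx
    rw [Finset.mem_compl, Equiv.Perm.mem_support, not_not] at hx
    exact hne x.1 x.2 (h0 _ (congrArg Subtype.val hx))
  rw [he, Finset.card_empty] at hm
  rw [Nat.card_eq_fintype_card]
  exact Nat.modEq_zero_iff_dvd.1 hm.symm

omit h0 in
theorem card_ne_zero_add_one (K : AddSubgroup V) :
    Nat.card {x // x ∈ K ∧ x ≠ 0} + 1 = Nat.card K := by
  have h1 : Nat.card {x // x ∈ K ∧ x ≠ 0} = ((K : Set V) \ {0}).ncard := by
    rw [← Nat.card_coe_set_eq]
    exact Nat.card_congr (Equiv.subtypeEquivRight fun x => by simp)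
  rw [h1, Set.ncard_diff_singleton_add_one (zero_mem K) (Set.toFinite _)]
  exact Nat.card_coe_set_eq _

theorem card_sub_mod_three (K : AddSubgroup V) (hK : ∀ x ∈ K, h.D x ∈ K) : Nat.card K % 3 = 1 := by
  have h1 := h.card_three h0 (fun x => x ∈ K ∧ x ≠ 0)
    (fun x hx => ⟨hK x hx.1, fun e => hx.2 (by rw [← h.D_cube x, e, map_zero, map_zero])⟩) (fun x hx => hx.2)
  have h2 := card_ne_zero_add_one K
  omega

theorem card_singular : Nat.card {x : V // x ≠ 0 ∧ h.F.q x = 0} = 135 := by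
  classical
  have : Fintype V := Fintype.ofFinite V
  have hc := h.F.card_singular_cases (m := 16) (by rw [← Nat.card_eq_fintype_card, h.card]; norm_num)
  have h1 := h.card_three h0 (fun x => x ≠ 0 ∧ h.F.q x = 0)
    (fun x hx => ⟨fun e => hx.1 (by rw [← h.D_cube x, e, map_zero, map_zero]), (h.D_iso x).trans hx.2⟩)
    (fun x hx => hx.1)
  have h2 : Nat.card {x // x ≠ 0 ∧ h.F.q x = 0} + 1 = Nat.card {x // h.F.q x = 0} := by
    rw [Nat.card_eq_fintype_card, Nat.card_eq_fintype_card, Fintype.card_subtype, Fintype.card_subtype,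
      show (Finset.univ.filter fun x => x ≠ 0 ∧ h.F.q x = 0) = (Finset.univ.filter fun x => h.F.q x = 0).erase 0
        from Finset.ext fun x => by simp]
    exact Finset.card_erase_add_one (by simp [h.F.q_zero])
  omega

/-- The eigenspaces of a real element of order three inside an invariant subgroup. -/
theorem real_fix {g w : P6} (hg : Equiv.Perm.sign g = 1) (hw : Equiv.Perm.sign w = 1) (h3 : g * g * g = 1)
    (hinv : w * g * w⁻¹ = g⁻¹) (K : AddSubgroup V) (hKD : ∀ x ∈ K, h.D x ∈ K)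
    (hKg : ∀ x ∈ K, h.lift g • x ∈ K) (hKw : ∀ x ∈ K, h.lift w • x ∈ K) :
    ∃ c : ℕ, Nat.card K = Nat.card {x // x ∈ K ∧ h.lift g • x = x} * (c * c) ∧ c % 3 = 1 := by
  classical
  let E : ℕ → AddSubgroup V := fun r =>
    { carrier := {x | x ∈ K ∧ h.lift g • x = h.powD r x}
      add_mem' := fun {x y} hx hy => ⟨add_mem hx.1 hy.1, by rw [smul_add, hx.2, hy.2, map_add]⟩
      zero_mem' := ⟨zero_mem _, by rw [smul_zero, map_zero]⟩
      neg_mem' := fun {x} hx => ⟨neg_mem hx.1, by rw [smul_neg, hx.2, map_neg]⟩ }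
  let L : V → V := fun x => h.lift g • x
  have hgg : Equiv.Perm.sign (g * g) = 1 := by rw [map_mul, hg, one_mul]
  have hL3 : ∀ x, L (L (L x)) = x := fun x => by
    show h.lift g • h.lift g • h.lift g • x = x
    rw [← h.lift_mul hg hg, ← h.lift_mul hgg hg, h3, h.lift_one]
  have hLD : ∀ x, L (h.D x) = h.D (L x) := fun x => h.D_lift hg x
  have hLa : ∀ x y, L (x + y) = L x + L y := fun x y => smul_add _ _ _
  have two := h.F.two
  have sumD := h.sum_D h0
  have hsum3 : ∀ x : V, x + x + x = x := fun x => by rw [two, zero_add]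
  let p0 : V → V := fun x => x + L x + L (L x)
  let p1 : V → V := fun x => x + h.D (h.D (L x)) + h.D (L (L x))
  let p2 : V → V := fun x => x + h.D (L x) + h.D (h.D (L (L x)))
  have m0 : ∀ x ∈ K, p0 x ∈ E 0 := fun x hx => by
    refine ⟨add_mem (add_mem hx (hKg _ hx)) (hKg _ (hKg _ hx)), ?_⟩
    show L (p0 x) = p0 x
    simp only [p0, hLa, hL3]; abel
  have m1 : ∀ x ∈ K, p1 x ∈ E 1 := fun x hx => by
    refine ⟨add_mem (add_mem hx (hKD _ (hKD _ (hKg _ hx)))) (hKD _ (hKg _ (hKg _ hx))), ?_⟩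
    show L (p1 x) = h.D (p1 x)
    simp only [p1, hLa, hLD, hL3, map_add, h.D_cube]; abel
  have m2 : ∀ x ∈ K, p2 x ∈ E 2 := fun x hx => by
    refine ⟨add_mem (add_mem hx (hKD _ (hKg _ hx))) (hKD _ (hKD _ (hKg _ (hKg _ hx)))), ?_⟩
    show L (p2 x) = h.D (h.D (p2 x))
    simp only [p2, hLa, hLD, hL3, map_add, h.D_cube]; abel
  have eqv : K ≃ E 0 × E 1 × E 2 :=
    { toFun := fun x => (⟨p0 x, m0 x x.2⟩, ⟨p1 x, m1 x x.2⟩, ⟨p2 x, m2 x x.2⟩)
      invFun := fun p => ⟨(p.1 : V) + p.2.1 + p.2.2, add_mem (add_mem p.1.2.1 p.2.1.2.1) p.2.2.2.1⟩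
      left_inv := fun x => by
        refine Subtype.ext ?_
        show p0 x + p1 x + p2 x = x
        simp only [p0, p1, p2]
        rw [show (x : V) + L x + L (L x) + (x + h.D (h.D (L x)) + h.D (L (L x))) +
            (x + h.D (L x) + h.D (h.D (L (L x)))) =
          (x + x + x) + (L x + h.D (L x) + h.D (h.D (L x))) +
            (L (L x) + h.D (L (L x)) + h.D (h.D (L (L x)))) by abel, hsum3, sumD, sumD, add_zero, add_zero]
      right_inv := fun ⟨⟨a, ha⟩, ⟨b, hb⟩, ⟨c, hc⟩⟩ => by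
        have ea' : L a = a := ha.2
        have eb' : L b = h.D b := hb.2
        have ec' : L c = h.D (h.D c) := hc.2
        refine Prod.ext (Subtype.ext ?_) (Prod.ext (Subtype.ext ?_) (Subtype.ext ?_))
        · show p0 (a + b + c) = a
          simp only [p0, hLa, hLD, ea', eb', ec', map_add, h.D_cube]
          rw [show a + b + c + (a + h.D b + h.D (h.D c)) + (a + h.D (h.D b) + h.D c) =
            (a + a + a) + (b + h.D b + h.D (h.D b)) + (c + h.D c + h.D (h.D c)) by abel, hsum3, sumD, sumD,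
            add_zero, add_zero]
        · show p1 (a + b + c) = b
          simp only [p1, hLa, hLD, ea', eb', ec', map_add, h.D_cube]
          rw [show a + b + c + (h.D (h.D a) + b + h.D c) + (h.D a + b + h.D (h.D c)) =
            (a + h.D a + h.D (h.D a)) + (b + b + b) + (c + h.D c + h.D (h.D c)) by abel, hsum3, sumD, sumD,
            add_zero, zero_add]
        · show p2 (a + b + c) = c
          simp only [p2, hLa, hLD, ea', eb', ec', map_add, h.D_cube]
          rw [show a + b + c + (h.D a + h.D (h.D b) + c) + (h.D (h.D a) + h.D b + c) =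
            (a + h.D a + h.D (h.D a)) + (b + h.D b + h.D (h.D b)) + (c + c + c) by abel, hsum3, sumD, sumD,
            zero_add, zero_add] }
  have hwinv : ∀ x, h.lift g • h.lift w • x = h.lift w • L (L x) := fun x => by
    have hgi : Equiv.Perm.sign g⁻¹ = 1 := by rw [map_inv, hg, inv_one]
    have e : g * w = w * g⁻¹ := by
      have := congrArg (·⁻¹) hinv
      simp only [mul_inv_rev, inv_inv] at this
      conv_lhs => rw [← this]
      group
    have e2 : g⁻¹ = g * g := inv_eq_of_mul_eq_one_right (by rw [← mul_assoc, h3])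
    show _ = h.lift w • h.lift g • h.lift g • x
    rw [← h.lift_mul hg hw, e, h.lift_mul hw hgi, e2, h.lift_mul hg hg]
  have hwD : ∀ x, h.lift w • h.D x = h.D (h.lift w • x) := fun x => h.D_lift hw x
  have h12 : Nat.card (E 1) = Nat.card (E 2) := by
    refine le_antisymm
      (Nat.card_le_card_of_injective (fun x => ⟨h.lift w • (x : V), hKw _ x.2.1, ?_⟩)
        fun x y e => Subtype.ext (MulAction.injective _ (congrArg Subtype.val e :)))
      (Nat.card_le_card_of_injective (fun x => ⟨h.lift w • (x : V), hKw _ x.2.1, ?_⟩)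
        fun x y e => Subtype.ext (MulAction.injective _ (congrArg Subtype.val e :)))
    · have e : L x = h.D (x : V) := x.2.2
      show h.lift g • _ = h.D (h.D _)
      rw [hwinv, e, hLD, e, hwD, hwD]
    · have e : L x = h.D (h.D (x : V)) := x.2.2
      show h.lift g • _ = h.D _
      rw [hwinv, e, hLD, hLD, e, h.D_cube, hwD]
  refine ⟨Nat.card (E 1), ?_, h.card_sub_mod_three h0 _ fun x hx => ⟨hKD _ hx.1, ?_⟩⟩
  · rw [Nat.card_congr eqv, Nat.card_prod, Nat.card_prod, ← h12]
    rfl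
  · show h.lift g • h.D x = h.D (h.D x)
    rw [h.D_lift hg, hx.2]
    rfl

omit h0 in
/-- A group of more than four vectors has a singular one. -/
theorem exists_singular (K : AddSubgroup V) (hK : 4 < Nat.card K) : ∃ x ∈ K, x ≠ 0 ∧ h.F.q x = 0 := by
  classical
  by_contra hc
  push Not at hc
  have h1 : ∀ x ∈ K, x ≠ 0 → h.F.q x = 1 := fun x hx hx0 => (zmod_two _).resolve_left (hc x hx hx0)
  have hb : ∀ x ∈ K, ∀ y ∈ K, x ≠ 0 → y ≠ 0 → x + y ≠ 0 → h.F.b x y = 1 := fun x hx y hy hx0 hy0 hxy => by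
    have e := h.F.polar x y
    rw [h1 _ (add_mem hx hy) hxy, h1 x hx hx0, h1 y hy hy0, add_self', zero_add] at e
    exact e.symm
  have hpick : ∀ s : Finset V, s.card ≤ 4 → ∃ x ∈ K, x ∉ s := fun s hs => by
    by_contra hc'
    push Not at hc'
    have := Nat.card_le_card_of_injective (fun x : K => (⟨x.1, hc' x.1 x.2⟩ : s))
      fun x y e => Subtype.ext (congrArg (fun z : s => z.1) e)
    rw [Nat.card_eq_fintype_card (α := s), Fintype.card_coe] at this
    omega
  obtain ⟨x, hx, hx0⟩ := hpick {0} (by simp)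
  obtain ⟨y, hy, hy0⟩ := hpick {0, x} (Finset.card_le_two.trans (by norm_num))
  obtain ⟨z, hz, hz0⟩ := hpick {0, x, y, x + y} Finset.card_le_four
  simp only [Finset.mem_insert, Finset.mem_singleton, not_or] at hx0 hy0 hz0
  have hne : ∀ a b : V, a + b = 0 → b = a := fun a b e => by
    rw [← zero_add b, ← h.F.two a, add_assoc, e, add_zero]
  have e1 := hb x hx (y + z) (add_mem hy hz) hx0 (fun e => hz0.2.2.1 (hne _ _ e)) (fun e => hz0.2.2.2 (by
    rw [← add_assoc] at e
    exact hne _ _ e))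
  rw [h.F.add_right, hb x hx y hy hx0 hy0.1 (fun e => hy0.2 (hne _ _ e)),
    hb x hx z hz hx0 hz0.1 (fun e => hz0.2.1 (hne _ _ e)), add_self'] at e1
  exact zero_ne_one e1

omit h0 in
theorem stab_pow {g : P6} {x : V} {r : ℕ} (hg : Equiv.Perm.sign g = 1) (e : h.lift g • x = h.powD r x) :
    ∀ n : ℕ, h.lift (g ^ n) • x = h.powD (r * n) x
  | 0 => by rw [pow_zero, h.lift_one, Nat.mul_zero]; rfl
  | n + 1 => by
    have hn : Equiv.Perm.sign (g ^ n) = 1 := by rw [map_pow, hg, one_pow]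
    rw [pow_succ, h.lift_mul hn hg, e, h.powD_lift hn, stab_pow hg e n, ← h.powD_add, Nat.mul_succ, Nat.add_comm]

/-- An element of order five fixes no vector. -/
theorem f_fpf {v : V} (hv : h.lift f • v = v) : v = 0 := by
  classical
  letI := h.altAct
  haveI := h.altAct_faithful
  haveI : Fact (Nat.Prime 5) := ⟨by norm_num⟩
  have : Fintype V := Fintype.ofFinite V
  have hsf : Equiv.Perm.sign f = 1 := even_gens f (by simp)
  let A := ↥(alternatingGroup (Fin 6))
  let fA : A := ⟨f, Equiv.Perm.mem_alternatingGroup.2 hsf⟩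
  have hord : orderOf fA = 5 := orderOf_eq_prime (Subtype.ext TensorTables.f_pow.1)
    (fun e => TensorTables.f_pow.2.1 (congrArg Subtype.val e))
  by_contra hv0
  let L : V →+ V := DistribSMul.toAddMonoidHom V (h.lift f)
  have hLap : ∀ x, L x = h.lift f • x := fun _ => rfl
  have hf5 : ∀ x, L (L (L (L (L x)))) = x := fun x => by
    simp only [hLap]
    rw [← h.lift_mul hsf hsf, ← h.lift_mul (show Equiv.Perm.sign (f * f) = 1 by simp [hsf]) hsf,
      ← h.lift_mul (show Equiv.Perm.sign (f * f * f) = 1 by simp [hsf]) hsf,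
      ← h.lift_mul (show Equiv.Perm.sign (f * f * f * f) = 1 by simp [hsf]) hsf,
      show f * f * f * f * f = f ^ 5 by simp only [pow_succ, pow_zero, one_mul], TensorTables.f_pow.1, h.lift_one]
  let π : V →+ V := AddMonoidHom.id V + L + L.comp L + L.comp (L.comp L) + L.comp (L.comp (L.comp L))
  have hπ : ∀ x, π x = x + L x + L (L x) + L (L (L x)) + L (L (L (L x))) := fun _ => rfl
  let Φ : AddSubgroup V :=
    { carrier := {x | L x = x}
      add_mem' := fun {x y} hx hy => by simp only [Set.mem_setOf_eq] at *; rw [map_add, hx, hy]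
      zero_mem' := map_zero L
      neg_mem' := fun {x} hx => by simp only [Set.mem_setOf_eq] at *; rw [map_neg, hx] }
  have hπΦ : ∀ x, π x ∈ Φ := fun x => by
    show L (π x) = π x
    simp only [hπ, map_add, hf5]; abel
  have h5 : ∀ x : V, x + x + x + x + x = x := fun x => by rw [h.F.two, zero_add, h.F.two, zero_add]
  have hΦπ : ∀ x ∈ Φ, π x = x := fun x hx => by
    simp only [hπ, show L x = x from hx, h5]
  have hrange : π.range = Φ := le_antisymm (by rintro _ ⟨x, rfl⟩; exact hπΦ x)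
    fun x hx => ⟨x, hΦπ x hx⟩
  have hmul := π.ker.card_mul_index
  rw [AddSubgroup.index_ker, hrange, h.card] at hmul
  -- the fixed space
  have hmod := modEq_fixed (A := A) (α := V) hord
  rw [h.card, show Nat.card {x : V // fA • x = x} = Nat.card Φ from rfl] at hmod
  obtain ⟨i, hi, hi2⟩ := (Nat.dvd_prime_pow Nat.prime_two).1
    (show Nat.card Φ ∣ 2 ^ 8 by
      have := Φ.card_addSubgroup_dvd_card
      rwa [h.card] at this)
  unfold Nat.ModEq at hmod
  have hΦ1 : Nat.card Φ ≠ 1 := fun e => hv0 (by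
    have := (Nat.card_eq_one_iff_unique.1 e).1
    exact congrArg Subtype.val (Subsingleton.elim (⟨v, hv⟩ : Φ) 0))
  have hΦ256 : Nat.card Φ ≠ 256 := fun e => by
    have htop : Φ = ⊤ := AddSubgroup.eq_top_of_card_eq Φ (e.trans h.card.symm)
    have := congrArg Prod.snd (h.faithful (h.lift f) fun x => (htop.symm ▸ AddSubgroup.mem_top x : x ∈ Φ))
    rw [h.lift_ψ hsf] at this
    exact TensorTables.f_pow.2.1 this
  have hp : ∀ i ≤ 8, 2 ^ i % 5 = 1 → i = 0 ∨ i = 4 ∨ i = 8 := by decide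
  obtain rfl : i = 4 := by
    rcases hp i hi (by omega) with rfl | rfl | rfl
    · exact absurd hi2 hΦ1
    · rfl
    · exact absurd hi2 hΦ256
  have hW : Nat.card π.ker = 16 :=
    Nat.eq_of_mul_eq_mul_right (show 0 < 16 by norm_num) (by rw [show Nat.card Φ = 16 from hi2] at hmul; exact hmul)
  -- a regular orbit
  have hne := card_ne_zero_add_one π.ker
  obtain ⟨⟨x0, hx0, hx00⟩⟩ := (Nat.card_pos_iff.1 (show 0 < Nat.card {x // x ∈ π.ker ∧ x ≠ 0} by omega)).1
  have hfs : ∀ n : ℕ, Equiv.Perm.sign (f ^ n) = 1 := fun n => by rw [map_pow, hsf, one_pow]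
  have hkerL : ∀ x ∈ π.ker, L x ∈ π.ker := fun x hx => by
    rw [AddMonoidHom.mem_ker] at *
    rw [show π (L x) = L (π x) by simp only [hπ, map_add], hx, map_zero]
  have hkerD : ∀ x ∈ π.ker, h.D x ∈ π.ker := fun x hx => by
    rw [AddMonoidHom.mem_ker] at *
    rw [show π (h.D x) = h.D (π x) by simp only [hπ, hLap, map_add, h.D_lift hsf], hx, map_zero]
  let orb : Fin 3 × Fin 5 → {x // x ∈ π.ker ∧ x ≠ 0} := fun p =>
    ⟨h.powD p.1 (h.lift (f ^ (p.2 : ℕ)) • x0), by
      have h1 : ∀ n : ℕ, h.lift (f ^ n) • x0 ∈ π.ker := by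
        intro n
        induction n with
        | zero => rwa [pow_zero, h.lift_one]
        | succ n ih => rw [pow_succ', h.lift_mul hsf (hfs n)]; exact hkerL _ ih
      have h2 : ∀ n : ℕ, ∀ x ∈ π.ker, h.powD n x ∈ π.ker := by
        intro n
        induction n with
        | zero => exact fun x hx => hx
        | succ n ih => exact fun x hx => hkerD _ (ih x hx)
      exact h2 _ _ (h1 _), by
      intro e
      have e' : h.powD (3 - p.1) (h.powD p.1 (h.lift (f ^ (p.2 : ℕ)) • x0)) = 0 := by rw [e, map_zero]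
      rw [← h.powD_add, show (3 : ℕ) - p.1 + p.1 = 3 * 1 by omega, h.powD_three_mul] at e'
      exact hx00 (MulAction.injective (h.lift (f ^ (p.2 : ℕ))) (e'.trans (smul_zero _).symm))⟩
  have hkey : ∀ a b : ℕ, h.powD a (h.lift (f ^ b) • x0) = x0 → a % 3 = 0 ∧ b % 5 = 0 := by
    intro a b e
    have hb : h.lift (f ^ b) • x0 = h.powD (2 * a) x0 := by
      conv_rhs => rw [← e, ← h.powD_add, show 2 * a + a = 3 * a by omega, h.powD_three_mul]
    have e5 := h.stab_pow (hfs b) hb 5
    rw [← pow_mul, mul_comm b 5, pow_mul, TensorTables.f_pow.1, one_pow, h.lift_one] at e5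
    have ha : a % 3 = 0 := by
      have := h.powD_fix h0 hx00 e5.symm
      omega
    refine ⟨ha, ?_⟩
    by_contra hb0
    rw [h.powD_mod, show 2 * a % 3 = 0 by omega] at hb
    have hmem : f ^ b ∈ h.stab x0 := ⟨hfs b, hb⟩
    have hb' : f ^ b = f ^ (b % 5) := pow_eq_pow_mod b TensorTables.f_pow.1
    obtain ⟨t, ht⟩ := TensorTables.f_pow.2.2 ⟨b % 5, Nat.mod_lt _ (by norm_num)⟩
      (fun e => hb0 (congrArg Fin.val e))
    have hf : f ∈ h.stab x0 := ht ▸ pow_mem (hb' ▸ hmem) _
    exact hx00 (by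
      have e0 : π x0 = 0 := hx0
      rw [hΦπ x0 hf.2] at e0
      exact e0)
  have hinj : Function.Injective orb := by
    rintro ⟨a, b⟩ ⟨a', b'⟩ e
    have e1 : h.powD a (h.lift (f ^ (b : ℕ)) • x0) = h.powD a' (h.lift (f ^ (b' : ℕ)) • x0) :=
      congrArg Subtype.val e
    have e2 := congrArg (fun y => h.lift (f ^ (5 - (b : ℕ))) • h.powD (3 - (a : ℕ)) y) e1
    simp only [← h.powD_add, h.powD_lift (hfs _), ← h.lift_mul (hfs _) (hfs _), ← pow_add] at e2
    rw [show (3 : ℕ) - a + a = 3 * 1 by omega, show (5 : ℕ) - b + b = 5 by omega, TensorTables.f_pow.1,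
      h.lift_one, h.powD_three_mul] at e2
    obtain ⟨ha, hb⟩ := hkey _ _ e2.symm
    exact Prod.ext (Fin.ext (by simp only; omega)) (Fin.ext (by simp only; omega))
  have hsurj : Function.Surjective orb := by
    refine ((Nat.bijective_iff_injective_and_card orb).2 ⟨hinj, ?_⟩).2
    rw [Nat.card_prod, Nat.card_fin, Nat.card_fin]
    omega
  have hqc : ∀ x ∈ π.ker, x ≠ 0 → h.F.q x = h.F.q x0 := fun x hx hx' => by
    obtain ⟨p, hp⟩ := hsurj ⟨x, hx, hx'⟩
    rw [← show h.powD p.1 (h.lift (f ^ (p.2 : ℕ)) • x0) = x from congrArg Subtype.val hp, h.powD_q, h.lift_iso]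
  obtain ⟨s, hs, hs0, hsq⟩ := h.exists_singular π.ker (by rw [hW]; norm_num)
  have hq0 : h.F.q x0 = 0 := by rw [← hqc s hs hs0, hsq]
  have hall : ∀ x ∈ π.ker, h.F.q x = 0 := fun x hx => by
    by_cases hx' : x = 0
    · rw [hx', h.F.q_zero]
    · rw [hqc x hx hx', hq0]
  obtain ⟨y, hy⟩ := h.F.nondeg x0 hx00
  have hyw : y + π y ∈ π.ker := by
    rw [AddMonoidHom.mem_ker, map_add, hΦπ _ (hπΦ y), h.F.two]
  have hbw : h.F.b x0 (y + π y) = 0 := by
    have e := h.F.polar x0 (y + π y)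
    rw [hall _ (add_mem hx0 hyw), hall _ hx0, hall _ hyw, add_zero, zero_add] at e
    exact e.symm
  have hbf : h.F.b x0 (π y) = 0 := by
    have hL : ∀ z, h.F.b (L z) (π y) = h.F.b z (π y) := fun z => by
      conv_lhs => rw [← show L (π y) = π y from hπΦ y]
      exact h.smul_b _ _ _
    have e : h.F.b (π x0) (π y) = 0 := by rw [show π x0 = 0 from hx0, h.F.b_zero_left]
    simp only [hπ x0, h.F.add_left, hL] at e
    generalize h.F.b x0 (π y) = c at e ⊢
    revert c
    decide
  rw [show y = (y + π y) + π y by rw [add_assoc, h.F.two, add_zero], h.F.add_right, hbw, hbf] at hy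
  exact absurd hy (by decide)

omit h0 in
theorem odd_fixed (P : V → Prop) (g : V → V) (hP : ∀ x, P x → P (g x)) (h2 : ∀ x, P x → g (g x) = x)
    (hodd : Nat.card {x // P x} % 2 = 1) : Nat.card {x // P x ∧ g x = x} % 2 = 1 := by
  classical
  have : Fintype V := Fintype.ofFinite V
  let σ : Equiv.Perm {x // P x} :=
    { toFun := fun x => ⟨g x.1, hP _ x.2⟩
      invFun := fun x => ⟨g x.1, hP _ x.2⟩
      left_inv := fun x => Subtype.ext (h2 x.1 x.2)
      right_inv := fun x => Subtype.ext (h2 x.1 x.2) }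
  have hσ : σ ^ 2 ^ 1 = 1 := by
    ext x
    exact h2 x.1 x.2
  have hm := Equiv.Perm.card_compl_support_modEq (p := 2) hσ
  rw [← Nat.card_eq_fintype_card] at hm
  have e : σ.supportᶜ.card = Nat.card {x // P x ∧ g x = x} := by
    rw [← Fintype.card_coe, ← Nat.card_eq_fintype_card]
    exact Nat.card_congr
      { toFun := fun x => ⟨x.1.1, x.1.2, by
          have := x.2
          rw [Finset.mem_compl, Equiv.Perm.mem_support, not_not] at this
          exact congrArg Subtype.val this⟩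
        invFun := fun x => ⟨⟨x.1, x.2.1⟩, by
          rw [Finset.mem_compl, Equiv.Perm.mem_support, not_not]
          exact Subtype.ext x.2.2⟩
        left_inv := fun _ => rfl
        right_inv := fun _ => rfl }
  rw [e] at hm
  unfold Nat.ModEq at hm
  omega

/-- A singular vector fixed by the Sylow subgroup. -/
theorem exists_sylow_fixed : ∃ u : V, u ≠ 0 ∧ h.F.q u = 0 ∧ t1 ∈ h.stab u ∧ t2 ∈ h.stab u := by
  obtain ⟨d1, d2, d3, d4⟩ := TensorTables.dihedral
  have h1 : Equiv.Perm.sign t1 = 1 := even_gens t1 (by simp)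
  have h2 : Equiv.Perm.sign t2 = 1 := even_gens t2 (by simp)
  have h11 : Equiv.Perm.sign (t1 * t1) = 1 := by rw [map_mul, h1, one_mul]
  have hi : Equiv.Perm.sign t1⁻¹ = 1 := by rw [map_inv, h1, inv_one]
  have hS : ∀ g : P6, ∀ x : V, (x ≠ 0 ∧ h.F.q x = 0) → (h.lift g • x ≠ 0 ∧ h.F.q (h.lift g • x) = 0) :=
    fun g x hx => ⟨fun e => hx.1 (MulAction.injective (h.lift g) (e.trans (smul_zero _).symm)),
      (h.lift_iso g x).trans hx.2⟩
  have o0 : Nat.card {x : V // x ≠ 0 ∧ h.F.q x = 0} % 2 = 1 := by rw [h.card_singular h0]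
  have o1 := odd_fixed _ (fun x => h.lift (t1 * t1) • x) (hS _)
    (fun x _ => by rw [← h.lift_mul h11 h11, d1, h.lift_one]) o0
  have o2 := odd_fixed _ (fun x => h.lift t1 • x) (fun x hx => ⟨hS _ x hx.1, by
      rw [← h.lift_mul h11 h1, mul_assoc, h.lift_mul h1 h11, hx.2]⟩)
    (fun x hx => by rw [← h.lift_mul h1 h1]; exact hx.2) o1
  have o3 := odd_fixed _ (fun x => h.lift t2 • x) (fun x hx => ⟨⟨hS _ x hx.1.1, by
      rw [← h.lift_mul h11 h2, d4, h.lift_mul h2 h11, hx.1.2]⟩, by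
      have e : h.lift t1⁻¹ • x = x := by
        conv_lhs => rw [← hx.2]
        rw [← h.lift_mul hi h1, inv_mul_cancel, h.lift_one]
      rw [← h.lift_mul h1 h2, d3, h.lift_mul h2 hi, e]⟩)
    (fun x _ => by rw [← h.lift_mul h2 h2, d2, h.lift_one]) o2
  obtain ⟨⟨u, hu⟩⟩ := (Nat.card_pos_iff.1 (show 0 < Nat.card {x // (((x ≠ 0 ∧ h.F.q x = 0) ∧
    h.lift (t1 * t1) • x = x) ∧ h.lift t1 • x = x) ∧ h.lift t2 • x = x} by omega)).1
  exact ⟨u, hu.1.1.1.1, hu.1.1.1.2, ⟨h1, hu.1.2⟩, ⟨h2, hu.2⟩⟩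

/-- An element of order three fixes a singular vector. -/
theorem exists_three_fixed : ∃ g : P6, ∃ x : V, Equiv.Perm.sign g = 1 ∧ g * g * g = 1 ∧ g ≠ 1 ∧
    h.lift g • x = x ∧ x ≠ 0 ∧ h.F.q x = 0 := by
  classical
  obtain ⟨c1, c2, c3, c4, c5, c6, c7, c8, c9⟩ := TensorTables.cubes
  obtain ⟨i1, i2, i3, i4⟩ := TensorTables.inverts
  have s1 : Equiv.Perm.sign ea = 1 := even_gens ea (by simp)
  have s2 := TensorTables.signs.1
  have s12 : Equiv.Perm.sign (ea * TensorTables.e2) = 1 := by rw [map_mul, s1, s2, one_mul]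
  have s122 : Equiv.Perm.sign (ea * TensorTables.e2 * TensorTables.e2) = 1 := by rw [map_mul, s12, s2, one_mul]
  suffices key : ∃ g : P6, Equiv.Perm.sign g = 1 ∧ g * g * g = 1 ∧ g ≠ 1 ∧
      TensorTables.wi * g * TensorTables.wi⁻¹ = g⁻¹ ∧ ∃ x : V, x ≠ 0 ∧ h.lift g • x = x by
    obtain ⟨g, hg, hg3, hg1, hgi, x, hx, hfix⟩ := key
    let F : AddSubgroup V :=
      { carrier := {x | h.lift g • x = x}
        add_mem' := fun {x y} hx hy => by simp only [Set.mem_setOf_eq] at *; rw [smul_add, hx, hy]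
        zero_mem' := smul_zero _
        neg_mem' := fun {x} hx => by simp only [Set.mem_setOf_eq] at *; rw [smul_neg, hx] }
    obtain ⟨c, hc, hc3⟩ := h.real_fix h0 hg TensorTables.signs.2 hg3 hgi ⊤ (fun _ _ => trivial)
      (fun _ _ => trivial) (fun _ _ => trivial)
    have hF : Nat.card {x // x ∈ (⊤ : AddSubgroup V) ∧ h.lift g • x = x} = Nat.card F :=
      Nat.card_congr (Equiv.subtypeEquivRight fun x => by simp; rfl)
    rw [hF, AddSubgroup.card_top, h.card] at hc
    have hne : Nat.card F ≠ 1 := fun e => hx (by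
      have := (Nat.card_eq_one_iff_unique.1 e).1
      exact congrArg Subtype.val (Subsingleton.elim (⟨x, hfix⟩ : F) 0))
    obtain ⟨i, hi, hi2⟩ := (Nat.dvd_prime_pow Nat.prime_two).1
      (show Nat.card F ∣ 2 ^ 8 by
        have := F.card_addSubgroup_dvd_card
        rwa [h.card] at this)
    have hcle : c ≤ 16 := by
      by_contra hgt
      have := Nat.mul_le_mul (show 1 ≤ Nat.card F from Nat.card_pos) (Nat.mul_le_mul (show 17 ≤ c by omega) (show 17 ≤ c by omega))
      omega
    obtain ⟨s, hs, hs0, hsq⟩ := h.exists_singular F (by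
      interval_cases c <;> omega)
    exact ⟨g, s, hg, hg3, hg1, hs, hs0, hsq⟩
  by_contra hc
  push Not at hc
  have hz : ∀ g : P6, Equiv.Perm.sign g = 1 → g * g * g = 1 → g ≠ 1 →
      TensorTables.wi * g * TensorTables.wi⁻¹ = g⁻¹ → ∀ y : V, y + h.lift g • y + h.lift (g * g) • y = 0 := by
    intro g hg hg3 hg1 hgi y
    by_contra hy
    refine hc g hg hg3 hg1 hgi _ hy ?_
    have hgg : Equiv.Perm.sign (g * g) = 1 := by rw [map_mul, hg, one_mul]
    rw [smul_add, smul_add, ← h.lift_mul hg hg, ← h.lift_mul hg hgg, ← mul_assoc, hg3, h.lift_one]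
    abel
  obtain ⟨x, hx⟩ : ∃ x : V, x ≠ 0 := by
    obtain ⟨x, hx⟩ := h.D_moves
    exact ⟨x, fun e => hx (by rw [e, map_zero])⟩
  apply hx
  have z1 := hz ea s1 c1 c6 i1
  have z2 := hz TensorTables.e2 s2 c2 c7 i2 x
  have z3 := hz (ea * TensorTables.e2) s12 c4 c8 i3 x
  have z4 := hz (ea * TensorTables.e2 * TensorTables.e2) s122 c5 c9 i4 x
  have s22 : Equiv.Perm.sign (TensorTables.e2 * TensorTables.e2) = 1 := by rw [map_mul, s2, one_mul]
  have s11 : Equiv.Perm.sign (ea * ea) = 1 := by rw [map_mul, s1, one_mul]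
  have w1 := z1 x
  have w2 := z1 (h.lift TensorTables.e2 • x)
  have w3 := z1 (h.lift (TensorTables.e2 * TensorTables.e2) • x)
  rw [← h.lift_mul s1 s2, ← h.lift_mul s11 s2] at w2
  rw [← h.lift_mul s1 s22, ← h.lift_mul s11 s22, ← mul_assoc ea TensorTables.e2 TensorTables.e2] at w3
  rw [show (ea * TensorTables.e2) * (ea * TensorTables.e2) = ea * ea * (TensorTables.e2 * TensorTables.e2) from
    (by decide +kernel : (ea * TensorTables.e2) * (ea * TensorTables.e2) = ea * ea * (TensorTables.e2 * TensorTables.e2))] at z3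
  rw [show (ea * TensorTables.e2 * TensorTables.e2) * (ea * TensorTables.e2 * TensorTables.e2) = ea * ea * TensorTables.e2 from
    (by decide +kernel : (ea * TensorTables.e2 * TensorTables.e2) * (ea * TensorTables.e2 * TensorTables.e2) = ea * ea * TensorTables.e2)] at z4
  generalize h.lift ea • x = a1 at *
  generalize h.lift (ea * ea) • x = a2 at *
  generalize h.lift TensorTables.e2 • x = b1 at *
  generalize h.lift (TensorTables.e2 * TensorTables.e2) • x = b2 at *
  generalize h.lift (ea * TensorTables.e2) • x = a1b1 at *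
  generalize h.lift (ea * ea * TensorTables.e2) • x = a2b1 at *
  generalize h.lift (ea * TensorTables.e2 * TensorTables.e2) • x = a1b2 at *
  generalize h.lift (ea * ea * (TensorTables.e2 * TensorTables.e2)) • x = a2b2 at *
  have e : x = (x + a1 + a2) + (x + b1 + b2) + (x + a1b1 + a2b2) + (x + a1b2 + a2b1) +
      ((x + a1 + a2) + (b1 + a1b1 + a2b1) + (b2 + a1b2 + a2b2)) := by
    rw [show (x + a1 + a2) + (x + b1 + b2) + (x + a1b1 + a2b2) + (x + a1b2 + a2b1) +
        ((x + a1 + a2) + (b1 + a1b1 + a2b1) + (b2 + a1b2 + a2b2)) =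
      x + ((x + x) + (x + x)) + ((a1 + a1) + (a2 + a2) + (b1 + b1) + (b2 + b2) + (a1b1 + a1b1) +
        (a1b2 + a1b2) + (a2b1 + a2b1) + (a2b2 + a2b2)) by abel]
    simp only [h.F.two, add_zero]
  rw [e, w1, z2, z3, z4, w2, w3]
  simp

/-- The stabiliser of a singular vector fixed by the Sylow subgroup is larger. -/
theorem exists_larger {u : V} (hu : u ≠ 0) (hq : h.F.q u = 0) (h1 : t1 ∈ h.stab u) (h2 : t2 ∈ h.stab u) :
    ∃ g ∈ h.stab u, code g ∉ tList := by
  classical
  by_contra hc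
  push Not at hc
  letI := h.altAct
  let A := ↥(alternatingGroup (Fin 6))
  have hsigns : ∀ a : A, Equiv.Perm.sign (a : P6) = 1 := fun a => Equiv.Perm.mem_alternatingGroup.1 a.2
  have hstab_norm : ∀ k : P6, Equiv.Perm.sign k = 1 → ∀ r : ℕ, h.lift k • u = h.powD r u → k ∈ h.stab u := by
    intro k hk r e
    have hki : Equiv.Perm.sign k⁻¹ = 1 := by rw [map_inv, hk, inv_one]
    have conj : ∀ t ∈ h.stab u, k * t * k⁻¹ ∈ h.stab u := by
      intro t ht
      have hs : Equiv.Perm.sign (k * t * k⁻¹) = 1 := by rw [map_mul, map_mul, hk, ht.1, hki, one_mul, one_mul]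
      refine ⟨hs, ?_⟩
      have e1 : h.lift (k * t * k⁻¹) • h.powD r u = h.powD r u := by
        rw [← e, ← h.lift_mul hs hk, inv_mul_cancel_right, h.lift_mul hk ht.1, ht.2]
      rw [h.powD_lift hs] at e1
      have e2 := congrArg (h.powD (2 * r)) e1
      rwa [← h.powD_add, ← h.powD_add, show 2 * r + r = 3 * r by omega, h.powD_three_mul, h.powD_three_mul] at e2
    have hcode : code k ∈ tList := (TensorTables.tList_norm k (hc _ (conj _ h1)) (hc _ (conj _ h2))).resolve_right
      (by rw [hk]; decide)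
    obtain ⟨w, -, hw⟩ := List.mem_map.1 (TensorTables.tList_elts k hcode)
    exact hw ▸ eval_mem _ (by simp [h1, h2]) _
  let O := MulAction.orbit A u
  have hO : 45 ≤ Nat.card O := by
    have h3 := (MulAction.stabilizer A u).card_mul_index
    rw [MulAction.index_stabilizer, ← Nat.card_coe_set_eq, card_alt] at h3
    have hmem : ∀ a : MulAction.stabilizer A u, code (a.1 : P6) ∈ tList.toFinset := fun a =>
      List.mem_toFinset.2 (hc _ ⟨hsigns a.1, a.2⟩)
    have h8 : Nat.card (MulAction.stabilizer A u) ≤ 8 := by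
      refine le_trans (Nat.card_le_card_of_injective (fun a => (⟨_, hmem a⟩ : tList.toFinset)) fun a b e =>
        Subtype.ext (Subtype.ext (code_injective (congrArg (fun z : tList.toFinset => z.1) e)))) ?_
      rw [Nat.card_eq_fintype_card, Fintype.card_coe]
      exact List.toFinset_card_le tList
    have := Nat.mul_le_mul_right (Nat.card O) h8
    change Nat.card (MulAction.stabilizer A u) * Nat.card O = 360 at h3
    omega
  have horb : ∀ (a : A) (r : ℕ), h.powD r ((a : A) • u) ≠ 0 ∧ h.F.q (h.powD r (a • u)) = 0 := fun a r => by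
    refine ⟨fun e => hu ?_, ?_⟩
    · have e' := congrArg (h.powD (2 * r)) e
      rw [← h.powD_add, show 2 * r + r = 3 * r by omega, h.powD_three_mul, map_zero] at e'
      exact MulAction.injective a (e'.trans (smul_zero a).symm)
    · rw [h.powD_q]
      exact (h.lift_iso _ u).trans hq
  let Φ : Fin 3 × O → {x : V // x ≠ 0 ∧ h.F.q x = 0} := fun p =>
    ⟨h.powD p.1 p.2.1, by obtain ⟨a, ha⟩ := p.2.2; rw [← ha]; exact horb a _⟩
  have hinj : Function.Injective Φ := by
    rintro ⟨i, ⟨_, a, rfl⟩⟩ ⟨j, ⟨_, c, rfl⟩⟩ e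
    have e1 : h.powD i (a • u) = h.powD j (c • u) := congrArg Subtype.val e
    have e2 := congrArg (fun y => c⁻¹ • h.powD (3 - (i : ℕ)) y) e1
    simp only [← h.powD_add] at e2
    rw [show (3 : ℕ) - i + i = 3 * 1 by omega, h.powD_three_mul, ← mul_smul] at e2
    have e3 : c⁻¹ • h.powD ((3 - (i : ℕ)) + j) (c • u) = h.powD ((3 - (i : ℕ)) + j) u := by
      show h.lift ((c⁻¹ : A) : P6) • (h.powD ((3 - (i : ℕ)) + j) (c • u) : V) = _
      rw [h.powD_lift (hsigns c⁻¹)]
      exact congrArg _ (inv_smul_smul c u)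
    rw [e3] at e2
    have hmem := hstab_norm _ (hsigns (c⁻¹ * a)) _ e2
    have hfix := h.powD_fix h0 hu (e2.symm.trans hmem.2)
    have hij : i = j := Fin.ext (by omega)
    subst hij
    refine Prod.ext rfl (Subtype.ext ?_)
    show a • u = c • u
    have : (c⁻¹ * a) • u = u := hmem.2
    rwa [mul_smul, inv_smul_eq_iff] at this
  have hsurj : Function.Surjective Φ := by
    refine ((Nat.bijective_iff_injective_and_card Φ).2 ⟨hinj, ?_⟩).2
    have h1' := Nat.card_le_card_of_injective Φ hinj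
    rw [Nat.card_prod, Nat.card_fin, h.card_singular h0] at *
    omega
  obtain ⟨g, x, hg, hg3, hg1, hfix, hx0, hxq⟩ := h.exists_three_fixed h0
  obtain ⟨⟨i, _, a, rfl⟩, hp⟩ := hsurj ⟨x, hx0, hxq⟩
  have hx : h.powD i (a • u) = x := congrArg Subtype.val hp
  rw [← hx, h.powD_lift hg] at hfix
  have e2 := congrArg (h.powD (2 * (i : ℕ))) hfix
  rw [← h.powD_add, ← h.powD_add, show 2 * (i : ℕ) + i = 3 * i by omega, h.powD_three_mul, h.powD_three_mul]
    at e2
  have hs : Equiv.Perm.sign ((a : P6)⁻¹ * g * (a : P6)) = 1 := by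
    rw [map_mul, map_mul, map_inv, hsigns a, hg, inv_one, one_mul, one_mul]
  have hmem : (a : P6)⁻¹ * g * (a : P6) ∈ h.stab u := ⟨hs, by
    have hai : Equiv.Perm.sign (a : P6)⁻¹ = 1 := by rw [map_inv, hsigns a, inv_one]
    rw [mul_assoc, h.lift_mul hai (by rw [map_mul, hg, hsigns a, one_mul]), h.lift_mul hg (hsigns a)]
    show h.lift (a : P6)⁻¹ • h.lift g • (a • u) = u
    rw [e2]
    show h.lift (a : P6)⁻¹ • h.lift (a : P6) • u = u
    rw [← h.lift_mul hai (hsigns a), inv_mul_cancel, h.lift_one]⟩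
  have h4 := TensorTables.tList_order _ (hc _ hmem)
  apply hg1
  have h4' : g * g * (g * g) = 1 := by
    have := congrArg (fun y => (a : P6) * y * (a : P6)⁻¹) h4
    simp only [mul_one, mul_inv_cancel] at this
    rw [← this]; group
  rwa [← mul_assoc, hg3, one_mul] at h4'

end Setup

end Cfsg.Agent.ExtraTwoNine
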