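import Cfsg.Agent.Lib.ExtraTwoNine.CoordSum
import Cfsg.Agent.Lib.ExtraTwoNine.CoordTensor

/-!
The tensor module: fifteen vectors attached to the pairs of points and the basis built from them.
-/

set_option autoImplicit false
set_option linter.unusedSectionVars false
set_option maxRecDepth 20000

namespace Cfsg.Agent.ExtraTwoNine

open Cfsg.Agent.LargeExtra.SixTwo CoordPerm

universe u v

namespace TenTables

/-- The Gram matrix. -/
def gram (i j : ℕ) : ZMod 2 :=
  if (i < 4 ↔ j < 4) then 0 else if i % 4 + 1 = j % 4 ∨ j % 4 + 1 = i % 4 then 1 else 0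

theorem q_table : ∀ n : Fin 256, qAcc (fun _ => 0) gram 8 n = if qv Kind.tensor n then 1 else 0 := by
  decide +kernel

theorem nd_table : ∀ n : Fin 256, n ≠ 0 → ∃ j : Fin 8, bAcc gram n j ≠ 0 := by
  decide +kernel

theorem fix_table : ∀ n : Fin 256, ap (img Kind.tensor 1 t1 false) n = n →
    ap (img Kind.tensor 1 t2 false) n = n → ap (img Kind.tensor 1 ea false) n = n →
    (n : ℕ) = 0 ∨ (n : ℕ) = tens 1 (coord4 (2 ^ 4 ^^^ 2 ^ 5)) ∨
    (n : ℕ) = tens 2 (coord4 (2 ^ 4 ^^^ 2 ^ 5)) ∨ (n : ℕ) = tens 3 (coord4 (2 ^ 4 ^^^ 2 ^ 5)) := by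
  decide +kernel

theorem pair_gens : ∀ g ∈ [t1, t2, ea], g 4 = 4 ∧ g 5 = 5 ∨ g 4 = 5 ∧ g 5 = 4 := by
  decide +kernel

theorem e2_apply : TensorTables.e2 3 = 4 ∧ TensorTables.e2 4 = 5 ∧ TensorTables.e2 5 = 3 ∧
    ea 3 = 3 ∧ ea 4 = 4 ∧ ea 5 = 5 := by
  decide +kernel

theorem wi_ea : ea * TensorTables.wi = TensorTables.wi * (ea * ea) := by
  decide +kernel

theorem coord_lt : ∀ i j : Fin 6, coord4 (2 ^ (i : ℕ) ^^^ 2 ^ (j : ℕ)) < 16 := by
  decide +kernel

theorem coord_surj : ∀ n : Fin 16, n ≠ 0 →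
    ∃ i j : Fin 6, i ≠ j ∧ coord4 (2 ^ (i : ℕ) ^^^ 2 ^ (j : ℕ)) = n := by
  decide +kernel

/-- The five-point coordinates of a point. -/
def pnt (i : Fin 6) : Fin 5 → ZMod 2 := fun m => if (m : ℕ) = i then 1 else 0

theorem coord_pnt : ∀ i j : Fin 6, i ≠ j →
    (∑ k : Fin 4, if (coord4 (2 ^ (i : ℕ) ^^^ 2 ^ (j : ℕ))).testBit k then
      pnt ⟨k, by omega⟩ + pnt ⟨(k : ℕ) + 1, by omega⟩ else 0) = pnt i + pnt j ∨
    (∑ k : Fin 4, if (coord4 (2 ^ (i : ℕ) ^^^ 2 ^ (j : ℕ))).testBit k then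
      pnt ⟨k, by omega⟩ + pnt ⟨(k : ℕ) + 1, by omega⟩ else 0) = pnt i + pnt j + fun _ => 1 := by
  decide +kernel

theorem mover : ∀ i j : Fin 6, i ≠ j → ¬(i = 4 ∧ j = 5) → ¬(i = 5 ∧ j = 4) → ∃ g ∈ [t2, ea],
    ∃ p q r : Fin 6, p ≠ q ∧ q ≠ r ∧ p ≠ r ∧ (i = p ∧ j = q ∨ i = q ∧ j = p) ∧
      (g i = p ∧ g j = r ∨ g i = r ∧ g j = p) := by
  decide +kernel

theorem cyc_pow : ∀ k t : Fin 3, (((cyc ^ (k : ℕ)) t : Fin 3) : ℕ) = ((k : ℕ) + t) % 3 := by
  decide +kernel

theorem cyc_val : ∀ r : Fin 3, ((cyc r : Fin 3) : ℕ) = ((r : ℕ) + 1) % 3 := by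
  decide +kernel

theorem tens_lt : ∀ q : Fin 4, ∀ w : Fin 16, tens q w < 256 := by
  decide +kernel

end TenTables

/-- Fifteen singular vectors attached to the pairs of points. -/
structure Ten {M : Type u} {V : Type v} [Group M] [AddCommGroup V] [DistribMulAction M V]
    (h : Setup M V) where
  /-- The vectors. -/
  δ : Fin 6 → Fin 6 → V
  fpf : ∀ x : V, h.D x = x → x = 0
  act : ∀ g : P6, Equiv.Perm.sign g = 1 → ∀ i j, h.lift g • δ i j = δ (g i) (g j)
  symm : ∀ i j, δ i j = δ j i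
  ne_zero : ∀ i j, i ≠ j → δ i j ≠ 0
  zero : ∀ i, δ i i = 0
  sing : ∀ i j, h.F.q (δ i j) = 0

namespace Setup

variable {M : Type u} {V : Type v} [Group M] [AddCommGroup V] [DistribMulAction M V] [Finite V]
variable (h : Setup M V)

/-- The stabiliser of a pair fixes a vector, after an automorphism. -/
theorem exists_four {u : V} (h1 : t1 ∈ h.stab u) (h2 : t2 ∈ h.stab u)
    (hg : ∃ g ∈ h.stab u, code g ∉ tList) :
    ∃ (θ : P6 ≃* P6) (hθ : ∀ b, Equiv.Perm.sign (θ b) = Equiv.Perm.sign b),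
      ∀ g : P6, Equiv.Perm.sign g = 1 → (g 4 = 4 ∧ g 5 = 5 ∨ g 4 = 5 ∧ g 5 = 4) →
        g ∈ (h.twist θ hθ).stab u := by
  obtain ⟨g, hg, hgn⟩ := hg
  have hne : Equiv.Perm.sign g ≠ -1 := by rw [hg.1]; decide
  have hr := (t_table g).resolve_left hgn |>.resolve_right hne
  simp only [List.any_eq_true, Bool.and_eq_true, Bool.or_eq_true, decide_eq_true_eq] at hr
  obtain ⟨e, -, -, he⟩ := hr
  have hw : eval [t1, t2, g] e.2 ∈ h.stab u := eval_mem _ (by simp [h1, h2, hg]) _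
  rcases he with he | he <;> rw [he] at hw
  · refine ⟨MulEquiv.refl _, fun b => rfl, fun k hk hk4 => ?_⟩
    have ht := (four_table k hk4).resolve_right (by rw [hk]; decide)
    rw [Bool.and_eq_true] at ht
    refine (h.twist _ _).mem_stab_of_word (gens := [t1, t2, ea]) ?_ ht.1
    intro a ha
    have := h.twist_stab (MulEquiv.refl P6) (fun b => rfl) (g := a) (x := u)
    simp only [List.mem_cons, List.not_mem_nil, or_false] at ha
    rcases ha with rfl | rfl | rfl
    · exact this h1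
    · exact this h2
    · exact this hw
  · refine ⟨theta, sign_theta, fun k hk hk4 => ?_⟩
    have ht := (four_table k hk4).resolve_right (by rw [hk]; decide)
    rw [Bool.and_eq_true] at ht
    refine (h.twist _ _).mem_stab_of_word (gens := [tht1, tht2, theb]) ?_ ht.2
    intro a ha
    simp only [List.mem_cons, List.not_mem_nil, or_false] at ha
    rcases ha with rfl | rfl | rfl
    · have := h.twist_stab theta sign_theta h1
      rwa [theta_apply, theta_gens.2.2.1] at this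
    · have := h.twist_stab theta sign_theta h2
      rwa [theta_apply, theta_gens.2.2.2] at this
    · have := h.twist_stab theta sign_theta hw
      rwa [theta_apply, theta_gens.2.1] at this

open Classical in
/-- The fifteen vectors from one. -/
theorem exists_ten (h0 : ∀ x : V, h.D x = x → x = 0) {u : V} (hu : u ≠ 0) (hq : h.F.q u = 0)
    (hst : ∀ g : P6, Equiv.Perm.sign g = 1 → (g 4 = 4 ∧ g 5 = 5 ∨ g 4 = 5 ∧ g 5 = 4) → g ∈ h.stab u) :
    Nonempty (Ten h) := by
  let δ : Fin 6 → Fin 6 → V := fun i j =>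
    if hij : i ≠ j then h.lift (SumTables.exists_pair_perm hij).choose • u else 0
  have hwd : ∀ g : P6, Equiv.Perm.sign g = 1 → ∀ i j : Fin 6, i ≠ j →
      (g 4 = i ∧ g 5 = j ∨ g 4 = j ∧ g 5 = i) → h.lift g • u = δ i j := by
    intro g hg i j hij hgij
    simp only [δ, dif_pos hij]
    obtain ⟨t4, t5, ht⟩ := (SumTables.exists_pair_perm hij).choose_spec
    set t := (SumTables.exists_pair_perm hij).choose
    have hs : Equiv.Perm.sign (t⁻¹ * g) = 1 := by rw [map_mul, map_inv, ht, hg, inv_one, one_mul]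
    have hti : ∀ a b : Fin 6, t a = b → t⁻¹ b = a := fun a b e => by rw [Equiv.Perm.inv_eq_iff_eq, e]
    have hp : (t⁻¹ * g) 4 = 4 ∧ (t⁻¹ * g) 5 = 5 ∨ (t⁻¹ * g) 4 = 5 ∧ (t⁻¹ * g) 5 = 4 := by
      rcases hgij with ⟨a, b⟩ | ⟨a, b⟩
      · left; simp only [Equiv.Perm.mul_apply, a, b]; exact ⟨hti _ _ t4, hti _ _ t5⟩
      · right; simp only [Equiv.Perm.mul_apply, a, b]; exact ⟨hti _ _ t5, hti _ _ t4⟩
    conv_lhs => rw [← mul_inv_cancel_left t g, h.lift_mul ht hs, (hst _ hs hp).2]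
  refine ⟨⟨δ, h0, fun g hg i j => ?_, fun i j => ?_, fun i j hij => ?_, fun i => ?_, fun i j => ?_⟩⟩
  · by_cases hij : i = j
    · subst hij; simp [δ]
    · obtain ⟨a, a4, a5, ha⟩ := SumTables.exists_pair_perm hij
      rw [← hwd a ha i j hij (Or.inl ⟨a4, a5⟩), ← h.lift_mul hg ha]
      exact hwd _ (by rw [map_mul, hg, ha, one_mul]) _ _ (fun e => hij (g.injective e))
        (Or.inl ⟨by rw [Equiv.Perm.mul_apply, a4], by rw [Equiv.Perm.mul_apply, a5]⟩)
  · by_cases hij : i = j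
    · rw [hij]
    · obtain ⟨a, a4, a5, ha⟩ := SumTables.exists_pair_perm hij
      rw [← hwd a ha i j hij (Or.inl ⟨a4, a5⟩)]
      exact hwd a ha j i (Ne.symm hij) (Or.inr ⟨a4, a5⟩)
  · simp only [δ, dif_pos hij]
    exact fun e => hu (MulAction.injective _ (e.trans (smul_zero _).symm))
  · simp [δ]
  · by_cases hij : i = j
    · simp [δ, hij, h.F.q_zero]
    · simp only [δ, dif_pos hij]
      exact (h.lift_iso _ _).trans hq

end Setup

namespace Ten

variable {M : Type u} {V : Type v} [Group M] [AddCommGroup V] [DistribMulAction M V] [Finite V]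
variable {h : Setup M V} (T : Ten h)
include T

theorem e2_moves : h.lift TensorTables.e2 • T.δ 4 5 ≠ T.δ 4 5 := fun e => by
  have hf : f ∈ h.stab (T.δ 4 5) := TensorTables.word_f ▸ eval_mem _ (by
    intro g hg
    simp only [List.mem_cons, List.not_mem_nil, or_false] at hg
    rcases hg with rfl | rfl | rfl | rfl
    · refine ⟨even_gens _ (by simp), ?_⟩
      rw [T.act _ (even_gens _ (by simp))]
      rcases TenTables.pair_gens t1 (by simp) with ⟨a, b⟩ | ⟨a, b⟩ <;> rw [a, b]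
      exact T.symm 5 4
    · refine ⟨even_gens _ (by simp), ?_⟩
      rw [T.act _ (even_gens _ (by simp))]
      rcases TenTables.pair_gens t2 (by simp) with ⟨a, b⟩ | ⟨a, b⟩ <;> rw [a, b]
      exact T.symm 5 4
    · refine ⟨even_gens _ (by simp), ?_⟩
      rw [T.act _ (even_gens _ (by simp))]
      rcases TenTables.pair_gens ea (by simp) with ⟨a, b⟩ | ⟨a, b⟩ <;> rw [a, b]
      exact T.symm 5 4
    · exact ⟨TensorTables.signs.1, e⟩) _
  exact T.ne_zero 4 5 (by decide) (h.f_fpf T.fpf hf.2)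

theorem triangle_base : T.δ 3 4 + T.δ 4 5 + T.δ 3 5 = 0 := by
  obtain ⟨a3, a4, a5, b3, b4, b5⟩ := TenTables.e2_apply
  have se : Equiv.Perm.sign ea = 1 := even_gens ea (by simp)
  have s2 := TensorTables.signs.1
  obtain ⟨c1, c2, c3, -, -, c6, -, -, -⟩ := TensorTables.cubes
  let F : AddSubgroup V :=
    { carrier := {x | h.lift ea • x = x}
      add_mem' := fun {x y} hx hy => by simp only [Set.mem_setOf_eq] at *; rw [smul_add, hx, hy]
      zero_mem' := smul_zero _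
      neg_mem' := fun {x} hx => by simp only [Set.mem_setOf_eq] at *; rw [smul_neg, hx] }
  have hδF : T.δ 4 5 ∈ F := by
    show h.lift ea • _ = _
    rw [T.act _ se, b4, b5]
  have hFD : ∀ x ∈ F, h.D x ∈ F := fun x hx => by
    show h.lift ea • h.D x = h.D x
    rw [h.D_lift se, show h.lift ea • x = x from hx]
  have hF16 : Nat.card F = 16 := by
    obtain ⟨c, hc, hc3⟩ := h.real_fix T.fpf se TensorTables.signs.2 c1 TensorTables.inverts.1 ⊤
      (fun _ _ => trivial) (fun _ _ => trivial) (fun _ _ => trivial)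
    rw [AddSubgroup.card_top, h.card,
      show Nat.card {x // x ∈ (⊤ : AddSubgroup V) ∧ h.lift ea • x = x} = Nat.card F from
        Nat.card_congr (Equiv.subtypeEquivRight fun x => by simp; rfl)] at hc
    have h256 : Nat.card F ≠ 256 := fun e => by
      have htop : F = ⊤ := AddSubgroup.eq_top_of_card_eq F (e.trans h.card.symm)
      have := congrArg Prod.snd (h.faithful (h.lift ea) fun x => (htop.symm ▸ AddSubgroup.mem_top x : x ∈ F))
      rw [h.lift_ψ se] at this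
      exact c6 this
    have h1 : Nat.card F ≠ 1 := fun e => T.ne_zero 4 5 (by decide) (by
      have := (Nat.card_eq_one_iff_unique.1 e).1
      exact congrArg Subtype.val (Subsingleton.elim (⟨_, hδF⟩ : F) 0))
    have hcle : c ≤ 16 := by
      by_contra hgt
      have := Nat.mul_le_mul (show 1 ≤ Nat.card F from Nat.card_pos)
        (Nat.mul_le_mul (show 17 ≤ c by omega) (show 17 ≤ c by omega))
      omega
    interval_cases c <;> omega
  obtain ⟨c, hc, hc3⟩ := h.real_fix T.fpf s2 TensorTables.signs.2 c2 TensorTables.inverts.2.1 F hFD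
    (fun x hx => by
      show h.lift ea • h.lift TensorTables.e2 • x = _
      rw [← h.lift_mul se s2, c3, h.lift_mul s2 se, show h.lift ea • x = x from hx])
    (fun x hx => by
      show h.lift ea • h.lift TensorTables.wi • x = _
      rw [← h.lift_mul se TensorTables.signs.2, TenTables.wi_ea,
        h.lift_mul TensorTables.signs.2 (by rw [map_mul, se, one_mul]), h.lift_mul se se,
        show h.lift ea • x = x from hx, show h.lift ea • x = x from hx])
  rw [hF16] at hc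
  let K : AddSubgroup V :=
    { carrier := {x | x ∈ F ∧ h.lift TensorTables.e2 • x = x}
      add_mem' := fun {x y} hx hy => ⟨add_mem hx.1 hy.1, by rw [smul_add, hx.2, hy.2]⟩
      zero_mem' := ⟨zero_mem _, smul_zero _⟩
      neg_mem' := fun {x} hx => ⟨neg_mem hx.1, by rw [smul_neg, hx.2]⟩ }
  rw [show Nat.card {x // x ∈ F ∧ h.lift TensorTables.e2 • x = x} = Nat.card K from rfl] at hc
  have hK : Nat.card K ≠ 16 := fun e => T.e2_moves (by
    have heq : K = F := AddSubgroup.eq_of_le_of_card_ge (fun x hx => hx.1) (by rw [e, hF16])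
    exact (heq.symm ▸ hδF : T.δ 4 5 ∈ K).2)
  have hcle : c ≤ 4 := by
    by_contra hgt
    have := Nat.mul_le_mul (show 1 ≤ Nat.card K from Nat.card_pos)
      (Nat.mul_le_mul (show 5 ≤ c by omega) (show 5 ≤ c by omega))
    omega
  have hK1 : Nat.card K = 1 := by interval_cases c <;> omega
  have hmem : T.δ 3 4 + T.δ 4 5 + T.δ 3 5 ∈ K := by
    refine ⟨?_, ?_⟩
    · show h.lift ea • _ = _
      rw [smul_add, smul_add, T.act _ se, T.act _ se, T.act _ se, b3, b4, b5]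
    · rw [smul_add, smul_add, T.act _ s2, T.act _ s2, T.act _ s2, a3, a4, a5, T.symm 5 3, T.symm 4 3]
      abel
  have := (Nat.card_eq_one_iff_unique.1 hK1).1
  exact congrArg Subtype.val (Subsingleton.elim (⟨_, hmem⟩ : K) 0)

theorem add_eq {i j k : Fin 6} (hij : i ≠ j) (hjk : j ≠ k) (hik : i ≠ k) :
    T.δ i j + T.δ j k = T.δ i k := by
  obtain ⟨g, g4, g5, g3, hg⟩ := exists_triple j k i hjk hij.symm hik.symm
  have e := congrArg (h.lift g • ·) T.triangle_base
  simp only [smul_add, smul_zero, T.act g hg, g3, g4, g5] at e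
  rw [← add_zero (T.δ i j + T.δ j k), ← h.F.two (T.δ i k), ← add_assoc, e, zero_add]

/-- The vector of a point. -/
theorem eps_eq {i j : Fin 6} (hij : i ≠ j) : T.δ i j = T.δ i 5 + T.δ j 5 := by
  by_cases hi : i = 5
  · rw [hi, T.zero, zero_add, T.symm]
  by_cases hj : j = 5
  · rw [hj, T.zero, add_zero]
  rw [T.symm j 5, T.add_eq hi (Ne.symm hj) hij]

theorem b_adj {i j k : Fin 6} (hij : i ≠ j) (hjk : j ≠ k) : h.F.b (T.δ i j) (T.δ j k) = 0 := by
  by_cases hik : i = k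
  · rw [hik, T.symm k j, b_self]
  have e := h.F.polar (T.δ i j) (T.δ j k)
  rw [T.add_eq hij hjk hik, T.sing, T.sing, T.sing, add_zero, zero_add] at e
  exact e.symm

theorem b_zero (i j k l : Fin 6) : h.F.b (T.δ i j) (T.δ k l) = 0 := by
  by_cases hij : i = j
  · rw [hij, T.zero, h.F.b_zero_left]
  by_cases hkl : k = l
  · rw [hkl, T.zero, h.F.b_zero_right]
  by_cases hjk : j = k
  · subst hjk; exact T.b_adj hij hkl
  by_cases hjl : j = l
  · subst hjl; rw [T.symm k j]; exact T.b_adj hij (Ne.symm hkl)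
  rw [← T.add_eq (Ne.symm hjk) hjl hkl, h.F.add_right, T.symm k j, T.b_adj hij hjk, T.b_adj hij hjl, add_zero]

theorem beta_comm (i j k l : Fin 6) :
    h.F.b (T.δ i j) (h.D (T.δ k l)) = h.F.b (T.δ k l) (h.D (T.δ i j)) := by
  rw [h.b_D_comm T.fpf (T.δ k l) (T.δ i j), T.b_zero, add_zero]

theorem beta_adj {i j k : Fin 6} (hij : i ≠ j) (hjk : j ≠ k) (hik : i ≠ k) :
    h.F.b (T.δ i j) (h.D (T.δ j k)) = h.F.b (T.δ 3 4) (h.D (T.δ 4 5)) := by
  obtain ⟨g, g4, g5, g3, hg⟩ := exists_triple j k i hjk hij.symm hik.symm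
  rw [← g3, ← g4, ← g5, ← T.act g hg, ← T.act g hg, ← h.D_lift hg, h.smul_b]

theorem beta_disj {i j k l : Fin 6} (hij : i ≠ j) (hkl : k ≠ l) (hik : i ≠ k) (hil : i ≠ l)
    (hjk : j ≠ k) (hjl : j ≠ l) : h.F.b (T.δ i j) (h.D (T.δ k l)) = 0 := by
  rw [← T.add_eq (Ne.symm hjk) hjl hkl, map_add, h.F.add_right, T.symm k j, T.beta_adj hij hjk hik,
    T.beta_adj hij hjl hil, add_self']

omit T in
theorem psi_add (T : Ten h) (c c' : Fin 5 → ZMod 2) :
    (∑ m : Fin 5, sel ((c + c') m) (T.δ ⟨m, by omega⟩ 5)) =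
      (∑ m : Fin 5, sel (c m) (T.δ ⟨m, by omega⟩ 5)) + ∑ m : Fin 5, sel (c' m) (T.δ ⟨m, by omega⟩ 5) := by
  rw [← Finset.sum_add_distrib]
  exact Finset.sum_congr rfl fun m _ => sel_add h.F.two _ _ _

omit T in
/-- The span of the fifteen vectors. -/
def psi (T : Ten h) : (Fin 5 → ZMod 2) →+ V where
  toFun c := ∑ m : Fin 5, sel (c m) (T.δ ⟨m, by omega⟩ 5)
  map_zero' := by simp [sel]
  map_add' := T.psi_add

omit T in
/-- The vector of a code of the four-space. -/
def vec4 (T : Ten h) (n : ℕ) : V :=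
  ∑ k : Fin 4, if n.testBit k then T.δ ⟨k, by omega⟩ ⟨(k : ℕ) + 1, by omega⟩ else 0

omit T in
theorem psi_apply (T : Ten h) (c : Fin 5 → ZMod 2) :
    T.psi c = ∑ m : Fin 5, sel (c m) (T.δ ⟨m, by omega⟩ 5) := rfl

theorem psi_pnt (i : Fin 6) : T.psi (TenTables.pnt i) = T.δ i 5 := by
  show ∑ m : Fin 5, sel (TenTables.pnt i m) (T.δ ⟨m, by omega⟩ 5) = _
  rcases Nat.lt_or_ge (i : ℕ) 5 with hi | hi
  · rw [Finset.sum_eq_single ⟨i, hi⟩]
    · simp [TenTables.pnt, sel]
    · intro m _ hm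
      have : (m : ℕ) ≠ i := fun e => hm (Fin.ext e)
      simp [TenTables.pnt, this, sel]
    · simp
  · obtain rfl : i = 5 := Fin.ext (by have := i.2; show (i : ℕ) = 5; omega)
    rw [T.zero]
    refine Finset.sum_eq_zero fun m _ => ?_
    have : (m : ℕ) ≠ 5 := by have := m.2; omega
    simp [TenTables.pnt, this, sel]

theorem psi_ones : T.psi (fun _ => 1) = 0 := by
  have hsf : Equiv.Perm.sign f = 1 := even_gens f (by simp)
  have e : T.psi (fun _ => 1) = ∑ i : Fin 6, T.δ i 5 := by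
    rw [Fin.sum_univ_castSucc, show T.δ (Fin.last 5) 5 = 0 from T.zero 5, add_zero]
    show ∑ m : Fin 5, sel (1 : ZMod 2) (T.δ ⟨m, _⟩ 5) = _
    exact Finset.sum_congr rfl fun m _ => by rw [sel, if_pos rfl]; rfl
  rw [e]
  refine h.f_fpf T.fpf ?_
  rw [Finset.smul_sum, Finset.sum_congr rfl fun i _ => T.act f hsf i 5, SumTables.f_facts.2.2.1]
  exact Equiv.sum_comp f (fun i => T.δ i 5)

theorem vec4_eq (n : ℕ) : T.vec4 n = T.psi (∑ k : Fin 4, if n.testBit k then
      TenTables.pnt ⟨k, by omega⟩ + TenTables.pnt ⟨(k : ℕ) + 1, by omega⟩ else 0) := by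
  rw [map_sum, vec4]
  refine Finset.sum_congr rfl fun k _ => ?_
  split
  · rw [map_add, T.psi_pnt, T.psi_pnt, T.eps_eq (fun e => by simp only [Fin.ext_iff] at e; omega)]
  · rw [map_zero]

theorem vec4_coord {i j : Fin 6} (hij : i ≠ j) :
    T.vec4 (coord4 (2 ^ (i : ℕ) ^^^ 2 ^ (j : ℕ))) = T.δ i j := by
  rcases TenTables.coord_pnt i j hij with e | e <;> rw [T.vec4_eq, e]
  · rw [map_add, T.psi_pnt, T.psi_pnt, ← T.eps_eq hij]
  · rw [map_add, T.psi_ones, add_zero, map_add, T.psi_pnt, T.psi_pnt, ← T.eps_eq hij]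

theorem vec4_ne {n : ℕ} (hn : n < 16) (h0 : n ≠ 0) : T.vec4 n ≠ 0 := by
  obtain ⟨i, j, hij, e⟩ := TenTables.coord_surj ⟨n, hn⟩ (fun e => h0 (congrArg Fin.val e))
  have e' : coord4 (2 ^ (i : ℕ) ^^^ 2 ^ (j : ℕ)) = n := e
  rw [← e', T.vec4_coord hij]
  exact T.ne_zero i j hij

theorem vec4_xor (a b : ℕ) : T.vec4 (a ^^^ b) = T.vec4 a + T.vec4 b := by
  rw [vec4, vec4, vec4, ← Finset.sum_add_distrib]
  refine Finset.sum_congr rfl fun i _ => ?_
  rw [Nat.testBit_xor]
  cases a.testBit i <;> cases b.testBit i <;> simp [h.F.two]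

/-- The two forms of the product: adjacent pairs are not orthogonal. -/
theorem beta_one : h.F.b (T.δ 3 4) (h.D (T.δ 4 5)) = 1 := by
  refine (zmod_two _).resolve_left fun e => ?_
  have hall : ∀ i j k l : Fin 6, h.F.b (T.δ i j) (h.D (T.δ k l)) = 0 := by
    intro i j k l
    by_cases hij : i = j
    · rw [hij, T.zero, h.F.b_zero_left]
    by_cases hkl : k = l
    · rw [hkl, T.zero, map_zero, h.F.b_zero_right]
    have adj : ∀ a b c : Fin 6, a ≠ b → b ≠ c → h.F.b (T.δ a b) (h.D (T.δ b c)) = 0 := by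
      intro a b c hab hbc
      by_cases hac : a = c
      · rw [hac, T.symm c b, h.b_D T.fpf, T.sing]
      · rw [T.beta_adj hab hbc hac, e]
    by_cases hjk : j = k
    · subst hjk; exact adj i j l hij hkl
    by_cases hjl : j = l
    · subst hjl; rw [T.symm k j]; exact adj i j k hij (Ne.symm hkl)
    by_cases hik : i = k
    · subst hik; rw [T.symm i j]; exact adj j i l (Ne.symm hij) hkl
    by_cases hil : i = l
    · subst hil; rw [T.symm i j, T.symm k i]; exact adj j i k (Ne.symm hij) (Ne.symm hkl)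
    exact T.beta_disj hij hkl hik hil hjk hjl
  let W1 : AddSubgroup V := T.psi.range
  let S : AddSubgroup V := W1 ⊔ W1.map h.D
  have hpp : ∀ c c', h.F.b (T.psi c) (T.psi c') = 0 ∧ h.F.b (T.psi c) (h.D (T.psi c')) = 0 := by
    intro c c'
    constructor
    · rw [T.psi_apply c, b_sum_left]
      refine Finset.sum_eq_zero fun m _ => ?_
      rw [b_sel, b_comm', T.psi_apply c', b_sum_left, Finset.sum_eq_zero, mul_zero]
      intro k _
      rw [b_sel, T.b_zero, mul_zero]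
    · rw [T.psi_apply c, b_sum_left]
      refine Finset.sum_eq_zero fun m _ => ?_
      rw [b_sel, b_comm', T.psi_apply c', map_sum, b_sum_left, Finset.sum_eq_zero, mul_zero]
      intro k _
      unfold sel
      split
      · rw [b_comm', hall]
      · rw [map_zero, h.F.b_zero_left]
  have hS : Nat.card S * Nat.card S ≤ Nat.card V := by
    refine isotropic_bound h.F S ?_
    intro x hx y hy
    obtain ⟨_, ⟨a, rfl⟩, _, hz, rfl⟩ := AddSubgroup.mem_sup.1 hx
    obtain ⟨_, ⟨a', rfl⟩, _, hz', rfl⟩ := AddSubgroup.mem_sup.1 hy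
    obtain ⟨_, ⟨b, rfl⟩, rfl⟩ := AddSubgroup.mem_map.1 hz
    obtain ⟨_, ⟨b', rfl⟩, rfl⟩ := AddSubgroup.mem_map.1 hz'
    rw [h.F.add_left, h.F.add_right, h.F.add_right, (hpp a a').1, (hpp a b').2,
      b_comm' h.F (h.D (T.psi b)), (hpp a' b).2, h.D_b, (hpp b b').1, add_zero, add_zero]
  rw [h.card] at hS
  have hS16 : Nat.card S ≤ 16 := by
    by_contra hgt
    have := Nat.mul_le_mul (show 17 ≤ Nat.card S by omega) (show 17 ≤ Nat.card S by omega)
    omega
  have hinj : Function.Injective fun n : Fin 16 => (⟨T.vec4 n, by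
      rw [T.vec4_eq]; exact AddSubgroup.mem_sup_left ⟨_, rfl⟩⟩ : S) := by
    intro a b e
    by_contra hne
    refine T.vec4_ne (Nat.xor_lt_two_pow (n := 4) a.2 b.2) (fun e0 => hne (Fin.ext (Nat.xor_eq_zero_iff.1 e0))) ?_
    rw [T.vec4_xor, show T.vec4 a = T.vec4 b from congrArg Subtype.val e, h.F.two]
  have hsurj : ∀ x ∈ S, ∃ n : Fin 16, T.vec4 n = x := fun x hx => by
    obtain ⟨n, hn⟩ := ((Nat.bijective_iff_injective_and_card _).2 ⟨hinj, by
      have := Nat.card_le_card_of_injective _ hinj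
      rw [Nat.card_fin] at this ⊢
      omega⟩).2 ⟨x, hx⟩
    exact ⟨n, congrArg Subtype.val hn⟩
  obtain ⟨n, hn⟩ := hsurj (h.D (T.δ 4 5)) (AddSubgroup.mem_sup_right (AddSubgroup.mem_map_of_mem h.D (by
    rw [T.eps_eq (by decide), ← T.psi_pnt 4, ← T.psi_pnt 5, ← map_add]; exact ⟨_, rfl⟩)))
  have hδ := T.ne_zero 4 5 (by decide)
  by_cases hn0 : (n : ℕ) = 0
  · rw [hn0, show T.vec4 0 = 0 by simp [vec4]] at hn
    exact hδ (by rw [← h.D_cube (T.δ 4 5), ← hn, map_zero, map_zero])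
  obtain ⟨i, j, hij, e'⟩ := TenTables.coord_surj n (fun e => hn0 (congrArg Fin.val e))
  rw [← e', T.vec4_coord hij] at hn
  have hne : h.D (T.δ 4 5) ≠ T.δ 4 5 := fun e => hδ (T.fpf _ e)
  obtain ⟨g, hgl, p, q, r, hpq, hqr, hpr, hij', hg'⟩ := TenTables.mover i j hij
    (by rintro ⟨rfl, rfl⟩; exact hne hn.symm)
    (by rintro ⟨rfl, rfl⟩; exact hne (hn.symm.trans (T.symm 5 4)))
  have hsg : Equiv.Perm.sign g = 1 ∧ (g 4 = 4 ∧ g 5 = 5 ∨ g 4 = 5 ∧ g 5 = 4) := by
    simp only [List.mem_cons, List.not_mem_nil, or_false] at hgl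
    rcases hgl with rfl | rfl
    · exact ⟨even_gens _ (by simp), TenTables.pair_gens _ (by simp)⟩
    · exact ⟨even_gens _ (by simp), TenTables.pair_gens _ (by simp)⟩
  have hfix : h.lift g • T.δ i j = T.δ i j := by
    rw [hn, h.D_lift hsg.1, T.act g hsg.1]
    rcases hsg.2 with ⟨a, b⟩ | ⟨a, b⟩ <;> rw [a, b]
    rw [T.symm 5 4]
  rw [T.act g hsg.1] at hfix
  have e1 : T.δ i j = T.δ p q := by
    rcases hij' with ⟨rfl, rfl⟩ | ⟨rfl, rfl⟩
    · rfl
    · exact T.symm _ _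
  have e2 : T.δ (g i) (g j) = T.δ p r := by
    rcases hg' with ⟨a, b⟩ | ⟨a, b⟩ <;> rw [a, b]
    exact T.symm _ _
  apply T.ne_zero q r hqr
  rw [← h.F.two (T.δ p q)]
  conv_rhs => arg 1; rw [← e1, ← hfix, e2]
  rw [add_comm, T.symm p q, T.add_eq hpq.symm hpr hqr]

omit T in
/-- The basis. -/
noncomputable def basisOf (T : Ten h) (c : ℕ) (i : Fin 8) : V :=
  h.powD (c + (i : ℕ) / 4) (T.δ ⟨(i : ℕ) % 4, by omega⟩ ⟨(i : ℕ) % 4 + 1, by omega⟩)

theorem gram (c : ℕ) : ∀ i j : Fin 8, i < j →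
    h.F.b (T.basisOf c i) (T.basisOf c j) = TenTables.gram i j := by
  intro i j hij
  have hij' : (i : ℕ) < j := hij
  simp only [basisOf, TenTables.gram]
  by_cases hiff : ((i : ℕ) < 4 ↔ (j : ℕ) < 4)
  · rw [if_pos hiff, show (i : ℕ) / 4 = (j : ℕ) / 4 by omega, h.powD_b, T.b_zero]
  rw [if_neg hiff, show (i : ℕ) / 4 = 0 by omega, show c + (j : ℕ) / 4 = c + 1 by omega, Nat.add_zero,
    h.powD_add c 1, h.powD_b]
  show h.F.b _ (h.D _) = _
  split
  · rename_i hadj
    rcases hadj with e | e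
    · rw [show (⟨(j : ℕ) % 4, by omega⟩ : Fin 6) = ⟨(i : ℕ) % 4 + 1, by omega⟩ from Fin.ext e.symm,
        T.beta_adj (fun e' => by simp only [Fin.ext_iff] at e'; omega) (fun e' => by simp only [Fin.ext_iff] at e'; omega)
          (fun e' => by simp only [Fin.ext_iff] at e'; omega), T.beta_one]
    · rw [show (⟨(i : ℕ) % 4, by omega⟩ : Fin 6) = ⟨(j : ℕ) % 4 + 1, by omega⟩ from Fin.ext e.symm,
        T.beta_comm, T.beta_adj (fun e' => by simp only [Fin.ext_iff] at e'; omega)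
          (fun e' => by simp only [Fin.ext_iff] at e'; omega) (fun e' => by simp only [Fin.ext_iff] at e'; omega), T.beta_one]
  · rename_i hadj
    by_cases he : (i : ℕ) % 4 = (j : ℕ) % 4
    · rw [show (⟨(j : ℕ) % 4, by omega⟩ : Fin 6) = ⟨(i : ℕ) % 4, by omega⟩ from Fin.ext he.symm,
        show (⟨(j : ℕ) % 4 + 1, by omega⟩ : Fin 6) = ⟨(i : ℕ) % 4 + 1, by omega⟩ from Fin.ext (by simp [he]),
        h.b_D T.fpf, T.sing]
    · push Not at hadj
      refine T.beta_disj ?_ ?_ ?_ ?_ ?_ ?_ <;> (intro e'; simp [Fin.ext_iff] at e'; try omega)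

theorem q_basis (c : ℕ) : ∀ i : Fin 8, h.F.q (T.basisOf c i) = (fun _ : ℕ => (0 : ZMod 2)) i := fun i => by
  simp only [basisOf, h.powD_q, T.sing]

theorem surj (c : ℕ) (x : V) : ∃ n < 256, vecOf (T.basisOf c) n = x :=
  surj_of_gram h.F _ TenTables.gram (T.gram c) h.card
    (fun n hn hn0 => TenTables.nd_table ⟨n, hn⟩ (fun e => hn0 (congrArg Fin.val e))) x

theorem vecOf_low (c : ℕ) {n : ℕ} (hn : n < 16) : vecOf (T.basisOf c) n = h.powD c (T.vec4 n) := by
  have hb : ∀ i, 4 ≤ i → n.testBit i = false := fun i hi =>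
    Nat.testBit_lt_two_pow (lt_of_lt_of_le hn (Nat.pow_le_pow_right (by norm_num : 0 < 2) hi))
  rw [vecOf, vec4, map_sum, Fin.sum_univ_eight, Fin.sum_univ_four]
  simp [hb, basisOf, apply_ite (h.powD c)]

theorem vecOf_high (c : ℕ) {n : ℕ} (hn : n < 16) :
    vecOf (T.basisOf c) (n <<< 4) = h.powD (c + 1) (T.vec4 n) := by
  rw [vecOf, vec4, map_sum, Fin.sum_univ_eight, Fin.sum_univ_four]
  simp [basisOf, Nat.testBit_shiftLeft, apply_ite (h.powD (c + 1))]

theorem vecOf_tens (c : ℕ) (t : Fin 3) {i j : Fin 6} (hij : i ≠ j) :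
    vecOf (T.basisOf c) (tens ((t : ℕ) + 1) (coord4 (2 ^ (i : ℕ) ^^^ 2 ^ (j : ℕ)))) =
      h.powD (c + t) (T.δ i j) := by
  have hlt := TenTables.coord_lt i j
  generalize hw : coord4 (2 ^ (i : ℕ) ^^^ 2 ^ (j : ℕ)) = w at hlt
  have hv : T.vec4 w = T.δ i j := hw ▸ T.vec4_coord hij
  fin_cases t
  · show vecOf _ (w ^^^ 0) = _
    rw [Nat.xor_zero, T.vecOf_low c hlt, hv]
    rfl
  · show vecOf _ (0 ^^^ w <<< 4) = _
    rw [Nat.zero_xor, T.vecOf_high c hlt, hv]
  · show vecOf _ (w ^^^ w <<< 4) = _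
    rw [vecOf_xor h.F.two, T.vecOf_low c hlt, T.vecOf_high c hlt, hv, Nat.add_comm c 1, h.powD_add 1 c]
    show _ + h.D _ = h.powD (c + 2) _
    rw [Nat.add_comm c 2, h.powD_add 2 c]
    show _ = h.D (h.D _)
    generalize h.powD c (T.δ i j) = x
    rw [← add_zero (x + h.D x), ← h.F.two (h.D (h.D x)), ← add_assoc, h.sum_D T.fpf, zero_add]

omit T in
theorem img_getD (a : P3) (b : P6) (e : Bool) (i : Fin 8) : (img Kind.tensor a b e).getD i 0 =
    tens (((a ⟨(i : ℕ) / 4, by omega⟩ : Fin 3) : ℕ) + 1)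
      (coord4 (2 ^ ((b ⟨(i : ℕ) % 4, by omega⟩ : Fin 6) : ℕ) ^^^
        2 ^ ((b ⟨(i : ℕ) % 4 + 1, by omega⟩ : Fin 6) : ℕ))) := by
  fin_cases i <;> rfl

theorem vecOf_img (c : ℕ) (a : P3) (b : P6) (e : Bool) (i : Fin 8) :
    vecOf (T.basisOf c) ((img Kind.tensor a b e).getD i 0) =
      h.powD (c + (a ⟨(i : ℕ) / 4, by omega⟩ : Fin 3))
        (T.δ (b ⟨(i : ℕ) % 4, by omega⟩) (b ⟨(i : ℕ) % 4 + 1, by omega⟩)) := by
  rw [img_getD, T.vecOf_tens c _ (fun e' => by simpa [Fin.ext_iff] using b.injective e')]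

theorem lift_vecOf {g : P6} (hg : Equiv.Perm.sign g = 1) (n : ℕ) :
    h.lift g • vecOf (T.basisOf 0) n = vecOf (T.basisOf 0) (ap (img Kind.tensor 1 g false) n) := by
  rw [vecOf_ap h.F.two _ _ (img_length _ _ _ _), vecOf, Finset.smul_sum]
  refine Finset.sum_congr rfl fun i _ => ?_
  split
  · rw [T.vecOf_img, basisOf, h.powD_lift hg, T.act g hg]
    rfl
  · exact smul_zero _

/-- Vectors stabilised like the base pair. -/
theorem fixed_eq {x : V} (hx : x ≠ 0) (h1 : h.lift t1 • x = x) (h2 : h.lift t2 • x = x)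
    (h3 : h.lift ea • x = x) : ∃ r : Fin 3, x = h.powD r (T.δ 4 5) := by
  obtain ⟨n, hn, rfl⟩ := T.surj 0 x
  have hinj : ∀ a < 256, ∀ b < 256, vecOf (T.basisOf 0) a = vecOf (T.basisOf 0) b → a = b := by
    have hb : Function.Bijective fun n : Fin 256 => vecOf (T.basisOf 0) n :=
      (Nat.bijective_iff_surjective_and_card _).2 ⟨fun x => by
        obtain ⟨n, hn, e⟩ := T.surj 0 x
        exact ⟨⟨n, hn⟩, e⟩, by rw [Nat.card_fin, h.card]⟩
    intro a ha c hc e
    exact congrArg Fin.val (hb.1 (a₁ := ⟨a, ha⟩) (a₂ := ⟨c, hc⟩) e)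
  have hap : ∀ g ∈ [t1, t2, ea], h.lift g • vecOf (T.basisOf 0) n = vecOf (T.basisOf 0) n →
      ap (img Kind.tensor 1 g false) n = n := by
    intro g hgl hg
    have hs : Equiv.Perm.sign g = 1 := even_gens g (by
      simp only [List.mem_cons, List.not_mem_nil, or_false] at hgl ⊢; tauto)
    rw [T.lift_vecOf hs] at hg
    refine hinj _ (ap_lt _ _ fun y hy => ?_) _ hn hg
    obtain ⟨k, hk, rfl⟩ := List.getElem_of_mem hy
    rw [img_length] at hk
    rw [← List.getD_eq_getElem _ 0 (by rw [img_length]; exact hk)]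
    have e := img_getD (1 : P3) g false ⟨k, hk⟩
    simp only at e
    rw [e]
    exact TenTables.tens_lt ⟨_, by omega⟩ ⟨_, TenTables.coord_lt _ _⟩
  rcases TenTables.fix_table ⟨n, hn⟩ (hap _ (by simp) h1) (hap _ (by simp) h2) (hap _ (by simp) h3)
    with e | e | e | e
  · exact absurd (by rw [show n = 0 from e]; simp [vecOf] : vecOf (T.basisOf 0) n = 0) hx
  all_goals rw [show n = _ from e]
  · exact ⟨0, by simpa using T.vecOf_tens 0 0 (show (4 : Fin 6) ≠ 5 by decide)⟩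
  · exact ⟨1, by simpa using T.vecOf_tens 0 1 (show (4 : Fin 6) ≠ 5 by decide)⟩
  · exact ⟨2, by simpa using T.vecOf_tens 0 2 (show (4 : Fin 6) ≠ 5 by decide)⟩

theorem smul_base (m : M) (r : Fin 3) : ∃ r' : Fin 3,
    ∀ i j, i ≠ j → m • h.powD r (T.δ i j) = h.powD r' (T.δ ((h.ψ m).2 i) ((h.ψ m).2 j)) := by
  set s := (h.ψ m).2 with hs
  obtain ⟨t, t4, t5, ht⟩ :=
    SumTables.exists_pair_perm (i := s 4) (j := s 5) (fun e => absurd (s.injective e) (by decide))
  have hti : Equiv.Perm.sign t⁻¹ = 1 := by rw [map_inv, ht, inv_one]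
  set x := h.powD r (T.δ 4 5) with hx
  set y := h.lift t⁻¹ • m • x with hy
  have hx0 : x ≠ 0 := fun e => T.ne_zero 4 5 (by decide) (by
    have e' := congrArg (h.powD (2 * (r : ℕ))) e
    rwa [hx, ← h.powD_add, show 2 * (r : ℕ) + r = 3 * r by omega, h.powD_three_mul, map_zero] at e')
  have hy0 : y ≠ 0 := fun e => hx0 (MulAction.injective m
    ((MulAction.injective (h.lift t⁻¹) (e.trans (smul_zero _).symm)).trans (smul_zero m).symm))
  have hmy : m • x = h.lift t • y := by rw [hy, ← h.lift_mul ht hti, mul_inv_cancel, h.lift_one]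
  have hfix : ∀ g ∈ [t1, t2, ea], h.lift g • y = y := by
    intro g hgl
    have hg : Equiv.Perm.sign g = 1 := even_gens g (by
      simp only [List.mem_cons, List.not_mem_nil, or_false] at hgl ⊢; tauto)
    have hg' : Equiv.Perm.sign (t * g * t⁻¹) = 1 := by rw [map_mul, map_mul, ht, hg, hti, one_mul, one_mul]
    have hg'' : Equiv.Perm.sign (s⁻¹ * (t * g * t⁻¹) * s) = 1 := by
      rw [map_mul, map_mul, hg', map_inv, mul_one, inv_mul_cancel]
    have key := h.lift_conj m hg'' x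
    have hfixx : h.lift (s⁻¹ * (t * g * t⁻¹) * s) • x = x := by
      rw [hx, h.powD_lift hg'', T.act _ hg'']
      congr 1
      have i4 : t⁻¹ (s 4) = 4 := by rw [Equiv.Perm.inv_eq_iff_eq, t4]
      have i5 : t⁻¹ (s 5) = 5 := by rw [Equiv.Perm.inv_eq_iff_eq, t5]
      have j4 : s⁻¹ (s 4) = 4 := by rw [Equiv.Perm.inv_eq_iff_eq]
      have j5 : s⁻¹ (s 5) = 5 := by rw [Equiv.Perm.inv_eq_iff_eq]
      simp only [Equiv.Perm.mul_apply, i4, i5]
      rcases TenTables.pair_gens g hgl with ⟨a, b⟩ | ⟨a, b⟩ <;> rw [a, b, t4, t5, j4, j5]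
      exact T.symm 5 4
    rw [hfixx, ← hs, show s * (s⁻¹ * (t * g * t⁻¹) * s) * s⁻¹ = t * g * t⁻¹ by group, hmy] at key
    have key2 := congrArg (h.lift t⁻¹ • ·) key
    try simp only at key2
    rw [← h.lift_mul hti ht, inv_mul_cancel, h.lift_one, ← h.lift_mul hg' ht, inv_mul_cancel_right,
      h.lift_mul ht hg, ← h.lift_mul hti ht, inv_mul_cancel, h.lift_one] at key2
    exact key2.symm
  obtain ⟨r', hr'⟩ := T.fixed_eq hy0 (hfix t1 (by simp)) (hfix t2 (by simp)) (hfix ea (by simp))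
  refine ⟨r', fun i j hij => ?_⟩
  obtain ⟨g, g4, g5, hg⟩ := SumTables.exists_pair_perm hij
  have hg' : Equiv.Perm.sign (s * g * s⁻¹) = 1 := by simp [map_mul, map_inv, hg]
  rw [← g4, ← g5, ← T.act g hg, ← h.powD_lift hg, h.lift_conj m hg, ← hs, ← hx, hmy, hr',
    h.powD_lift ht, T.act t ht, t4, t5, h.powD_lift hg', T.act _ hg']
  simp

/-- The coordinates. -/
theorem exists_basis : Nonempty (Basis8 h) := by
  classical
  choose σ hσ using T.smul_base
  have hinj45 : ∀ a b : Fin 3, ∀ i j : Fin 6, i ≠ j → h.powD a (T.δ i j) = h.powD b (T.δ i j) → a = b := by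
    intro a b i j hij e
    have e' := congrArg (h.powD (2 * (a : ℕ))) e
    rw [← h.powD_add, ← h.powD_add, show 2 * (a : ℕ) + a = 3 * a by omega, h.powD_three_mul] at e'
    have := h.powD_fix T.fpf (T.ne_zero i j hij) e'.symm
    exact Fin.ext (by omega)
  have h45 : ∀ s : P6, s 4 ≠ s 5 := fun s e => absurd (s.injective e) (by decide)
  have huniq : ∀ m a b, m • h.powD (a : Fin 3) (T.δ 4 5) = h.powD (b : Fin 3) (T.δ ((h.ψ m).2 4) ((h.ψ m).2 5)) →
      σ m a = b := fun m a b e =>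
    hinj45 _ _ _ _ (h45 _) ((hσ m a 4 5 (by decide)).symm.trans e)
  have hσi : ∀ m, Function.Injective (σ m) := fun m a b e => by
    refine hinj45 a b 4 5 (by decide) (MulAction.injective m ?_)
    show m • _ = m • _
    rw [hσ m a 4 5 (by decide), hσ m b 4 5 (by decide), e]
  let pe : M → P3 := fun m => Equiv.ofBijective (σ m) (Finite.injective_iff_bijective.1 (hσi m))
  have hpe : ∀ m a, pe m a = σ m a := fun m a => rfl
  have hcyc : ∀ (a : Fin 3) (x : V), h.powD (cyc a) x = h.D (h.powD a x) := fun a x => by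
    rw [TenTables.cyc_val, ← h.powD_mod, Nat.add_comm, h.powD_add 1]
    rfl
  let p : M →* P3 :=
    { toFun := pe
      map_one' := Equiv.ext fun a => huniq 1 a a (by simp)
      map_mul' := fun m n => Equiv.ext fun a => huniq _ a _ (by
        rw [mul_smul, hσ n a 4 5 (by decide), hσ m _ _ _ (h45 _)]
        simp [hpe]) }
  have hdd : ∀ m, h.ψ m = (cyc, 1) → ∀ x : V, m • x = h.D x := fun m hm x => by
    rw [h.D_apply]; exact h.congr_ψ (hm.trans h.d_ψ.symm) x
  obtain ⟨k, hk⟩ := exists_shift h.ψ p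
    (fun m hm => Equiv.ext fun a => huniq m a _ (by
      rw [hdd m hm, hm, hcyc]
      rfl))
    (fun m hm1 hm2 => Equiv.ext fun a => huniq m a _ (by
      rw [h.congr_ψ (show h.ψ m = h.ψ (h.lift (h.ψ m).2) by rw [h.lift_ψ hm2]; exact Prod.ext hm1 rfl),
        h.powD_lift hm2, T.act _ hm2]
      rfl))
    ⟨h.d, h.d_ψ⟩ h.outer
    (fun m hm => Equiv.ext fun a => huniq m (cyc a) _ (by
      rw [hcyc, h.D_conj_even m hm, hσ m a 4 5 (by decide), ← hcyc]
      rfl))
    (fun m hm => Equiv.ext fun a => huniq m (cyc a) _ (by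
      rw [hcyc, h.D_conj_odd m hm, hσ m a 4 5 (by decide), ← hcyc, ← hcyc]
      rfl))
  refine ⟨{ kind := Kind.tensor, eps := fun _ => false, basis := T.basisOf k, surj := T.surj k,
            q_eq := ?_, act := ?_ }⟩
  · intro n hn
    exact (q_vecOf h.F _ _ TenTables.gram (T.q_basis k) (T.gram k) n).trans (TenTables.q_table ⟨n, hn⟩)
  · intro m i
    set t : Fin 3 := ⟨(i : ℕ) / 4, by omega⟩ with ht
    have hk' : ∀ (b : Fin 3) (x : V), h.powD ((k : ℕ) + b) x = h.powD ((cyc ^ (k : ℕ)) b) x := fun b x => by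
      rw [TenTables.cyc_pow, ← h.powD_mod]
    rw [T.vecOf_img, ← ht, hk', basisOf, show (i : ℕ) / 4 = (t : ℕ) from rfl, hk',
      hσ m _ _ _ (fun e => by simp only [Fin.ext_iff] at e; omega)]
    congr 3
    have := Equiv.ext_iff.1 (hk m) ((cyc ^ (k : ℕ)) t)
    rw [show p m = pe m from rfl, hpe] at this
    rw [this]
    simp

end Ten

namespace Setup

variable {M : Type u} {V : Type v} [Group M] [AddCommGroup V] [DistribMulAction M V] [Finite V]
variable (h : Setup M V)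

/-- Coordinates when the cycle has no fixed vector. -/
theorem exists_tensor (h0 : ∀ x : V, h.D x = x → x = 0) :
    ∃ (θ : P6 ≃* P6) (hθ : ∀ b, Equiv.Perm.sign (θ b) = Equiv.Perm.sign b),
      Nonempty (Basis8 (h.twist θ hθ)) := by
  obtain ⟨u, hu, hq, h1, h2⟩ := h.exists_sylow_fixed h0
  obtain ⟨θ, hθ, hst⟩ := h.exists_four h1 h2 (h.exists_larger h0 hu hq h1 h2)
  refine ⟨θ, hθ, ?_⟩
  obtain ⟨T⟩ := (h.twist θ hθ).exists_ten (by rw [h.twist_D θ hθ]; exact h0) hu hq hst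
  exact T.exists_basis

end Setup

end Cfsg.Agent.ExtraTwoNine
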