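import Cfsg.Agent.Lib.ExtraTwoNine.CoordMod

/-!
Tools for the coordinates: Gram matrices, orthogonal decompositions, change of the automorphism.
-/

set_option autoImplicit false
set_option linter.unusedSectionVars false

namespace Cfsg.Agent.ExtraTwoNine

open Cfsg.Agent.LargeExtra.SixTwo CoordPerm

universe u v

/-- The form on a combination of the first `k` basis vectors. -/
def qAcc (d : ℕ → ZMod 2) (G : ℕ → ℕ → ZMod 2) : ℕ → ℕ → ZMod 2
  | 0, _ => 0
  | k + 1, n => qAcc d G k n + if n.testBit k then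
      d k + ∑ i ∈ Finset.range k, (if n.testBit i then G i k else 0) else 0

section Gram

variable {V : Type v} [AddCommGroup V] (F : QF V) (basis : Fin 8 → V) (d : ℕ → ZMod 2)
  (G : ℕ → ℕ → ZMod 2) (hd : ∀ i : Fin 8, F.q (basis i) = d i)
  (hG : ∀ i j : Fin 8, i < j → F.b (basis i) (basis j) = G i j)

theorem b_sum_left {ι : Type*} (s : Finset ι) (f : ι → V) (y : V) :
    F.b (∑ i ∈ s, f i) y = ∑ i ∈ s, F.b (f i) y := by
  classical
  induction s using Finset.induction_on with
  | empty => simp [F.b_zero_left]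
  | insert a s ha ih => rw [Finset.sum_insert ha, Finset.sum_insert ha, F.add_left, ih]

theorem b_comm' (x y : V) : F.b x y = F.b y x := by
  have h1 := F.polar x y
  rw [add_comm x y, F.polar y x, add_comm (F.q y) (F.q x)] at h1
  exact (add_left_cancel h1).symm

theorem b_self (x : V) : F.b x x = 0 := by
  have h := F.polar x x
  rw [F.two, F.q_zero, add_self', zero_add] at h
  exact h.symm

include hd hG in
theorem q_vecOf (n : ℕ) : F.q (vecOf basis n) = qAcc d G 8 n := by
  let ext : ℕ → V := fun i => if hi : i < 8 then basis ⟨i, hi⟩ else 0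
  have hext : ∀ i : Fin 8, ext i = basis i := fun i => dif_pos i.2
  have hv : vecOf basis n = ∑ i ∈ Finset.range 8, if n.testBit i then ext i else 0 := by
    rw [vecOf, Finset.sum_range]
    exact Finset.sum_congr rfl fun i _ => by rw [hext]
  rw [hv]
  have key : ∀ k ≤ 8, F.q (∑ i ∈ Finset.range k, if n.testBit i then ext i else 0) = qAcc d G k n := by
    intro k
    induction k with
    | zero => intro _; simpa [qAcc] using F.q_zero
    | succ k ih =>
      intro hk
      rw [Finset.sum_range_succ, F.polar, ih (by omega), qAcc, add_assoc]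
      congr 1
      have hek : ext k = basis ⟨k, by omega⟩ := dif_pos _
      split
      · rw [hek, hd ⟨k, by omega⟩, b_sum_left]
        congr 1
        refine Finset.sum_congr rfl fun i hi => ?_
        rw [Finset.mem_range] at hi
        split
        · rw [show ext i = basis ⟨i, by omega⟩ from dif_pos _]
          exact hG ⟨i, by omega⟩ ⟨k, by omega⟩ hi
        · exact F.b_zero_left _
      · rw [F.q_zero, F.b_zero_right, add_zero]
  exact key 8 le_rfl

/-- The pairing with a basis vector. -/
def bAcc (G : ℕ → ℕ → ZMod 2) (n j : ℕ) : ZMod 2 :=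
  ∑ i ∈ Finset.range 8, if n.testBit i then (if i < j then G i j else if j < i then G j i else 0) else 0

include hG in
theorem b_vecOf (n : ℕ) (j : Fin 8) : F.b (vecOf basis n) (basis j) = bAcc G n j := by
  rw [vecOf, b_sum_left, bAcc, Finset.sum_range]
  refine Finset.sum_congr rfl fun i _ => ?_
  split
  · rcases lt_trichotomy i j with hlt | rfl | hlt
    · rw [if_pos (Fin.lt_def.1 hlt), hG i j hlt]
    · rw [if_neg (lt_irrefl _), if_neg (lt_irrefl _), b_self]
    · rw [if_neg (by have := Fin.lt_def.1 hlt; omega), if_pos (Fin.lt_def.1 hlt), b_comm', hG j i hlt]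
  · exact F.b_zero_left _

include hG in
theorem surj_of_gram [Finite V] (hcard : Nat.card V = 256)
    (hnd : ∀ n < 256, n ≠ 0 → ∃ j : Fin 8, bAcc G n j ≠ 0) (x : V) : ∃ n < 256, vecOf basis n = x := by
  have hinj : Function.Injective fun n : Fin 256 => vecOf basis n := by
    intro a b e
    by_contra hne
    have hx : (a : ℕ) ^^^ (b : ℕ) ≠ 0 := fun h => hne (Fin.ext (Nat.xor_eq_zero_iff.1 h))
    obtain ⟨j, hj⟩ := hnd _ (Nat.xor_lt_two_pow (n := 8) a.2 b.2) hx
    apply hj
    rw [← b_vecOf F basis G hG, vecOf_xor F.two]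
    show F.b (vecOf basis a + vecOf basis b) _ = 0
    rw [show vecOf basis (a : ℕ) = vecOf basis (b : ℕ) from e, F.two, F.b_zero_left]
  obtain ⟨n, hn⟩ := ((Nat.bijective_iff_injective_and_card _).2 ⟨hinj, by rw [Nat.card_fin, hcard]⟩).2 x
  exact ⟨n, n.2, hn⟩

end Gram

/-- A subgroup on which the form is additive is small. -/
theorem isotropic_bound {V : Type v} [AddCommGroup V] [Finite V] (F : QF V) (S : AddSubgroup V)
    (hS : ∀ x ∈ S, ∀ y ∈ S, F.b x y = 0) : Nat.card S * Nat.card S ≤ Nat.card V := by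
  classical
  have : Fintype V := Fintype.ofFinite V
  have : Fintype S := Fintype.ofFinite _
  let g : V → ℤ := fun x => ∑ s : S, sgn (F.b x s)
  have hsum : ∑ x, g x = Fintype.card V := by
    simp only [g]
    rw [Finset.sum_comm, Finset.sum_eq_single (0 : S)]
    · rw [F.sum_sgn_b]; simp
    · intro s _ hs
      rw [F.sum_sgn_b, if_neg]
      exact fun e => hs (Subtype.ext e)
    · simp
  have hval : ∀ x, 0 ≤ g x := by
    intro x
    by_cases hx : ∀ s : S, F.b x s = 0
    · simp only [g, hx]; simp [sgn]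
    · push Not at hx
      obtain ⟨t, ht⟩ := hx
      have ht1 : F.b x t = 1 := (zmod_two _).resolve_left ht
      have hneg : g x = -g x := by
        simp only [g]
        conv_lhs => rw [← Fintype.sum_equiv (Equiv.addRight t) (fun s : S => sgn (F.b x (s + t : S))) _ (fun s => rfl)]
        rw [← Finset.sum_neg_distrib]
        refine Finset.sum_congr rfl fun s _ => ?_
        rw [AddSubgroup.coe_add, F.add_right, ht1, sgn_add]
        simp [sgn]
      omega
  have hin : ∀ x ∈ S, g x = Fintype.card S := fun x hx => by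
    simp only [g, fun s : S => hS x hx s s.2]
    simp [sgn]
  have hle : ∑ x ∈ Finset.univ.filter (· ∈ S), g x ≤ ∑ x, g x :=
    Finset.sum_le_sum_of_subset_of_nonneg (Finset.filter_subset _ _) fun x _ _ => hval x
  rw [hsum, Finset.sum_congr rfl fun x hx => hin x (Finset.mem_filter.1 hx).2, Finset.sum_const,
    nsmul_eq_mul, show (Finset.univ.filter (· ∈ S)).card = Fintype.card S from
      (Fintype.card_subtype (· ∈ S)).symm] at hle
  rw [Nat.card_eq_fintype_card, Nat.card_eq_fintype_card]
  exact_mod_cast hle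

namespace Setup

variable {M : Type u} {V : Type v} [Group M] [AddCommGroup V] [DistribMulAction M V]
variable (h : Setup M V)

theorem D_b (x y : V) : h.F.b (h.D x) (h.D y) = h.F.b x y := by
  have h1 := h.F.polar (h.D x) (h.D y)
  rw [← map_add, h.D_iso, h.D_iso, h.D_iso, h.F.polar] at h1
  exact (add_left_cancel h1).symm

theorem smul_b (m : M) (x y : V) : h.F.b (m • x) (m • y) = h.F.b x y := by
  have h1 := h.F.polar (m • x) (m • y)
  rw [← smul_add, h.iso, h.iso, h.iso, h.F.polar] at h1
  exact (add_left_cancel h1).symm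

theorem decompose (x : V) : x + h.D x + h.D (h.D x) ∈ fixD h.D ∧ h.D x + h.D (h.D x) ∈ movD h.D ∧
    x = (x + h.D x + h.D (h.D x)) + (h.D x + h.D (h.D x)) := by
  refine ⟨?_, ?_, ?_⟩
  · show h.D (x + h.D x + h.D (h.D x)) = _
    simp only [map_add, h.D_cube]; abel
  · show h.D x + h.D (h.D x) + h.D (h.D x + h.D (h.D x)) + h.D (h.D (h.D x + h.D (h.D x))) = 0
    simp only [map_add, h.D_cube]
    rw [show h.D x + h.D (h.D x) + (h.D (h.D x) + x) + (x + h.D x) =
      (h.D x + h.D x) + (h.D (h.D x) + h.D (h.D x)) + (x + x) by abel, h.F.two (h.D x),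
      h.F.two (h.D (h.D x)), h.F.two x, add_zero, add_zero]
  · rw [show x + h.D x + h.D (h.D x) + (h.D x + h.D (h.D x)) =
      x + ((h.D x + h.D x) + (h.D (h.D x) + h.D (h.D x))) by abel, h.F.two, h.F.two, add_zero, add_zero]

theorem fix_inter_mov {x : V} (hc : x ∈ fixD h.D) (hu : x ∈ movD h.D) : x = 0 := by
  have e : x + h.D x + h.D (h.D x) = 0 := hu
  rwa [show h.D x = x from hc, show h.D x = x from hc, h.F.two, zero_add] at e

theorem orth {c w : V} (hc : c ∈ fixD h.D) (hw : w ∈ movD h.D) : h.F.b c w = 0 := by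
  have h1 : ∀ y, h.F.b c (h.D y) = h.F.b c y := fun y => by
    have := h.D_b c y
    rwa [show h.D c = c from hc] at this
  have h2 : h.F.b c (w + h.D w + h.D (h.D w)) = 0 := by
    rw [show w + h.D w + h.D (h.D w) = 0 from hw, h.F.b_zero_right]
  rw [h.F.add_right, h.F.add_right, h1, h1, h1, add_self', zero_add] at h2
  exact h2

theorem fixD_smul (m : M) {x : V} (hx : x ∈ fixD h.D) : m • x ∈ fixD h.D := by
  show h.D (m • x) = m • x
  rcases Int.units_eq_one_or (Equiv.Perm.sign (h.ψ m).1) with e | e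
  · rw [← h.D_conj_even m e, show h.D x = x from hx]
  · have h2 : h.D (h.D (m • x)) = m • x := by rw [← h.D_conj_odd m e, show h.D x = x from hx]
    have := congrArg h.D h2
    rwa [h.D_cube, eq_comm] at this

theorem movD_smul (m : M) {x : V} (hx : x ∈ movD h.D) : m • x ∈ movD h.D := by
  show m • x + h.D (m • x) + h.D (h.D (m • x)) = 0
  have e0 : m • (x + h.D x + h.D (h.D x)) = 0 := by rw [show x + h.D x + h.D (h.D x) = 0 from hx, smul_zero]
  rcases Int.units_eq_one_or (Equiv.Perm.sign (h.ψ m).1) with e | e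
  · rwa [smul_add, smul_add, h.D_conj_even m e, h.D_conj_even m e, h.D_conj_even m e] at e0
  · rw [smul_add, smul_add, h.D_conj_odd m e, h.D_conj_odd m e, h.D_conj_odd m e, h.D_cube,
      add_assoc, add_comm (h.D (h.D (m • x))), ← add_assoc] at e0
    exact e0

theorem twist_lift (θ : P6 ≃* P6) (hθ : ∀ b, Equiv.Perm.sign (θ b) = Equiv.Perm.sign b) {g : P6}
    (hg : Equiv.Perm.sign g = 1) (x : V) : (h.twist θ hθ).lift (θ g) • x = h.lift g • x := by
  refine h.congr_ψ ?_ x
  have e := (h.twist θ hθ).lift_ψ (show Equiv.Perm.sign (θ g) = 1 by rw [hθ, hg])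
  rw [twist_ψ] at e
  rw [h.lift_ψ hg]
  exact Prod.ext (congrArg Prod.fst e :) (θ.injective (congrArg Prod.snd e :))

theorem twist_D (θ : P6 ≃* P6) (hθ : ∀ b, Equiv.Perm.sign (θ b) = Equiv.Perm.sign b) :
    (h.twist θ hθ).D = h.D := by
  refine AddMonoidHom.ext fun x => ?_
  rw [D_apply, D_apply]
  refine h.congr_ψ ?_ x
  have e := (h.twist θ hθ).d_ψ
  rw [twist_ψ] at e
  rw [h.d_ψ]
  exact Prod.ext (congrArg Prod.fst e :) (θ.injective ((congrArg Prod.snd e).trans (map_one θ).symm))

/-- Stabilised vectors after the automorphism. -/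
theorem twist_stab (θ : P6 ≃* P6) (hθ : ∀ b, Equiv.Perm.sign (θ b) = Equiv.Perm.sign b) {g : P6} {x : V}
    (hg : g ∈ h.stab x) : θ g ∈ (h.twist θ hθ).stab x :=
  ⟨by rw [hθ, hg.1], by rw [h.twist_lift θ hθ hg.1, hg.2]⟩

end Setup

end Cfsg.Agent.ExtraTwoNine
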