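import Mathlib
import Cfsg.Agent.Lib.ExtraTwoNine.Basic

/-!
Finite facts for a conjugate of `z` in `Q` other than `z`: orbit representatives of singular vectors,
square roots of generators of their stabilisers, and the possible images of `C_{Q_a}(z)`.
-/

set_option autoImplicit false
set_option maxRecDepth 10000

namespace Cfsg.Agent.ExtraTwoNine

open Equiv (Perm)

/-- Pairs of permutations. -/
abbrev PP := Perm (Fin 3) × Perm (Fin 6)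

/-- The action of the square of a lift of `h`. -/
def stp (k : Kind) (h : PP) (v : ℕ) : ℕ := ap (img k h.1 h.2 false) (ap (img k h.1 h.2 false) v)

/-- Representatives of the singular vectors. -/
def repsV : Kind → List ℕ
  | Kind.tensor => [1, 20]
  | Kind.sum false => [1, 15, 31, 67, 71, 127]
  | Kind.sum true => [7, 15, 65, 67, 95, 127]

set_option maxHeartbeats 4000000 in
/-- First step to a representative. -/
def selA : Kind → List PP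
  | Kind.tensor => [(1, 1), (1, Equiv.swap 1 2 * Equiv.swap 2 3 * Equiv.swap 3 4 * Equiv.swap 4 5), (1, Equiv.swap 1 2 * Equiv.swap 2 3 * Equiv.swap 3 5 * Equiv.swap 4 5), (1, Equiv.swap 1 2 * Equiv.swap 2 5 * Equiv.swap 3 4 * Equiv.swap 4 5), (1, Equiv.swap 1 5 * Equiv.swap 2 3 * Equiv.swap 3 5 * Equiv.swap 4 5), (1, Equiv.swap 0 1 * Equiv.swap 1 2 * Equiv.swap 2 5 * Equiv.swap 4 5), (1, Equiv.swap 0 1 * Equiv.swap 1 5 * Equiv.swap 2 3 * Equiv.swap 3 4), (Equiv.swap 0 1 * Equiv.swap 1 2, Equiv.swap 0 1 * Equiv.swap 1 2 * Equiv.swap 2 3 * Equiv.swap 3 5), (Equiv.swap 0 1 * Equiv.swap 1 2, Equiv.swap 0 1 * Equiv.swap 1 5 * Equiv.swap 2 5 * Equiv.swap 4 5), (Equiv.swap 0 1 * Equiv.swap 1 2, Equiv.swap 0 1 * Equiv.swap 1 5 * Equiv.swap 3 4 * Equiv.swap 4 5), (Equiv.swap 0 1 * Equiv.swap 1 2, Equiv.swap 0 1 * Equiv.swap 1 5 * Equiv.swap 2 3 * Equiv.swap 3 5),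 (Equiv.swap 0 2 * Equiv.swap 1 2, Equiv.swap 0 1 * Equiv.swap 1 3 * Equiv.swap 3 5 * Equiv.swap 4 5), (Equiv.swap 0 2 * Equiv.swap 1 2, Equiv.swap 1 2 * Equiv.swap 2 3 * Equiv.swap 3 4 * Equiv.swap 4 5), (Equiv.swap 0 2 * Equiv.swap 1 2, Equiv.swap 0 1 * Equiv.swap 1 3 * Equiv.swap 2 5 * Equiv.swap 4 5), (Equiv.swap 0 2 * Equiv.swap 1 2, Equiv.swap 0 2 * Equiv.swap 1 5 * Equiv.swap 2 3 * Equiv.swap 4 5), (Equiv.swap 0 1 * Equiv.swap 1 2, Equiv.swap 1 2 * Equiv.swap 2 5 * Equiv.swap 3 4 * Equiv.swap 4 5), (Equiv.swap 0 1 * Equiv.swap 1 2, Equiv.swap 0 2 * Equiv.swap 1 5 * Equiv.swap 2 3 * Equiv.swap 3 4), (Equiv.swap 0 1 * Equiv.swap 1 2, Equiv.swap 0 4 * Equiv.swap 1 4 * Equiv.swap 3 5 * Equiv.swap 4 5), (1, Equiv.swap 2 4 * Equiv.swap 4 5), (1, Equiv.swap 2 5 * Equiv.swap 4 5), (1, Equiv.swap 1 4 * Equiv.swap 2 5 * Equiv.swap 3 4 * Equiv.swap 4 5), (1, Equiv.swap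 0 1 * Equiv.swap 1 5 * Equiv.swap 2 3 * Equiv.swap 3 5), (1, Equiv.swap 0 1 * Equiv.swap 1 5 * Equiv.swap 2 4 * Equiv.swap 4 5), (1, Equiv.swap 0 5 * Equiv.swap 2 4 * Equiv.swap 3 4 * Equiv.swap 4 5), (Equiv.swap 0 1 * Equiv.swap 1 2, Equiv.swap 0 3 * Equiv.swap 1 4 * Equiv.swap 3 4 * Equiv.swap 4 5), (Equiv.swap 0 2 * Equiv.swap 1 2, Equiv.swap 0 4 * Equiv.swap 2 3 * Equiv.swap 3 5 * Equiv.swap 4 5), (1, Equiv.swap 1 4 * Equiv.swap 2 4 * Equiv.swap 3 4 * Equiv.swap 4 5), (1, Equiv.swap 0 1 * Equiv.swap 1 5 * Equiv.swap 3 5 * Equiv.swap 4 5), (1, Equiv.swap 0 1 * Equiv.swap 1 5), (1, Equiv.swap 0 4 * Equiv.swap 1 4 * Equiv.swap 2 3 * Equiv.swap 3 4), (Equiv.swap 0 1 * Equiv.swap 1 2, Equiv.swap 1 4 * Equiv.swap 2 4), (1, Equiv.swap 2 3 * Equiv.swap 3 5), (1, Equiv.swap 1 2 * Equiv.swap 2 4 * Equiv.swap 3 4 * Equiv.swap 4 5)]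
  | Kind.sum false => [(1, 1), (Equiv.swap 0 1 * Equiv.swap 1 2, Equiv.swap 0 1 * Equiv.swap 1 2 * Equiv.swap 2 5 * Equiv.swap 3 5), (1, Equiv.swap 0 1 * Equiv.swap 1 5 * Equiv.swap 2 3 * Equiv.swap 3 4), (1, Equiv.swap 0 1 * Equiv.swap 1 5 * Equiv.swap 2 5 * Equiv.swap 3 5), (Equiv.swap 0 2 * Equiv.swap 1 2, Equiv.swap 1 5 * Equiv.swap 2 5), (1, Equiv.swap 0 2 * Equiv.swap 1 3 * Equiv.swap 2 5 * Equiv.swap 3 5), (1, Equiv.swap 1 2 * Equiv.swap 2 3 * Equiv.swap 3 5 * Equiv.swap 4 5), (1, Equiv.swap 0 1 * Equiv.swap 1 4 * Equiv.swap 2 4 * Equiv.swap 4 5), (Equiv.swap 0 1 * Equiv.swap 1 2, Equiv.swap 0 1 * Equiv.swap 1 4 * Equiv.swap 2 4 * Equiv.swap 3 4), (Equiv.swap 0 1 * Equiv.swap 1 2, Equiv.swap 0 4 * Equiv.swap 2 4 * Equiv.swap 3 5 * Equiv.swap 4 5), (Equiv.swap 0 2 * Equiv.swap 1 2, Equiv.swap 2 3 * Equiv.swap 3 4), (Equiv.swap 0 1 * Equiv.swap 1 2,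 Equiv.swap 0 1 * Equiv.swap 1 2 * Equiv.swap 2 4 * Equiv.swap 4 5), (Equiv.swap 0 2 * Equiv.swap 1 2, Equiv.swap 1 2 * Equiv.swap 2 3 * Equiv.swap 3 4 * Equiv.swap 4 5), (Equiv.swap 0 2 * Equiv.swap 1 2, Equiv.swap 0 4 * Equiv.swap 2 5 * Equiv.swap 3 4 * Equiv.swap 4 5), (Equiv.swap 0 1 * Equiv.swap 1 2, Equiv.swap 0 1 * Equiv.swap 1 3 * Equiv.swap 2 5 * Equiv.swap 3 5), (Equiv.swap 0 2 * Equiv.swap 1 2, Equiv.swap 0 2 * Equiv.swap 2 4 * Equiv.swap 3 5 * Equiv.swap 4 5), (Equiv.swap 0 2 * Equiv.swap 1 2, Equiv.swap 0 3 * Equiv.swap 2 4 * Equiv.swap 3 4 * Equiv.swap 4 5), (Equiv.swap 0 1 * Equiv.swap 1 2, Equiv.swap 0 1 * Equiv.swap 1 5 * Equiv.swap 2 4 * Equiv.swap 4 5), (Equiv.swap 0 2 * Equiv.swap 1 2, Equiv.swap 0 1 * Equiv.swap 1 5), (1, Equiv.swap 0 3 * Equiv.swap 1 5 * Equiv.swap 2 3 * Equiv.swap 3 5), (Equiv.swap 0 1 * Equiv.swap 1 2, Equiv.swap 0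 1 * Equiv.swap 1 5 * Equiv.swap 2 4 * Equiv.swap 3 4), (Equiv.swap 0 2 * Equiv.swap 1 2, Equiv.swap 0 1 * Equiv.swap 1 2 * Equiv.swap 2 4 * Equiv.swap 3 5)]
  | Kind.sum true => [(1, 1), (Equiv.swap 0 1 * Equiv.swap 1 2, Equiv.swap 0 1 * Equiv.swap 1 2 * Equiv.swap 2 3 * Equiv.swap 3 5), (1, Equiv.swap 0 2 * Equiv.swap 1 4 * Equiv.swap 2 5 * Equiv.swap 3 4), (Equiv.swap 0 2 * Equiv.swap 1 2, Equiv.swap 0 3 * Equiv.swap 1 5 * Equiv.swap 2 3 * Equiv.swap 3 5), (Equiv.swap 0 1 * Equiv.swap 1 2, Equiv.swap 2 3 * Equiv.swap 3 4), (Equiv.swap 0 1 * Equiv.swap 1 2, Equiv.swap 0 2 * Equiv.swap 1 3 * Equiv.swap 2 5 * Equiv.swap 3 5), (Equiv.swap 0 2 * Equiv.swap 1 2, Equiv.swap 0 1 * Equiv.swap 1 2 * Equiv.swap 2 4 * Equiv.swap 4 5), (1, Equiv.swap 0 4 * Equiv.swap 1 2 * Equiv.swap 2 5 * Equiv.swap 4 5), (Equiv.swap 0 1 * Equiv.swap 1 2, Equiv.swap 0 1 * Equiv.swap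 1 3 * Equiv.swap 2 5 * Equiv.swap 4 5), (1, Equiv.swap 1 4 * Equiv.swap 2 5 * Equiv.swap 3 4 * Equiv.swap 4 5), (1, Equiv.swap 1 2 * Equiv.swap 2 5 * Equiv.swap 3 4 * Equiv.swap 4 5), (Equiv.swap 0 1 * Equiv.swap 1 2, Equiv.swap 0 1 * Equiv.swap 1 5 * Equiv.swap 3 4 * Equiv.swap 4 5), (Equiv.swap 0 2 * Equiv.swap 1 2, Equiv.swap 0 2 * Equiv.swap 1 4 * Equiv.swap 2 4 * Equiv.swap 3 5), (1, Equiv.swap 1 5 * Equiv.swap 2 5 * Equiv.swap 3 4 * Equiv.swap 4 5), (Equiv.swap 0 2 * Equiv.swap 1 2, Equiv.swap 1 2 * Equiv.swap 2 5 * Equiv.swap 3 5 * Equiv.swap 4 5), (Equiv.swap 0 2 * Equiv.swap 1 2, Equiv.swap 1 5 * Equiv.swap 2 5 * Equiv.swap 3 5 * Equiv.swap 4 5)]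

set_option maxHeartbeats 4000000 in
/-- Second step to a representative. -/
def selB : Kind → List PP
  | Kind.tensor => [(1, 1), (1, Equiv.swap 0 1 * Equiv.swap 1 2 * Equiv.swap 2 3 * Equiv.swap 3 4), (Equiv.swap 0 1 * Equiv.swap 1 2, Equiv.swap 1 2 * Equiv.swap 2 3 * Equiv.swap 3 4 * Equiv.swap 4 5)]
  | Kind.sum false => [(1, 1), (1, Equiv.swap 0 1 * Equiv.swap 1 2 * Equiv.swap 2 3 * Equiv.swap 3 4), (Equiv.swap 0 1 * Equiv.swap 1 2, Equiv.swap 1 2 * Equiv.swap 2 3 * Equiv.swap 3 4 * Equiv.swap 4 5)]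
  | Kind.sum true => [(1, 1), (1, Equiv.swap 0 1 * Equiv.swap 1 2 * Equiv.swap 2 3 * Equiv.swap 3 4), (Equiv.swap 0 1 * Equiv.swap 1 2, Equiv.swap 1 2 * Equiv.swap 2 3 * Equiv.swap 3 4 * Equiv.swap 4 5)]

/-- A representative: the vector, a basis of its perp, square roots of stabiliser generators, and the
possible non-trivial images. -/
structure Rep where
  v : ℕ
  bs : List ℕ
  hs : List PP
  F : List PP

set_option maxHeartbeats 4000000 in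
/-- Kind.tensor, 1 -/
def rT1 : Rep where
  v := 1
  bs := [1, 2, 4, 8, 16, 64, 128]
  hs := [(1, Equiv.swap 3 4 * Equiv.swap 4 5), (1, Equiv.swap 2 3 * Equiv.swap 3 4), (1, Equiv.swap 0 2 * Equiv.swap 1 3 * Equiv.swap 2 3 * Equiv.swap 4 5)]
  F := [(1, Equiv.swap 2 3 * Equiv.swap 4 5), (1, Equiv.swap 2 4 * Equiv.swap 3 5), (1, Equiv.swap 2 5 * Equiv.swap 3 4), (1, Equiv.swap 0 1), (1, Equiv.swap 0 1 * Equiv.swap 2 3 * Equiv.swap 4 5), (1, Equiv.swap 0 1 * Equiv.swap 2 4 * Equiv.swap 3 5), (1, Equiv.swap 0 1 * Equiv.swap 2 5 * Equiv.swap 3 4), (Equiv.swap 1 2, 1), (Equiv.swap 1 2, Equiv.swap 2 3 * Equiv.swap 4 5), (Equiv.swap 1 2, Equiv.swap 2 4 * Equiv.swap 3 5), (Equiv.swap 1 2, Equiv.swap 2 5 * Equiv.swap 3 4), (Equiv.swap 1 2, Equiv.swap 0 1), (Equiv.swap 1 2, Equiv.swap 0 1 * Equiv.swap 2 3 * Equiv.swap 4 5), (Equiv.swap 1 2, Equiv.swap 0 1 * Equiv.swap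 2 4 * Equiv.swap 3 5), (Equiv.swap 1 2, Equiv.swap 0 1 * Equiv.swap 2 5 * Equiv.swap 3 4)]

set_option maxHeartbeats 4000000 in
/-- Kind.tensor, 20 -/
def rT20 : Rep where
  v := 20
  bs := [1, 4, 8, 16, 34, 64, 130]
  hs := [(1, Equiv.swap 0 1 * Equiv.swap 2 4 * Equiv.swap 3 5 * Equiv.swap 4 5), (1, Equiv.swap 0 2 * Equiv.swap 1 3 * Equiv.swap 2 3 * Equiv.swap 4 5), (Equiv.swap 0 1 * Equiv.swap 1 2, Equiv.swap 0 2 * Equiv.swap 1 3 * Equiv.swap 2 4 * Equiv.swap 3 5)]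
  F := [(1, Equiv.swap 4 5), (1, Equiv.swap 2 3), (1, Equiv.swap 2 3 * Equiv.swap 4 5), (1, Equiv.swap 0 1), (1, Equiv.swap 0 1 * Equiv.swap 4 5), (1, Equiv.swap 0 1 * Equiv.swap 2 3), (1, Equiv.swap 0 1 * Equiv.swap 2 3 * Equiv.swap 4 5)]

set_option maxHeartbeats 4000000 in
/-- Kind.sum false, 1 -/
def rF1 : Rep where
  v := 1
  bs := [1, 6, 10, 18, 34, 64, 128]
  hs := [(1, Equiv.swap 3 4 * Equiv.swap 4 5), (1, Equiv.swap 2 3 * Equiv.swap 3 4), (1, Equiv.swap 1 2 * Equiv.swap 2 3), (Equiv.swap 0 1 * Equiv.swap 1 2, 1)]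
  F := []

set_option maxHeartbeats 4000000 in
/-- Kind.sum false, 15 -/
def rF15 : Rep where
  v := 15
  bs := [3, 5, 9, 16, 32, 64, 128]
  hs := [(1, Equiv.swap 1 2 * Equiv.swap 2 3), (1, Equiv.swap 0 1 * Equiv.swap 2 4 * Equiv.swap 3 5 * Equiv.swap 4 5), (1, Equiv.swap 0 1 * Equiv.swap 1 2), (Equiv.swap 0 1 * Equiv.swap 1 2, 1)]
  F := [(1, Equiv.swap 4 5), (1, Equiv.swap 0 1 * Equiv.swap 2 3), (1, Equiv.swap 0 1 * Equiv.swap 2 3 * Equiv.swap 4 5), (1, Equiv.swap 0 2 * Equiv.swap 1 3), (1, Equiv.swap 0 2 * Equiv.swap 1 3 * Equiv.swap 4 5), (1, Equiv.swap 0 3 * Equiv.swap 1 2), (1, Equiv.swap 0 3 * Equiv.swap 1 2 * Equiv.swap 4 5)]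

set_option maxHeartbeats 4000000 in
/-- Kind.sum false, 31 -/
def rF31 : Rep where
  v := 31
  bs := [1, 2, 4, 8, 16, 64, 128]
  hs := [(1, Equiv.swap 2 3 * Equiv.swap 3 4), (1, Equiv.swap 1 2 * Equiv.swap 2 3), (1, Equiv.swap 0 1 * Equiv.swap 1 2), (Equiv.swap 0 1 * Equiv.swap 1 2, 1)]
  F := []

set_option maxHeartbeats 4000000 in
/-- Kind.sum false, 67 -/
def rF67 : Rep where
  v := 67
  bs := [3, 4, 8, 16, 32, 64, 129]
  hs := [(1, Equiv.swap 3 4 * Equiv.swap 4 5), (1, Equiv.swap 2 3 * Equiv.swap 3 4), (1, Equiv.swap 0 2 * Equiv.swap 1 3 * Equiv.swap 2 3 * Equiv.swap 4 5)]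
  F := [(Equiv.swap 1 2, Equiv.swap 0 1)]

set_option maxHeartbeats 4000000 in
/-- Kind.sum false, 71 -/
def rF71 : Rep where
  v := 71
  bs := [1, 2, 4, 24, 40, 64, 136]
  hs := [(1, Equiv.swap 3 4 * Equiv.swap 4 5), (1, Equiv.swap 0 1 * Equiv.swap 1 2), (1, Equiv.swap 0 3 * Equiv.swap 1 4 * Equiv.swap 2 5 * Equiv.swap 4 5)]
  F := []

set_option maxHeartbeats 4000000 in
/-- Kind.sum false, 127 -/
def rF127 : Rep where
  v := 127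
  bs := [3, 5, 9, 17, 33, 64, 129]
  hs := [(1, Equiv.swap 3 4 * Equiv.swap 4 5), (1, Equiv.swap 2 3 * Equiv.swap 3 4), (1, Equiv.swap 1 2 * Equiv.swap 2 3), (1, Equiv.swap 0 1 * Equiv.swap 1 2)]
  F := [(Equiv.swap 1 2, 1)]

set_option maxHeartbeats 4000000 in
/-- Kind.sum true, 7 -/
def rP7 : Rep where
  v := 7
  bs := [1, 2, 4, 24, 40, 64, 128]
  hs := [(1, Equiv.swap 3 4 * Equiv.swap 4 5), (1, Equiv.swap 0 1 * Equiv.swap 1 2), (1, Equiv.swap 0 3 * Equiv.swap 1 4 * Equiv.swap 2 5 * Equiv.swap 4 5), (Equiv.swap 0 1 * Equiv.swap 1 2, 1)]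
  F := []

set_option maxHeartbeats 4000000 in
/-- Kind.sum true, 15 -/
def rP15 : Rep where
  v := 15
  bs := [3, 5, 9, 16, 32, 64, 128]
  hs := [(1, Equiv.swap 1 2 * Equiv.swap 2 3), (1, Equiv.swap 0 1 * Equiv.swap 2 4 * Equiv.swap 3 5 * Equiv.swap 4 5), (1, Equiv.swap 0 1 * Equiv.swap 1 2), (Equiv.swap 0 1 * Equiv.swap 1 2, 1)]
  F := [(1, Equiv.swap 4 5), (1, Equiv.swap 0 1 * Equiv.swap 2 3), (1, Equiv.swap 0 1 * Equiv.swap 2 3 * Equiv.swap 4 5), (1, Equiv.swap 0 2 * Equiv.swap 1 3), (1, Equiv.swap 0 2 * Equiv.swap 1 3 * Equiv.swap 4 5), (1, Equiv.swap 0 3 * Equiv.swap 1 2), (1, Equiv.swap 0 3 * Equiv.swap 1 2 * Equiv.swap 4 5)]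

set_option maxHeartbeats 4000000 in
/-- Kind.sum true, 65 -/
def rP65 : Rep where
  v := 65
  bs := [1, 6, 10, 18, 34, 64, 130]
  hs := [(1, Equiv.swap 3 4 * Equiv.swap 4 5), (1, Equiv.swap 2 3 * Equiv.swap 3 4), (1, Equiv.swap 1 2 * Equiv.swap 2 3)]
  F := []

set_option maxHeartbeats 4000000 in
/-- Kind.sum true, 67 -/
def rP67 : Rep where
  v := 67
  bs := [3, 4, 8, 16, 32, 64, 129]
  hs := [(1, Equiv.swap 3 4 * Equiv.swap 4 5), (1, Equiv.swap 2 3 * Equiv.swap 3 4), (1, Equiv.swap 0 2 * Equiv.swap 1 3 * Equiv.swap 2 3 * Equiv.swap 4 5)]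
  F := [(Equiv.swap 1 2, Equiv.swap 0 1)]

set_option maxHeartbeats 4000000 in
/-- Kind.sum true, 95 -/
def rP95 : Rep where
  v := 95
  bs := [1, 2, 4, 8, 16, 64, 160]
  hs := [(1, Equiv.swap 2 3 * Equiv.swap 3 4), (1, Equiv.swap 1 2 * Equiv.swap 2 3), (1, Equiv.swap 0 1 * Equiv.swap 1 2)]
  F := []

set_option maxHeartbeats 4000000 in
/-- Kind.sum true, 127 -/
def rP127 : Rep where
  v := 127
  bs := [3, 5, 9, 17, 33, 64, 129]
  hs := [(1, Equiv.swap 3 4 * Equiv.swap 4 5), (1, Equiv.swap 2 3 * Equiv.swap 3 4), (1, Equiv.swap 1 2 * Equiv.swap 2 3), (1, Equiv.swap 0 1 * Equiv.swap 1 2)]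
  F := [(Equiv.swap 1 2, 1)]

/-- The representatives. -/
def reps : Kind → List Rep
  | Kind.tensor => [rT1, rT20]
  | Kind.sum false => [rF1, rF15, rF31, rF67, rF71, rF127]
  | Kind.sum true => [rP7, rP15, rP65, rP67, rP95, rP127]

namespace Rep

variable (k : Kind) (r : Rep)

/-- The vectors `[C_Q(a), p]` and `a`. -/
def com0 (L : List ℕ) : List ℕ := r.v :: r.bs.map fun c => ap L c ^^^ c

/-- A possible image. -/
def fit (p : PP) (e : Bool) : Bool :=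
  let L := img k p.1 p.2 e
  let com := r.com0 L ++ r.hs.flatMap fun h => (r.com0 L).map (stp k h)
  (ap L r.v == r.v) && com.all (fun c => !qv k c) &&
    (com.all fun c => com.all fun d => !bq k c d) &&
    (com.all fun c => ap L c == c || ap L c == c ^^^ r.v) &&
    r.hs.all fun h => decide (h * h * p * (h * h)⁻¹ * p = p * (h * h * p * (h * h)⁻¹))

/-- The elementary properties. -/
def ok : Bool :=
  (r.hs.all fun h => stp k h r.v == r.v && decide (Equiv.Perm.sign h.1 = 1) &&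
      decide (Equiv.Perm.sign h.2 = 1)) &&
    (r.bs.all fun c => decide (c < 256) && !bq k c r.v) &&
    decide (((List.range 256).filter fun v => !bq k v r.v).length = 128) &&
    decide (r.v < 256) && decide (r.v ≠ 0) && !qv k r.v

end Rep

theorem cover_k : ∀ k ∈ [Kind.tensor, Kind.sum false, Kind.sum true], ∀ v ∈ List.range 256,
    v = 0 ∨ qv k v = true ∨
      ∃ h1 ∈ selA k, ∃ h2 ∈ selB k, stp k h2 (stp k h1 v) ∈ repsV k := by decide +kernel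

theorem sel_even_k : ∀ k ∈ [Kind.tensor, Kind.sum false, Kind.sum true], ∀ h ∈ selA k ++ selB k,
    Equiv.Perm.sign h.1 = 1 ∧ Equiv.Perm.sign h.2 = 1 := by decide +kernel

theorem repsV_eq_k : ∀ k ∈ [Kind.tensor, Kind.sum false, Kind.sum true],
    repsV k = (reps k).map Rep.v := by decide +kernel

theorem reps_ok_k : ∀ k ∈ [Kind.tensor, Kind.sum false, Kind.sum true], ∀ r ∈ reps k,
    r.ok k = true := by decide +kernel

theorem stp_eps_k : ∀ k ∈ [Kind.tensor, Kind.sum false, Kind.sum true],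
    ∀ h ∈ selA k ++ selB k ++ (reps k).flatMap Rep.hs, ∀ i ∈ List.range 8,
      ap (img k h.1 h.2 true) (ap (img k h.1 h.2 true) (2 ^ i)) = stp k h (2 ^ i) := by decide +kernel

theorem fit_rT1 : ∀ a : Perm (Fin 3), a * a = 1 → ∀ b : Perm (Fin 6), b * b = 1 → ∀ e : Bool,
    ¬ (a = 1 ∧ b = 1) → Rep.fit (Kind.tensor) rT1 (a, b) e = true → (a, b) ∈ rT1.F := by decide +kernel

theorem fit_rT20 : ∀ a : Perm (Fin 3), a * a = 1 → ∀ b : Perm (Fin 6), b * b = 1 → ∀ e : Bool,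
    ¬ (a = 1 ∧ b = 1) → Rep.fit (Kind.tensor) rT20 (a, b) e = true → (a, b) ∈ rT20.F := by decide +kernel

theorem fit_rF1 : ∀ a : Perm (Fin 3), a * a = 1 → ∀ b : Perm (Fin 6), b * b = 1 → ∀ e : Bool,
    ¬ (a = 1 ∧ b = 1) → Rep.fit (Kind.sum false) rF1 (a, b) e = true → (a, b) ∈ rF1.F := by decide +kernel

theorem fit_rF15 : ∀ a : Perm (Fin 3), a * a = 1 → ∀ b : Perm (Fin 6), b * b = 1 → ∀ e : Bool,
    ¬ (a = 1 ∧ b = 1) → Rep.fit (Kind.sum false) rF15 (a, b) e = true → (a, b) ∈ rF15.F := by decide +kernel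

theorem fit_rF31 : ∀ a : Perm (Fin 3), a * a = 1 → ∀ b : Perm (Fin 6), b * b = 1 → ∀ e : Bool,
    ¬ (a = 1 ∧ b = 1) → Rep.fit (Kind.sum false) rF31 (a, b) e = true → (a, b) ∈ rF31.F := by decide +kernel

theorem fit_rF67 : ∀ a : Perm (Fin 3), a * a = 1 → ∀ b : Perm (Fin 6), b * b = 1 → ∀ e : Bool,
    ¬ (a = 1 ∧ b = 1) → Rep.fit (Kind.sum false) rF67 (a, b) e = true → (a, b) ∈ rF67.F := by decide +kernel

theorem fit_rF71 : ∀ a : Perm (Fin 3), a * a = 1 → ∀ b : Perm (Fin 6), b * b = 1 → ∀ e : Bool,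
    ¬ (a = 1 ∧ b = 1) → Rep.fit (Kind.sum false) rF71 (a, b) e = true → (a, b) ∈ rF71.F := by decide +kernel

theorem fit_rF127 : ∀ a : Perm (Fin 3), a * a = 1 → ∀ b : Perm (Fin 6), b * b = 1 → ∀ e : Bool,
    ¬ (a = 1 ∧ b = 1) → Rep.fit (Kind.sum false) rF127 (a, b) e = true → (a, b) ∈ rF127.F := by decide +kernel

theorem fit_rP7 : ∀ a : Perm (Fin 3), a * a = 1 → ∀ b : Perm (Fin 6), b * b = 1 → ∀ e : Bool,
    ¬ (a = 1 ∧ b = 1) → Rep.fit (Kind.sum true) rP7 (a, b) e = true → (a, b) ∈ rP7.F := by decide +kernel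

theorem fit_rP15 : ∀ a : Perm (Fin 3), a * a = 1 → ∀ b : Perm (Fin 6), b * b = 1 → ∀ e : Bool,
    ¬ (a = 1 ∧ b = 1) → Rep.fit (Kind.sum true) rP15 (a, b) e = true → (a, b) ∈ rP15.F := by decide +kernel

theorem fit_rP65 : ∀ a : Perm (Fin 3), a * a = 1 → ∀ b : Perm (Fin 6), b * b = 1 → ∀ e : Bool,
    ¬ (a = 1 ∧ b = 1) → Rep.fit (Kind.sum true) rP65 (a, b) e = true → (a, b) ∈ rP65.F := by decide +kernel

theorem fit_rP67 : ∀ a : Perm (Fin 3), a * a = 1 → ∀ b : Perm (Fin 6), b * b = 1 → ∀ e : Bool,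
    ¬ (a = 1 ∧ b = 1) → Rep.fit (Kind.sum true) rP67 (a, b) e = true → (a, b) ∈ rP67.F := by decide +kernel

theorem fit_rP95 : ∀ a : Perm (Fin 3), a * a = 1 → ∀ b : Perm (Fin 6), b * b = 1 → ∀ e : Bool,
    ¬ (a = 1 ∧ b = 1) → Rep.fit (Kind.sum true) rP95 (a, b) e = true → (a, b) ∈ rP95.F := by decide +kernel

theorem fit_rP127 : ∀ a : Perm (Fin 3), a * a = 1 → ∀ b : Perm (Fin 6), b * b = 1 → ∀ e : Bool,
    ¬ (a = 1 ∧ b = 1) → Rep.fit (Kind.sum true) rP127 (a, b) e = true → (a, b) ∈ rP127.F := by decide +kernel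

end Cfsg.Agent.ExtraTwoNine
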