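import Mathlib
import Cfsg.Agent.Lib.ExtraTwoNine.Bits
import Cfsg.Agent.Lib.ExtraTwoNine.Outside
import Cfsg.Agent.Lib.ExtraTwoNine.PairData
import Cfsg.Agent.Lib.LargeExtra.Structure
import Cfsg.Agent.Lib.LargeExtra.Centralizer

/-!
Lifts of squares with a prescribed action, lifts fixing an element, and `Q` as a large extraspecial
subgroup of `C(z)`.
-/

set_option autoImplicit false
set_option linter.unusedSectionVars false

namespace Cfsg.Agent.ExtraTwoNine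

open Subgroup

theorem addNat_ext (f g : ℕ → ℕ) : ∀ k, f 0 = g 0 → (∀ a b, f (a ^^^ b) = f a ^^^ f b) →
    (∀ a b, g (a ^^^ b) = g a ^^^ g b) → (∀ i < k, f (2 ^ i) = g (2 ^ i)) → ∀ s < 2 ^ k, f s = g s
  | 0, h0, _, _, _, s, hs => by
    obtain rfl : s = 0 := by simpa using hs
    exact h0
  | k + 1, h0, hf, hg, h, s, hs => by
    have ih := addNat_ext f g k h0 hf hg (fun i hi => h i (by omega))
    by_cases hlt : s < 2 ^ k
    · exact ih s hlt
    · have h' := xor_two_pow_lt hs (not_lt.1 hlt)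
      have e : s = (s ^^^ 2 ^ k) ^^^ 2 ^ k := by rw [Nat.xor_assoc, Nat.xor_self, Nat.xor_zero]
      rw [e, hf, hg, ih _ h', h k (by omega)]

theorem kind_mem (k : Kind) : k ∈ [Kind.tensor, Kind.sum false, Kind.sum true] := by
  rcases k with _ | s
  · simp
  · cases s <;> simp

theorem sum_mem (s : Bool) : Kind.sum s ∈ [Kind.sum false, Kind.sum true] := by cases s <;> simp

namespace Coord

variable {G : Type*} [Group G] [Finite G] {z : G} (C : Coord z)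

theorem ctr : LargeExtra.Ctr C.Q z := by
  have hz2 : ∀ x, x ∈ zpowers z → x = 1 ∨ x = z := by
    intro x hx
    obtain ⟨k, rfl⟩ := mem_zpowers_iff.1 hx
    obtain ⟨m, rfl⟩ | ⟨m, rfl⟩ := Int.even_or_odd k
    · left; rw [zpow_add, ← (Commute.refl z).mul_zpow, C.zz, one_zpow]
    · right
      rw [zpow_add, zpow_one, two_mul, zpow_add, ← (Commute.refl z).mul_zpow, C.zz, one_zpow, one_mul]
  have hctr : (center ↥C.Q).map C.Q.subtype = zpowers z := by
    symm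
    refine Subgroup.eq_of_le_of_card_ge (zpowers_le.2 ⟨⟨z, C.z_mem⟩, mem_center_iff.2 fun x =>
      Subtype.ext (C.cent_z x.2), rfl⟩) ?_
    rw [card_map_of_injective C.Q.subtype_injective, C.ext.2, Nat.card_zpowers, C.ord]
  refine ⟨C.ext, C.ord, hctr, ?_, ?_⟩
  · refine le_antisymm (fun x hx => ?_) (zpowers_le.2 fun x hx => C.cent_z hx)
    have hxz : x ∈ Mz z := Coord.mem_cent.2 (mem_centralizer_iff.1 hx z C.z_mem).symm
    have hxQ := C.self_cent x hxz fun y hy => (mem_centralizer_iff.1 hx y hy).symm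
    rw [← hctr]
    exact ⟨⟨x, hxQ⟩, mem_center_iff.2 fun y => Subtype.ext (mem_centralizer_iff.1 hx y y.2), rfl⟩
  · intro m hm
    rw [mem_normalizer_iff]
    exact fun x => (C.conj_mem_iff hm).symm

theorem pi_conj_Q {q x : G} (hq : q ∈ C.Q) (hx : x ∈ C.Q) : C.π (q * x * q⁻¹) = C.π x := by
  rw [C.π_mul _ (mul_mem hq hx) _ (inv_mem hq), C.π_mul _ hq _ hx, C.pi_inv hq, Nat.xor_comm (C.π q),
    Nat.xor_assoc, Nat.xor_self, Nat.xor_zero]

/-- A lift of the square of `h`. -/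
theorem lift_sq {h : PP} (h1 : Equiv.Perm.sign h.1 = 1) (h2 : Equiv.Perm.sign h.2 = 1)
    (he : ∀ i ∈ List.range 8,
      ap (img C.kind h.1 h.2 true) (ap (img C.kind h.1 h.2 true) (2 ^ i)) = stp C.kind h (2 ^ i)) :
    ∃ m : ↥(Mz z), C.ψ m = h * h ∧
      ∀ x ∈ C.Q, C.π ((m : G) * x * (m : G)⁻¹) = stp C.kind h (C.π x) := by
  obtain ⟨m0, hm0⟩ := C.big h.1 h.2 h1 h2
  refine ⟨m0 * m0, by rw [map_mul, hm0], fun x hx => ?_⟩
  have e : ((m0 * m0 : ↥(Mz z)) : G) * x * ((m0 * m0 : ↥(Mz z)) : G)⁻¹ =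
      (m0 : G) * ((m0 : G) * x * (m0 : G)⁻¹) * (m0 : G)⁻¹ := by push_cast; group
  rw [e, C.pi_conj' m0.2 (C.conj_mem m0.2 hx), C.pi_conj' m0.2 hx]
  have hact : C.act ⟨(m0 : G), m0.2⟩ = img C.kind h.1 h.2 (C.eps m0) := by
    simp only [Coord.act, Subtype.coe_eta, hm0]
  rw [hact]
  rcases hb : C.eps m0 with _ | _
  · rfl
  · refine addNat_ext (fun v => ap (img C.kind h.1 h.2 true) (ap (img C.kind h.1 h.2 true) v))
      (stp C.kind h) 8 (by simp [stp, ap_zero]) (fun a b => by simp only [ap_xor])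
      (fun a b => by simp only [stp, ap_xor]) (fun i hi => he i (List.mem_range.2 hi)) _
      (by simpa using C.π_lt x hx)

/-- Adjust a lift so that it fixes `a`. -/
theorem exists_fix {a : G} (ha : a ∈ C.Q) (ha1 : a ≠ 1) (haz : a ≠ z) {m : G} (hm : m ∈ Mz z)
    (hfix : C.π (m * a * m⁻¹) = C.π a) : ∃ m', ∃ hm' : m' ∈ Mz z, C.ψ ⟨m', hm'⟩ = C.ψ ⟨m, hm⟩ ∧
      m' * a * m'⁻¹ = a ∧ ∀ x ∈ C.Q, C.π (m' * x * m'⁻¹) = C.π (m * x * m⁻¹) := by
  rcases C.pi_eq ha (C.conj_mem hm ha) hfix.symm with e | e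
  · exact ⟨m, hm, rfl, e, fun _ _ => rfl⟩
  · obtain ⟨q, hq, hqa⟩ := C.ctr.exists_move ha ha1 haz
    refine ⟨q * m, mul_mem (C.le_cent hq) hm, ?_, ?_, fun x hx => ?_⟩
    · rw [show (⟨q * m, mul_mem (C.le_cent hq) hm⟩ : ↥(Mz z)) = ⟨q, C.le_cent hq⟩ * ⟨m, hm⟩ from rfl,
        map_mul, (C.ker_iff _).2 hq, one_mul]
    · calc q * m * a * (q * m)⁻¹ = q * (m * a * m⁻¹) * q⁻¹ := by group
        _ = q * a * q⁻¹ * (q * z * q⁻¹) := by rw [e]; group
        _ = z * a * z := by rw [hqa, C.cent_z hq, mul_inv_cancel_right]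
        _ = a := by rw [← C.cent_z ha, mul_assoc, C.zz, mul_one]
    · rw [show q * m * x * (q * m)⁻¹ = q * (m * x * m⁻¹) * q⁻¹ by group,
        C.pi_conj_Q hq (C.conj_mem hm hx)]

end Coord

end Cfsg.Agent.ExtraTwoNine
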