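import Mathlib
import Cfsg.Agent.Lib.ExtraTwoNine.Bound
import Cfsg.Agent.Lib.ExtraTwoNine.Cases

/-!
No conjugate of `z` lies in `M` outside `Q` if none other than `z` lies in `Q`.
-/

set_option autoImplicit false
set_option linter.unusedSectionVars false

namespace Cfsg.Agent.ExtraTwoNine

open Subgroup

theorem half_count {k m : ℕ} (hk : k ≤ 8) :
    2 ^ k ≤ 2 * ((List.range (2 ^ k)).filter (Datum.inD m)).length := by
  set f : ℕ → Bool := Datum.inD m with hf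
  have hlin : ∀ a b, f (a ^^^ b) = !(f a ^^ f b) := fun a b => by
    simp only [hf, Datum.inD, par_and_xor]
    cases par (a &&& m) <;> cases par (b &&& m) <;> rfl
  have hlen : ((List.range (2 ^ k)).filter f).length =
      ((Finset.range (2 ^ k)).filter fun s => f s = true).card := by
    rw [← List.toFinset_card_of_nodup (List.nodup_range.filter _)]
    congr 1; ext; simp
  rw [hlen]
  have hsum := Finset.card_filter_add_card_filter_not (s := Finset.range (2 ^ k)) (fun s => f s = true)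
  rw [Finset.card_range] at hsum
  by_cases hall : ∀ s < 2 ^ k, f s = true
  · have : ((Finset.range (2 ^ k)).filter fun s => f s = true) = Finset.range (2 ^ k) :=
      Finset.filter_true_of_mem fun s hs => hall s (Finset.mem_range.1 hs)
    rw [this, Finset.card_range]; omega
  · push Not at hall
    obtain ⟨c, hc, hcf⟩ := hall
    have : ((Finset.range (2 ^ k)).filter fun s => ¬ f s = true).card ≤
        ((Finset.range (2 ^ k)).filter fun s => f s = true).card := by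
      refine Finset.card_le_card_of_injOn (fun s => s ^^^ c) (fun s hs => ?_) (fun a _ b _ e => ?_)
      · simp only [Finset.coe_filter, Finset.mem_range, Set.mem_setOf_eq] at hs ⊢
        refine ⟨xor_lt hs.1 hc, ?_⟩
        rw [hlin]
        simp [hs.2, hcf]
      · have := congrArg (· ^^^ c) e
        simpa [Nat.xor_assoc] using this
    omega

namespace Coord

variable {G : Type*} [Group G] [Finite G] {z : G} (C : Coord z) {g : G}

/-- Every element of `C_Q(u)` is, up to `z`, of the form `[u, q]`. -/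
def Full (g : G) : Prop :=
  ∀ x ∈ C.DD g, ∃ q ∈ C.Q, g * z * g⁻¹ * q * (g * z * g⁻¹)⁻¹ * q⁻¹ = x ∨
    g * z * g⁻¹ * q * (g * z * g⁻¹)⁻¹ * q⁻¹ = x * z

variable {C}

theorem conj_u {m : G} : m * g * z * (m * g)⁻¹ = m * (g * z * g⁻¹) * m⁻¹ := by group

theorem Pt.conj (h : C.Pt g) {m : G} (hm : m ∈ Mz z) : C.Pt (m * g) := by
  refine ⟨?_, ?_, ?_⟩
  · rw [conj_u]; exact mul_mem (mul_mem hm h.mem) (inv_mem hm)
  · rw [conj_u, C.conj_mem_iff hm]; exact h.out
  · have : (m * g)⁻¹ * z * (m * g) = g⁻¹ * z * g := by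
      calc (m * g)⁻¹ * z * (m * g) = g⁻¹ * (m⁻¹ * (z * m)) * g := by group
        _ = g⁻¹ * (m⁻¹ * (m * z)) * g := by rw [Coord.mem_cent.1 hm]
        _ = g⁻¹ * z * g := by group
    rw [this]; exact h.out'

theorem DD_inv_eq {m : G} (hm : m ∈ Mz z) : C.DD (m * g)⁻¹ = C.DD g⁻¹ := by
  have : (m * g)⁻¹ * z * (m * g)⁻¹⁻¹ = g⁻¹ * z * g⁻¹⁻¹ := by
    calc (m * g)⁻¹ * z * (m * g)⁻¹⁻¹ = g⁻¹ * (m⁻¹ * (z * m)) * g := by group
      _ = g⁻¹ * (m⁻¹ * (m * z)) * g := by rw [Coord.mem_cent.1 hm]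
      _ = g⁻¹ * z * g⁻¹⁻¹ := by group
  simp only [DD, this]

theorem map_DD_conj {m : G} (hm : m ∈ Mz z) :
    (C.DD g).map (MulAut.conj m).toMonoidHom = C.DD (m * g) := by
  ext x
  rw [mem_map_equiv, C.mem_DD, C.mem_DD, conj_u]
  simp only [MulAut.conj_symm_apply]
  have hQ : m⁻¹ * x * m ∈ C.Q ↔ x ∈ C.Q := by
    simpa using C.conj_mem_iff (x := x) (inv_mem hm)
  rw [hQ]
  refine and_congr_right fun _ => ?_
  constructor
  · intro e
    calc x * (m * (g * z * g⁻¹) * m⁻¹) = m * (m⁻¹ * x * m * (g * z * g⁻¹)) * m⁻¹ := by group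
      _ = m * (g * z * g⁻¹ * (m⁻¹ * x * m)) * m⁻¹ := by rw [e]
      _ = _ := by group
  · intro e
    calc m⁻¹ * x * m * (g * z * g⁻¹) = m⁻¹ * (x * (m * (g * z * g⁻¹) * m⁻¹)) * m := by group
      _ = m⁻¹ * (m * (g * z * g⁻¹) * m⁻¹ * x) * m := by rw [e]
      _ = _ := by group

theorem card_DD_conj {m : G} (hm : m ∈ Mz z) : Nat.card ↥(C.DD (m * g)) = Nat.card ↥(C.DD g) := by
  rw [← map_DD_conj hm]
  exact (Nat.card_congr ((C.DD g).equivMapOfInjective _ (MulAut.conj m).injective).toEquiv).symm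

theorem Full.of_conj {m : G} (hm : m ∈ Mz z) (h : C.Full (m * g)) : C.Full g := by
  intro x hx
  have hx' : m * x * m⁻¹ ∈ C.DD (m * g) := by
    rw [← map_DD_conj hm]; exact ⟨x, hx, rfl⟩
  obtain ⟨q, hq, e⟩ := h _ hx'
  refine ⟨m⁻¹ * q * m, by simpa using C.conj_mem (inv_mem hm) hq, ?_⟩
  have e0 : g * z * g⁻¹ * (m⁻¹ * q * m) * (g * z * g⁻¹)⁻¹ * (m⁻¹ * q * m)⁻¹ =
      m⁻¹ * (m * g * z * (m * g)⁻¹ * q * (m * g * z * (m * g)⁻¹)⁻¹ * q⁻¹) * m := by group
  rw [e0]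
  rcases e with e | e <;> rw [e]
  · left; group
  · right
    calc m⁻¹ * (m * x * m⁻¹ * z) * m = x * (m⁻¹ * (z * m)) := by group
      _ = x * (m⁻¹ * (m * z)) := by rw [Coord.mem_cent.1 hm]
      _ = x * z := by group

theorem Pt.inv_Mz (h : C.Pt g) : g⁻¹ * z * g ∈ Mz z := by simpa using h.inv.mem

/-- Reduction to a representative. -/
theorem Pt.normalise (h : C.Pt g) : ∃ m, ∃ hm : m ∈ Mz z, ∃ d ∈ data C.kind,
    Matches C d (m * g) (h.conj hm).mem ∧
      (∃ a' : Equiv.Perm (Fin 3), ∃ b' : Equiv.Perm (Fin 6),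
        a' * (C.ψ ⟨_, h.mem⟩).1 * a'⁻¹ = d.a ∧ b' * (C.ψ ⟨_, h.mem⟩).2 * b'⁻¹ = d.b) := by
  have hsq : C.ψ ⟨_, h.mem⟩ * C.ψ ⟨_, h.mem⟩ = 1 := by
    rw [← map_mul, show (⟨_, h.mem⟩ : ↥(Mz z)) * ⟨_, h.mem⟩ = 1 from Subtype.ext (C.uu g), map_one]
  rw [Prod.ext_iff] at hsq
  obtain ⟨a', -, ha, ha'⟩ := cover3 _ hsq.1
  obtain ⟨b', hb', hb⟩ := cover6 _ hsq.2
  obtain ⟨⟨m, hm⟩, hψm⟩ := C.big a' b' ha' (even6 b' hb')
  have hψ : C.ψ ⟨_, (h.conj hm).mem⟩ =
      (a' * (C.ψ ⟨_, h.mem⟩).1 * a'⁻¹, b' * (C.ψ ⟨_, h.mem⟩).2 * b'⁻¹) := by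
    rw [show (⟨_, (h.conj hm).mem⟩ : ↥(Mz z)) = ⟨m, hm⟩ * ⟨_, h.mem⟩ * ⟨m, hm⟩⁻¹ from
      Subtype.ext conj_u, map_mul, map_mul, map_inv, hψm]
    rfl
  have hne : ¬ (a' * (C.ψ ⟨_, h.mem⟩).1 * a'⁻¹ = 1 ∧ b' * (C.ψ ⟨_, h.mem⟩).2 * b'⁻¹ = 1) := by
    rintro ⟨e1, e2⟩
    exact (h.conj hm).out ((C.ker_iff _).1 (by rw [hψ, e1, e2]; rfl))
  obtain ⟨d, hd, hk, hda, hdb, hL, -⟩ :=
    cover C.kind _ ha _ hb (C.eps ⟨_, (h.conj hm).mem⟩) hne
  refine ⟨m, hm, d, hd, ⟨hk, ?_, ?_⟩, a', b', hda.symm, hdb.symm⟩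
  · rw [hψ, hda, hdb]
  · rw [Coord.act, hψ]; exact hL

variable (hn : C.NoPair)

include hn

theorem Pt.card_DP_le (h : C.Pt g) : Nat.card ↥(C.DP g) ≤ 32 := by
  obtain ⟨m, hm, d, hd, hM, -⟩ := h.normalise
  have hok := data_ok _ d hd
  rw [C.card_DP, ← DD_inv_eq hm, ← C.card_DP]
  rcases hok.check with ⟨-, hc⟩ | ⟨-, hc, -⟩
  · obtain ⟨n, B, F, hP, -, hle, -⟩ := (h.conj hm).bound hn hM hok.wf hok.complete hc
    simp only [killP, Bool.or_eq_true, Bool.and_eq_true, decide_eq_true_eq] at hP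
    omega
  · obtain ⟨n, B, F, hP, -, hle, -⟩ := (h.conj hm).bound hn hM hok.wf hok.complete hc
    simp only [specialP, Bool.and_eq_true, decide_eq_true_eq] at hP
    have : target d.kind ≤ 32 := by cases d.kind <;> simp [target]
    omega

theorem Pt.card_DD_ge (h : C.Pt g) : 16 ≤ Nat.card ↥(C.DD g) := by
  obtain ⟨m, hm, d, hd, hM, -⟩ := h.normalise
  have hok := data_ok _ d hd
  rw [← card_DD_conj hm]
  have h' := h.conj hm
  obtain ⟨mm, hml, hmm⟩ := h'.exists_m hM hok.wf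
  have h8 : d.bs.length ≤ 8 := by rcases hok.dim with e | e | e | e <;> omega
  have hhalf := half_count (k := d.bs.length) (m := mm) h8
  have h16 : 2 ^ 4 ≤ 2 ^ d.bs.length :=
    Nat.pow_le_pow_right (by norm_num) (by rcases hok.dim with e | e | e | e <;> omega)
  rw [C.card_of_mem DD_le_Q (C.z_mem_DD h'.mem)]
  have : ((List.range (2 ^ d.bs.length)).filter (Datum.inD mm)).length ≤ (C.im (C.DD (m * g))).ncard := by
    rw [← List.toFinset_card_of_nodup (List.nodup_range.filter _), ← Set.ncard_coe_finset]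
    refine Set.ncard_le_ncard_of_injOn (fun s => ap d.bs s) (fun s hs => ?_) (fun a ha b hb e => ?_)
      (C.im_finite _)
    · simp only [List.coe_toFinset, List.mem_filter, List.mem_range, Set.mem_setOf_eq] at hs
      exact (hmm s hs.1).2 hs.2
    · simp only [List.coe_toFinset, List.mem_filter, List.mem_range, Set.mem_setOf_eq] at ha hb
      exact h'.coord_inj hM hok.wf ha.1 hb.1 e
  omega

/-- Every conjugate outside `Q` is one of the survivors, with its bound attained. -/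
theorem Pt.special (h : C.Pt g) : Allow C.kind (C.ψ ⟨_, h.mem⟩) ∧ C.Full g ∧
    Nat.card ↥(C.DD g) = target C.kind ∧
    ∃ m, ∃ hm : m ∈ Mz z, ∃ d ∈ data C.kind, Matches C d (m * g) (h.conj hm).mem ∧
      isSpec d.kind d.a d.b d.e = true := by
  obtain ⟨m, hm, d, hd, hM, a', b', ha, hb⟩ := h.normalise
  have hok := data_ok _ d hd
  have h' := h.conj hm
  have h32 : Nat.card ↥(C.DD (m * g)) ≤ 32 := by
    have := h'.inv.card_DP_le hn
    rwa [C.card_DP, inv_inv] at this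
  have h16 : 16 ≤ Nat.card ↥(C.DP (m * g)) := by
    rw [C.card_DP]; exact h'.inv.card_DD_ge hn
  rcases hok.check with ⟨-, hc⟩ | ⟨hs, hc, hw⟩
  · exfalso
    obtain ⟨n, B, F, hP, hn2, hle, -⟩ := h'.bound hn hM hok.wf hok.complete hc
    simp only [killP, Bool.or_eq_true, Bool.and_eq_true, decide_eq_true_eq] at hP
    omega
  obtain ⟨n, B, F, hP, hn2, -, -⟩ := h'.bound hn hM hok.wf hok.complete hc
  simp only [specialP, Bool.and_eq_true, decide_eq_true_eq] at hP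
  refine ⟨?_, Full.of_conj hm ?_, ?_, m, hm, d, hd, hM, hs⟩
  · have hk := hM.kind
    rw [← ha, ← hb, hk] at hs
    revert hs
    generalize C.ψ ⟨_, h.mem⟩ = p
    rcases C.kind with _ | s <;> intro hs <;>
      simp only [isSpec, Bool.and_eq_true, Bool.or_eq_true, decide_eq_true_eq] at hs
    · refine ⟨conj_eq_one_iff.1 hs.1, b', ?_⟩
      exact hs.2
    · refine ⟨fun e => ?_, b', ?_⟩
      · rw [e, mul_one, mul_inv_cancel] at hs
        exact absurd hs.1 (by decide)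
      · rcases hs.2 with e | e
        · exact Or.inl e.2
        · exact Or.inr e.2
  · intro x hx
    obtain ⟨s, hsl, es⟩ := h'.DD_coord hM hok.wf (v := C.π x) ⟨x, hx, rfl⟩
    simp only [List.all_eq_true, Datum.ks, List.mem_range] at hw
    obtain ⟨y, hy, ey⟩ := (h'.inW_iff hM hok.wf).1 (hw s hsl)
    obtain ⟨q, hq, rfl⟩ := C.π_surj y hy
    obtain ⟨hcQ, hc'⟩ := h'.comm_q hM hok.wf hq
    exact ⟨q, hq, C.pi_eq (DD_le_Q hx) hcQ (by rw [hc', ey, es])⟩
  · rw [← card_DD_conj hm, ← hM.kind, hn2]; exact hP.1.1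

theorem Pt.of_notMem {k : G} (hmem : k * z * k⁻¹ ∈ Mz z) (hout : k * z * k⁻¹ ∉ C.Q) : C.Pt k := by
  refine ⟨hmem, hout, fun hQ => hout ?_⟩
  have e := hn k⁻¹ (by simpa using hQ)
  have : k * z * k⁻¹ = z := by
    calc k * z * k⁻¹ = k * (k⁻¹ * z * k⁻¹⁻¹) * k⁻¹ := by rw [e]
      _ = z := by group
  rw [this]; exact C.z_mem

/-- An element of `C_{Q_u}(z)` gives a further conjugate. -/
theorem Pt.coset (h : C.Pt g) {x : G} (hx : x ∈ C.DP g) (h1 : C.ψ ⟨x, DP_le hx⟩ ≠ 1)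
    (h2 : C.ψ ⟨x, DP_le hx⟩ ≠ C.ψ ⟨_, h.mem⟩) :
    ∃ k, ∃ hk : C.Pt k, C.ψ ⟨_, hk.mem⟩ = C.ψ ⟨x, DP_le hx⟩ ∨
      C.ψ ⟨_, hk.mem⟩ = C.ψ ⟨x, DP_le hx⟩ * C.ψ ⟨_, h.mem⟩ := by
  have hx' : g⁻¹ * x * g ∈ C.DD g⁻¹ := by
    rw [← C.map_DD (g := g), mem_map_equiv] at hx
    simpa [MulAut.conj_symm_apply] using hx
  obtain ⟨q, hq, e⟩ := (h.inv.special hn).2.1 _ hx'
  simp only [inv_inv] at e
  set w := g⁻¹ * z * g with hw
  have hww : w * w = 1 := by simpa [hw] using C.uu g⁻¹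
  have hwz := C.cent_z hq
  have key : g * q * g⁻¹ * z * (g * q * g⁻¹)⁻¹ = g * (w * (w * q * w⁻¹ * q⁻¹)) * g⁻¹ := by
    have : w⁻¹ = w := inv_eq_of_mul_eq_one_right hww
    calc g * q * g⁻¹ * z * (g * q * g⁻¹)⁻¹ = g * (q * w * q⁻¹) * g⁻¹ := by rw [hw]; group
      _ = g * (w * w * (q * w * q⁻¹)) * g⁻¹ := by rw [hww, one_mul]
      _ = g * (w * (w * q * w⁻¹ * q⁻¹)) * g⁻¹ := by rw [this]; group
  have hcomm : (⟨x, DP_le hx⟩ : ↥(Mz z)) * ⟨_, h.mem⟩ = ⟨_, h.mem⟩ * ⟨x, DP_le hx⟩ :=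
    Subtype.ext (comm_u hx)
  have hzQ : C.ψ ⟨z, C.le_cent C.z_mem⟩ = 1 := (C.ker_iff _).2 C.z_mem
  rcases e with e | e
  · have e' : g * q * g⁻¹ * z * (g * q * g⁻¹)⁻¹ = z * x := by rw [key, e, hw]; group
    have hmem : g * q * g⁻¹ * z * (g * q * g⁻¹)⁻¹ ∈ Mz z := by
      rw [e']; exact mul_mem (C.le_cent C.z_mem) (DP_le hx)
    have hψ : C.ψ ⟨_, hmem⟩ = C.ψ ⟨x, DP_le hx⟩ := by
      rw [show (⟨_, hmem⟩ : ↥(Mz z)) = ⟨z, C.le_cent C.z_mem⟩ * ⟨x, DP_le hx⟩ from Subtype.ext e',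
        map_mul, hzQ, one_mul]
    exact ⟨_, Pt.of_notMem hn hmem fun hQ => h1 (hψ ▸ (C.ker_iff _).2 hQ), Or.inl hψ⟩
  · have e' : g * q * g⁻¹ * z * (g * q * g⁻¹)⁻¹ = z * x * (g * z * g⁻¹) := by
      rw [key, e, hw]; group
    have hmem : g * q * g⁻¹ * z * (g * q * g⁻¹)⁻¹ ∈ Mz z := by
      rw [e']; exact mul_mem (mul_mem (C.le_cent C.z_mem) (DP_le hx)) h.mem
    have hψ : C.ψ ⟨_, hmem⟩ = C.ψ ⟨x, DP_le hx⟩ * C.ψ ⟨_, h.mem⟩ := by
      rw [show (⟨_, hmem⟩ : ↥(Mz z)) = ⟨z, C.le_cent C.z_mem⟩ * ⟨x, DP_le hx⟩ * ⟨_, h.mem⟩ from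
        Subtype.ext e', map_mul, map_mul, hzQ, one_mul]
    refine ⟨_, Pt.of_notMem hn hmem fun hQ => h2 ?_, Or.inr hψ⟩
    have h3 := hψ ▸ (C.ker_iff _).2 hQ
    rw [mul_eq_one_iff_eq_inv] at h3
    rw [h3, ← map_inv]
    exact congrArg C.ψ (Subtype.ext (C.u_inv g))

/-- When the bound is attained, the witness occurs. -/
theorem Pt.witness (h : C.Pt g) {d : Datum} (hd : d ∈ data C.kind) (hM : Matches C d g h.mem)
    (hs : isSpec d.kind d.a d.b d.e = true) :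
    ∃ x, ∃ hx : x ∈ C.DP g, C.ψ ⟨x, DP_le hx⟩ = (witA, witB C.kind d.b) := by
  have hok := data_ok _ d hd
  rcases hok.check with ⟨hs', -⟩ | ⟨-, hc, -⟩
  · rw [hs] at hs'; exact absurd hs' (by simp)
  obtain ⟨n, B, F, hP, -, hle, hall⟩ := h.bound hn hM hok.wf hok.complete hc
  simp only [specialP, Bool.and_eq_true, Bool.or_eq_true, decide_eq_true_eq, List.any_eq_true,
    beq_iff_eq, hM.kind] at hP
  have ht : Nat.card ↥(C.DP g) = target C.kind := by
    rw [C.card_DP]; exact (h.inv.special hn).2.2.1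
  rcases hP.2 with hlt | ⟨E, hE, ec⟩
  · omega
  obtain ⟨x, hx, ex⟩ := hall (by omega) E hE
  refine ⟨x, hx, ?_⟩
  obtain ⟨e1, e2⟩ := key_injective (ex.symm.trans ec)
  exact Prod.ext e1 e2

/-- No conjugate of `z` lies outside `Q`. -/
theorem Pt.false (h : C.Pt g) : False := by
  have main : ∀ {g : G} (h : C.Pt g) {d : Datum}, d ∈ data C.kind → Matches C d g h.mem →
      isSpec d.kind d.a d.b d.e = true →
      (∀ k (hk : C.Pt k),
        C.ψ ⟨_, hk.mem⟩ ≠ (witA, witB C.kind d.b) ∧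
        C.ψ ⟨_, hk.mem⟩ ≠ (witA, witB C.kind d.b) * (d.a, d.b)) →
      (witA, witB C.kind d.b) ≠ 1 → (witA, witB C.kind d.b) ≠ (d.a, d.b) → False := by
    intro g h d hd hM hs hno h1 h2
    obtain ⟨x, hx, ex⟩ := h.witness hn hd hM hs
    obtain ⟨k, hk, e⟩ := h.coset hn hx (by rw [ex]; exact h1) (by rw [ex, hM.psi]; exact h2)
    rw [ex, hM.psi] at e
    rcases e with e | e
    · exact (hno k hk).1 e
    · exact (hno k hk).2 e
  rcases hkind : C.kind with _ | s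
  · -- the tensor model: first the elements of `A₆` are excluded, then the others
    have round : ∀ {g : G} (h : C.Pt g), ∀ m (hm : m ∈ Mz z), ∀ d ∈ data C.kind,
        Matches C d (m * g) (h.conj hm).mem → isSpec d.kind d.a d.b d.e = true →
        d.b ≠ Equiv.swap 2 3 * Equiv.swap 4 5 := by
      intro g h m hm d hd hM hs hb
      have hw : witB C.kind d.b = Equiv.swap 2 3 := by rw [hkind, witB, if_pos hb]
      have ha : d.a = 1 := by
        rw [hM.kind, hkind] at hs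
        simp only [isSpec, Bool.and_eq_true, decide_eq_true_eq] at hs
        exact hs.1
      refine main (h.conj hm) hd hM hs (fun k hk => ?_) ?_ ?_
      · have hA := (hk.special hn).1
        simp only [hkind, Allow] at hA
        obtain ⟨-, c, hc⟩ := hA
        constructor <;> intro e <;> rw [e, hw] at hc
        · rcases hc with hc | hc
          exacts [(no_dt c).1 hc, (no_dt c).2.1 hc]
        · simp only [Prod.mk_mul_mk, hb, ← mul_assoc, Equiv.swap_mul_self, one_mul] at hc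
          rcases hc with hc | hc
          exacts [(no_dt c).2.2.1 hc, (no_dt c).2.2.2 hc]
      · rw [hw]; decide
      · rw [hw, ha, hb]; decide
    obtain ⟨-, -, -, m, hm, d, hd, hM, hs⟩ := h.special hn
    have hb : d.b = Equiv.swap 0 1 * Equiv.swap 2 3 * Equiv.swap 4 5 := by
      have hb := round h m hm d hd hM hs
      rw [hM.kind, hkind] at hs
      simp only [isSpec, Bool.and_eq_true, Bool.or_eq_true, decide_eq_true_eq] at hs
      exact hs.2.resolve_left hb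
    have ha : d.a = 1 := by
      rw [hM.kind, hkind] at hs
      simp only [isSpec, Bool.and_eq_true, decide_eq_true_eq] at hs
      exact hs.1
    have hw : witB C.kind d.b = Equiv.swap 0 1 := by
      rw [hkind, witB, if_neg (by rw [hb]; decide)]
    refine main (h.conj hm) hd hM hs (fun k hk => ?_) ?_ ?_
    · obtain ⟨-, -, -, m', hm', d', hd', hM', hs'⟩ := hk.special hn
      have hb' : d'.b = Equiv.swap 0 1 * Equiv.swap 2 3 * Equiv.swap 4 5 := by
        have hb := round hk m' hm' d' hd' hM' hs'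
        rw [hM'.kind, hkind] at hs'
        simp only [isSpec, Bool.and_eq_true, Bool.or_eq_true, decide_eq_true_eq] at hs'
        exact hs'.2.resolve_left hb
      have hψ : (C.ψ ⟨_, (hk.conj hm').mem⟩).2 =
          (C.ψ ⟨m', hm'⟩).2 * (C.ψ ⟨_, hk.mem⟩).2 * (C.ψ ⟨m', hm'⟩).2⁻¹ := by
        rw [show (⟨_, (hk.conj hm').mem⟩ : ↥(Mz z)) = ⟨m', hm'⟩ * ⟨_, hk.mem⟩ * ⟨m', hm'⟩⁻¹ from
          Subtype.ext conj_u, map_mul, map_mul, map_inv]
        rfl
      rw [hM'.psi, hb'] at hψ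
      constructor <;> intro e <;> rw [e, hw] at hψ
      · exact (no_ttt _).1 hψ.symm
      · simp only [Prod.mk_mul_mk, hb, ← mul_assoc, Equiv.swap_mul_self, one_mul] at hψ
        exact (no_ttt _).2 hψ.symm
    · rw [hw]; decide
    · rw [hw, ha, hb]; decide
  · obtain ⟨-, -, -, m, hm, d, hd, hM, hs⟩ := h.special hn
    have hspec : d.a = Equiv.swap 1 2 ∧ (d.b = Equiv.swap 2 3 * Equiv.swap 4 5 ∨
        d.b = Equiv.swap 0 1 * Equiv.swap 2 3 * Equiv.swap 4 5) := by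
      rw [hM.kind, hkind] at hs
      simp only [isSpec, Bool.and_eq_true, Bool.or_eq_true, decide_eq_true_eq] at hs
      exact ⟨hs.1, hs.2.imp (·.2) (·.2)⟩
    obtain ⟨ha, hb⟩ := hspec
    refine main (h.conj hm) hd hM hs (fun k hk => ?_) ?_ ?_
    · have hA := (hk.special hn).1
      simp only [hkind, Allow] at hA
      obtain ⟨ha', c, hc⟩ := hA
      constructor <;> intro e
      · rw [e] at ha'; exact ha' rfl
      · rw [e] at hc
        rcases hb with hb | hb <;> simp only [hkind, witB, hb, if_pos rfl, Prod.mk_mul_mk] at hc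
        · simp only [↓reduceIte, ← mul_assoc, Equiv.swap_mul_self, one_mul] at hc
          rcases hc with hc | hc
          exacts [(no_dt c).2.2.1 hc, (no_dt c).2.2.2 hc]
        · rw [if_neg (by decide)] at hc
          have hp : Equiv.swap 0 1 * Equiv.swap 2 3 *
              (Equiv.swap 0 1 * Equiv.swap 2 3 * Equiv.swap 4 5 : Equiv.Perm (Fin 6)) =
              Equiv.swap 4 5 := by decide
          rw [hp] at hc
          rcases hc with hc | hc
          exacts [(no_dt c).2.2.1 hc, (no_dt c).2.2.2 hc]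
    · rcases hb with hb | hb <;> rw [hkind, witB, hb] <;> decide
    · rw [ha]
      intro e
      exact absurd (Prod.ext_iff.1 e).1 (show witA ≠ Equiv.swap 1 2 by decide)

end Coord

end Cfsg.Agent.ExtraTwoNine
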