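import Mathlib
import Cfsg.Agent.Lib.ExtraTwoNine.Lift
import Cfsg.Agent.Lib.ExtraTwoNine.Stage

/-!
A conjugate `a = g z g⁻¹` of `z` in `Q`, `a ≠ z`: the groups `Q ∩ Q_a` and `C_{Q_a}(z)`.
-/

set_option autoImplicit false
set_option linter.unusedSectionVars false

namespace Cfsg.Agent.ExtraTwoNine

open Subgroup

namespace Coord

variable {G : Type*} [Group G] [Finite G] {z : G} {C : Coord z} {g : G}

/-- `g z g⁻¹` lies in `Q` and differs from `z`. -/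
structure QPair (C : Coord z) (g : G) : Prop where
  mem : g * z * g⁻¹ ∈ C.Q
  ne : g * z * g⁻¹ ≠ z

namespace QPair

variable (h : C.QPair g)

include h

theorem z_mem' : g⁻¹ * z * g ∈ C.Q := by
  have hP := LargeExtra.Pair.mk' C.ctr h.mem h.ne
  have hz := hP.z_mem' (by rw [C.card]; norm_num)
  rw [mem_map_equiv, MulAut.conj_symm_apply] at hz
  exact hz

theorem inv : C.QPair g⁻¹ := by
  refine ⟨by simpa using h.z_mem', fun e => h.ne ?_⟩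
  calc g * z * g⁻¹ = g * (g⁻¹ * z * g⁻¹⁻¹) * g⁻¹ := by rw [e]
    _ = z := by group

theorem ne_one : g * z * g⁻¹ ≠ 1 := fun e => C.z_ne (by
  calc z = g⁻¹ * (g * z * g⁻¹) * g := by group
    _ = 1 := by rw [e]; group)

theorem mem_Mz : g * z * g⁻¹ ∈ Mz z := C.le_cent h.mem

theorem conj {m : G} (hm : m ∈ Mz z) : C.QPair (m * g) := by
  refine ⟨?_, fun e => h.ne ?_⟩
  · rw [conj_u, C.conj_mem_iff hm]; exact h.mem
  · rw [conj_u] at e
    calc g * z * g⁻¹ = m⁻¹ * (m * (g * z * g⁻¹) * m⁻¹) * m := by group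
      _ = m⁻¹ * (z * m) := by rw [e]; group
      _ = z := by rw [← Coord.mem_cent.1 hm]; group

theorem pi_facts : C.π (g * z * g⁻¹) < 256 ∧ C.π (g * z * g⁻¹) ≠ 0 ∧
    qv C.kind (C.π (g * z * g⁻¹)) = false := by
  refine ⟨C.π_lt _ h.mem, fun e => ?_, (C.sq_one h.mem).1 (C.uu g)⟩
  rcases (C.π_zero _ h.mem).1 e with k | k
  exacts [h.ne_one k, h.ne k]

/-- Reduction to a representative. -/
theorem normalise : ∃ m, ∃ hm : m ∈ Mz z, ∃ r ∈ reps C.kind, C.π (m * g * z * (m * g)⁻¹) = r.v ∧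
    (C.kind = Kind.tensor → ∃ h1 ∈ selA Kind.tensor, ∃ h2 ∈ selB Kind.tensor,
      stp Kind.tensor h2 (stp Kind.tensor h1 (C.π (g * z * g⁻¹))) = r.v) := by
  obtain ⟨hlt, h0, hq⟩ := h.pi_facts
  have hk := kind_mem C.kind
  rcases cover_k _ hk _ (List.mem_range.2 hlt) with e | e | ⟨h1, hh1, h2, hh2, e⟩
  · exact absurd e h0
  · rw [hq] at e; exact absurd e (by simp)
  rw [repsV_eq_k _ hk] at e
  obtain ⟨r, hr, er⟩ := List.mem_map.1 e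
  have hs1 := sel_even_k _ hk h1 (List.mem_append_left _ hh1)
  have hs2 := sel_even_k _ hk h2 (List.mem_append_right _ hh2)
  obtain ⟨m1, -, hm1⟩ := C.lift_sq hs1.1 hs1.2 (stp_eps_k _ hk h1
    (List.mem_append_left _ (List.mem_append_left _ hh1)))
  obtain ⟨m2, -, hm2⟩ := C.lift_sq hs2.1 hs2.2 (stp_eps_k _ hk h2
    (List.mem_append_left _ (List.mem_append_right _ hh2)))
  refine ⟨(m2 : G) * m1, mul_mem m2.2 m1.2, r, hr, ?_, fun hT => ⟨h1, hT ▸ hh1, h2, hT ▸ hh2, ?_⟩⟩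
  · rw [show (m2 : G) * m1 * g * z * ((m2 : G) * m1 * g)⁻¹ =
      (m2 : G) * ((m1 : G) * (g * z * g⁻¹) * (m1 : G)⁻¹) * (m2 : G)⁻¹ by group,
      hm2 _ (C.conj_mem m1.2 h.mem), hm1 _ h.mem, er]
  · rw [hT] at er; exact er.symm

theorem card_DD : Nat.card ↥(C.DD g) = 256 := by
  obtain ⟨m, hm, r, hr, e, -⟩ := h.normalise
  rw [← card_DD_conj hm]
  have h' := h.conj hm
  rw [C.card_of_mem DD_le_Q (C.z_mem_DD h'.mem_Mz)]
  have hok := reps_ok_k _ (kind_mem C.kind) r hr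
  simp only [Rep.ok, Bool.and_eq_true, decide_eq_true_eq] at hok
  have hset : C.im (C.DD (m * g)) = ↑((List.range 256).filter fun v => !bq C.kind v r.v).toFinset := by
    ext v
    simp only [List.coe_toFinset, List.mem_filter, List.mem_range, Bool.not_eq_true', Set.mem_setOf_eq]
    constructor
    · rintro ⟨x, hx, rfl⟩
      obtain ⟨hxQ, hxa⟩ := C.mem_DD.1 hx
      exact ⟨C.π_lt x hxQ, by rw [← e]; exact (C.comm_iff hxQ h'.mem).1 hxa⟩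
    · rintro ⟨hv, hb⟩
      obtain ⟨x, hx, rfl⟩ := C.π_surj v hv
      exact ⟨x, C.mem_DD.2 ⟨hx, (C.comm_iff hx h'.mem).2 (by rw [e]; exact hb)⟩, rfl⟩
  rw [hset, Set.ncard_coe_finset, List.toFinset_card_of_nodup (List.nodup_range.filter _),
    hok.1.1.1.2]

theorem card_DP : Nat.card ↥(C.DP g) = 256 := by rw [C.card_DP, h.inv.card_DD]

theorem z_mem_BB : z ∈ C.BB g := C.mem_BB.2 ⟨C.z_mem, h.z_mem', rfl⟩

theorem a_mem_BB : g * z * g⁻¹ ∈ C.BB g := by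
  refine C.mem_BB.2 ⟨h.mem, ?_, Coord.mem_cent.1 h.mem_Mz⟩
  rw [show g⁻¹ * (g * z * g⁻¹) * g = z by group]
  exact C.z_mem

/-- Something in `Q` that is `1` or `z` and `1` or `a` is trivial. -/
theorem triv {c : G} (h1 : c = 1 ∨ c = z) (h2 : c = 1 ∨ c = g * z * g⁻¹) : c = 1 := by
  rcases h1 with e | e
  · exact e
  · rcases h2 with e' | e'
    · exact e'
    · exact absurd (e'.symm.trans e) h.ne

theorem sq_one {x : G} (hx : x ∈ C.BB g) : x * x = 1 :=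
  h.triv (C.sq_cases (BB_le_Q hx)) (DP_sq (C.mem_DP.2 (C.mem_BB.1 hx).2))

/-- Commutators of two elements of `C_{Q_a}(z)`. -/
theorem DP_comm {x y : G} (hx : x ∈ C.DP g) (hy : y ∈ C.DP g) :
    x * y * x⁻¹ * y⁻¹ = 1 ∨ x * y * x⁻¹ * y⁻¹ = g * z * g⁻¹ := by
  have e : x * y * x⁻¹ * y⁻¹ =
      g * ((g⁻¹ * x * g) * (g⁻¹ * y * g) * (g⁻¹ * x * g)⁻¹ * (g⁻¹ * y * g)⁻¹) * g⁻¹ := by group
  rcases C.comm_cases (C.mem_DP.1 hx).1 (C.mem_DP.1 hy).1 with k | k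
  · exact Or.inl (by rw [e, k]; group)
  · exact Or.inr (by rw [e, k])

theorem BB_le_DP : C.BB g ≤ C.DP g := inf_le_right

theorem comm {x y : G} (hx : x ∈ C.BB g) (hy : y ∈ C.BB g) : x * y = y * x := by
  have k := h.triv (C.comm_cases (BB_le_Q hx) (BB_le_Q hy))
    (h.DP_comm (C.mem_DP.2 (C.mem_BB.1 hx).2) (C.mem_DP.2 (C.mem_BB.1 hy).2))
  calc x * y = x * y * x⁻¹ * y⁻¹ * (y * x) := by group
    _ = y * x := by rw [k, one_mul]

theorem card_BB_le : Nat.card ↥(C.BB g) ≤ 32 := by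
  haveI : Fact (Nat.Prime 2) := ⟨Nat.prime_two⟩
  let X : Subgroup ↥C.Q := (C.BB g).subgroupOf C.Q
  haveI : IsMulCommutative ↥X := ⟨⟨fun x y => Subtype.ext (Subtype.ext (by
    have := h.comm (mem_subgroupOf.1 x.2) (mem_subgroupOf.1 y.2)
    simpa using this))⟩⟩
  have h1 := PGroups.Extraspecial.card_sq_le_of_abelian C.ext X
  have h2 : Nat.card ↥X = Nat.card ↥(C.BB g) := Nat.card_congr (subgroupOfEquivOfLe BB_le_Q).toEquiv
  rw [h2, C.card] at h1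
  by_contra hc
  have : 33 ^ 2 ≤ Nat.card ↥(C.BB g) ^ 2 := Nat.pow_le_pow_left (by omega) 2
  omega

theorem card_im : Nat.card ↥(C.BB g) = 2 * (C.im (C.BB g)).ncard := C.card_of_mem BB_le_Q h.z_mem_BB

/-- The images of `C_{Q_a}(z)`. -/
theorem card_eq : (Set.range fun x : ↥(C.DP g) => C.ψ ⟨x, DP_le x.2⟩).ncard * Nat.card ↥(C.BB g) = 256 := by
  set φ := C.ψ.comp (Subgroup.inclusion (DP_le (C := C) (g := g))) with hφ
  have hk : Nat.card ↥φ.ker = Nat.card ↥(C.BB g) := Nat.card_congr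
    { toFun := fun x => ⟨x.1.1, ⟨(C.ker_iff _).1 x.2, x.1.2⟩⟩
      invFun := fun x => ⟨⟨x.1, x.2.2⟩, (C.ker_iff _).2 x.2.1⟩
      left_inv := fun _ => rfl
      right_inv := fun _ => rfl }
  have hr : (Set.range fun x : ↥(C.DP g) => C.ψ ⟨x, DP_le x.2⟩).ncard = Nat.card ↥φ.range :=
    (Nat.card_coe_set_eq _).symm
  rw [hr, ← hk, ← Nat.card_congr (QuotientGroup.quotientKerEquivRange φ).toEquiv,
    ← Subgroup.card_eq_card_quotient_mul_card_subgroup, h.card_DP]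

theorem im_singular {v : ℕ} (hv : v ∈ C.im (C.BB g)) : qv C.kind v = false := by
  obtain ⟨x, hx, rfl⟩ := hv
  exact (C.sq_one (BB_le_Q hx)).1 (h.sq_one hx)

theorem im_orth {v w : ℕ} (hv : v ∈ C.im (C.BB g)) (hw : w ∈ C.im (C.BB g)) :
    bq C.kind v w = false := by
  obtain ⟨x, hx, rfl⟩ := hv
  obtain ⟨y, hy, rfl⟩ := hw
  exact (C.comm_iff (BB_le_Q hx) (BB_le_Q hy)).1 (h.comm hx hy)

theorem im_moved {v : ℕ} (hv : v ∈ C.im (C.BB g)) {x : G} (hx : x ∈ C.DP g) :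
    ap (C.act ⟨x, DP_le hx⟩) v = v ∨ ap (C.act ⟨x, DP_le hx⟩) v = v ^^^ C.π (g * z * g⁻¹) := by
  obtain ⟨y, hy, rfl⟩ := hv
  rw [← C.pi_conj' (DP_le hx) (BB_le_Q hy)]
  rcases h.DP_comm hx (h.BB_le_DP hy) with e | e
  · left
    rw [show x * y * x⁻¹ = x * y * x⁻¹ * y⁻¹ * y by group, e, one_mul]
  · right
    rw [show x * y * x⁻¹ = x * y * x⁻¹ * y⁻¹ * y by group, e, C.π_mul _ h.mem _ (BB_le_Q hy),
      Nat.xor_comm]

theorem com_mem {d x : G} (hd : d ∈ C.DD g) (hx : x ∈ C.DP g) : x * d * x⁻¹ * d⁻¹ ∈ C.BB g := by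
  obtain ⟨hdQ, hdu⟩ := C.mem_DD.1 hd
  obtain ⟨hxg, hxz⟩ := C.mem_DP.1 hx
  have hdm : g⁻¹ * d * g ∈ Mz z := Coord.mem_cent.2 (by
    calc g⁻¹ * d * g * z = g⁻¹ * (d * (g * z * g⁻¹)) * g := by group
      _ = g⁻¹ * (g * z * g⁻¹ * d) * g := by rw [hdu]
      _ = z * (g⁻¹ * d * g) := by group)
  have h2 : g⁻¹ * (x * d * x⁻¹ * d⁻¹) * g =
      g⁻¹ * x * g * ((g⁻¹ * d * g) * (g⁻¹ * x * g)⁻¹ * (g⁻¹ * d * g)⁻¹) := by group
  refine C.mem_BB.2 ⟨mul_mem (C.conj_mem (Coord.mem_cent.2 hxz) hdQ) (inv_mem hdQ), ?_, ?_⟩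
  · rw [h2]; exact mul_mem hxg (C.conj_mem hdm (inv_mem hxg))
  · exact C.cent_z (mul_mem (C.conj_mem (Coord.mem_cent.2 hxz) hdQ) (inv_mem hdQ))

/-- An element of `M` fixing `a` normalises both groups. -/
theorem fix_conj {m : G} (hm : m ∈ Mz z) (hfix : m * (g * z * g⁻¹) * m⁻¹ = g * z * g⁻¹) :
    (∀ x ∈ C.DP g, m * x * m⁻¹ ∈ C.DP g) ∧ (∀ x ∈ C.BB g, m * x * m⁻¹ ∈ C.BB g) := by
  have hgm : g⁻¹ * m * g ∈ Mz z := Coord.mem_cent.2 (by
    calc g⁻¹ * m * g * z = g⁻¹ * (m * (g * z * g⁻¹) * m⁻¹) * (m * g) := by group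
      _ = g⁻¹ * (g * z * g⁻¹) * (m * g) := by rw [hfix]
      _ = z * (g⁻¹ * m * g) := by group)
  have key : ∀ x ∈ C.DP g, m * x * m⁻¹ ∈ C.DP g := by
    intro x hx
    obtain ⟨hxg, hxz⟩ := C.mem_DP.1 hx
    refine C.mem_DP.2 ⟨?_, Coord.mem_cent.1 (mul_mem (mul_mem hm (DP_le hx)) (inv_mem hm))⟩
    rw [show g⁻¹ * (m * x * m⁻¹) * g = g⁻¹ * m * g * (g⁻¹ * x * g) * (g⁻¹ * m * g)⁻¹ by group]
    exact C.conj_mem hgm hxg
  exact ⟨key, fun x hx => ⟨C.conj_mem hm (BB_le_Q hx), key x (h.BB_le_DP hx)⟩⟩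

end QPair

/-- The data available at a representative. -/
structure RPair (C : Coord z) (g : G) (r : Rep) : Prop extends C.QPair g where
  mem_reps : r ∈ reps C.kind
  pi_a : C.π (g * z * g⁻¹) = r.v

namespace RPair

variable {r : Rep} (h : C.RPair g r)

include h

theorem ok : r.ok C.kind = true := reps_ok_k _ (kind_mem C.kind) r h.mem_reps

/-- The images of `C_{Q_a}(z)`. -/
theorem com0_mem {x : G} (hx : x ∈ C.DP g) {v : ℕ} (hv : v ∈ r.com0 (C.act ⟨x, DP_le hx⟩)) :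
    v ∈ C.im (C.BB g) := by
  have hok := h.ok
  simp only [Rep.ok, Bool.and_eq_true, List.all_eq_true, decide_eq_true_eq, Bool.not_eq_true'] at hok
  simp only [Rep.com0, List.mem_cons, List.mem_map] at hv
  rcases hv with rfl | ⟨c, hc, rfl⟩
  · exact ⟨_, h.toQPair.a_mem_BB, h.pi_a⟩
  · obtain ⟨hc256, hcb⟩ := hok.1.1.1.1.2 c hc
    obtain ⟨d, hd, rfl⟩ := C.π_surj c hc256
    have hdD : d ∈ C.DD g :=
      C.mem_DD.2 ⟨hd, (C.comm_iff hd h.mem).2 (by rw [h.pi_a]; exact hcb)⟩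
    refine ⟨_, h.toQPair.com_mem hdD hx, ?_⟩
    rw [← C.pi_conj' (DP_le hx) hd, C.π_mul _ (C.conj_mem (DP_le hx) hd) _ (inv_mem hd), C.pi_inv hd]

/-- Lifts of the squares of the chosen elements, fixing `a`. -/
theorem lift {hh : PP} (hhs : hh ∈ r.hs) : ∃ m, ∃ hm : m ∈ Mz z, C.ψ ⟨m, hm⟩ = hh * hh ∧
    m * (g * z * g⁻¹) * m⁻¹ = g * z * g⁻¹ ∧
    ∀ x ∈ C.Q, C.π (m * x * m⁻¹) = stp C.kind hh (C.π x) := by
  have hok := h.ok
  simp only [Rep.ok, Bool.and_eq_true, List.all_eq_true, decide_eq_true_eq, beq_iff_eq] at hok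
  obtain ⟨⟨hst, hs1⟩, hs2⟩ := hok.1.1.1.1.1 hh hhs
  obtain ⟨m, hψ, hm⟩ := C.lift_sq hs1 hs2 (stp_eps_k _ (kind_mem C.kind) hh
    (List.mem_append_right _ (List.mem_flatMap.2 ⟨r, h.mem_reps, hhs⟩)))
  obtain ⟨m', hm', hψ', hfix, hact⟩ := C.exists_fix h.mem h.toQPair.ne_one h.ne m.2
    (by rw [hm _ h.mem, h.pi_a, hst])
  exact ⟨m', hm', hψ'.trans hψ, hfix, fun x hx => (hact x hx).trans (hm x hx)⟩

/-- The images pass the test. -/
theorem image_fit {x : G} (hx : x ∈ C.DP g) :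
    r.fit C.kind (C.ψ ⟨x, DP_le hx⟩) (C.eps ⟨x, DP_le hx⟩) = true := by
  set L := C.act ⟨x, DP_le hx⟩ with hL
  have hcom : ∀ v ∈ r.com0 L ++ r.hs.flatMap (fun hh => (r.com0 L).map (stp C.kind hh)),
      v ∈ C.im (C.BB g) := by
    intro v hv
    rcases List.mem_append.1 hv with hv | hv
    · exact h.com0_mem hx hv
    · obtain ⟨hh, hhs, hv⟩ := List.mem_flatMap.1 hv
      obtain ⟨c, hc, rfl⟩ := List.mem_map.1 hv
      obtain ⟨m, hm, -, hfix, hact⟩ := h.lift hhs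
      obtain ⟨y, hy, rfl⟩ := h.com0_mem hx hc
      exact ⟨_, (h.toQPair.fix_conj hm hfix).2 y hy, hact y (BB_le_Q hy)⟩
  have hE : img C.kind (C.ψ ⟨x, DP_le hx⟩).1 (C.ψ ⟨x, DP_le hx⟩).2 (C.eps ⟨x, DP_le hx⟩) = L := rfl
  simp only [Rep.fit, hE, Bool.and_eq_true, List.all_eq_true, decide_eq_true_eq, Bool.not_eq_true',
    Bool.or_eq_true, beq_iff_eq]
  refine ⟨⟨⟨⟨?_, fun c hc => h.toQPair.im_singular (hcom c hc)⟩,
    fun c hc d hd => h.toQPair.im_orth (hcom c hc) (hcom d hd)⟩,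
    fun c hc => by rw [← h.pi_a]; exact h.toQPair.im_moved (hcom c hc) hx⟩, fun hh hhs => ?_⟩
  · rw [← h.pi_a, hL, ← C.pi_conj' (DP_le hx) h.mem, comm_u hx, mul_inv_cancel_right]
  · obtain ⟨m, hm, hψ, hfix, -⟩ := h.lift hhs
    have hy := (h.toQPair.fix_conj hm hfix).1 x hx
    have hc : C.ψ (⟨_, DP_le hy⟩ * ⟨x, DP_le hx⟩ * ⟨_, DP_le hy⟩⁻¹ * ⟨x, DP_le hx⟩⁻¹) = 1 := by
      refine (C.ker_iff _).2 ?_
      rcases h.toQPair.DP_comm hy hx with e | e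
      · simp only [Subgroup.coe_mul, Subgroup.coe_inv]; rw [e]; exact one_mem _
      · simp only [Subgroup.coe_mul, Subgroup.coe_inv]; rw [e]; exact h.mem
    have hy' : C.ψ ⟨_, DP_le hy⟩ = hh * hh * C.ψ ⟨x, DP_le hx⟩ * (hh * hh)⁻¹ := by
      rw [show (⟨m * x * m⁻¹, DP_le hy⟩ : ↥(Mz z)) = ⟨m, hm⟩ * ⟨x, DP_le hx⟩ * ⟨m, hm⟩⁻¹ from rfl,
        map_mul, map_mul, map_inv, hψ]
    rw [map_mul, map_mul, map_mul, map_inv, map_inv, mul_inv_eq_one, mul_inv_eq_iff_eq_mul, hy'] at hc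
    exact hc

theorem image_invol {x : G} (hx : x ∈ C.DP g) :
    C.ψ ⟨x, DP_le hx⟩ * C.ψ ⟨x, DP_le hx⟩ = 1 := by
  rw [← map_mul, C.ker_iff]
  rcases DP_sq hx with e | e
  · show x * x ∈ C.Q
    rw [e]; exact one_mem _
  · show x * x ∈ C.Q
    rw [e]; exact h.mem

/-- The images lie among the candidates. -/
theorem image_mem
    (hfit : ∀ a : Equiv.Perm (Fin 3), a * a = 1 → ∀ b : Equiv.Perm (Fin 6), b * b = 1 → ∀ e : Bool,
      ¬ (a = 1 ∧ b = 1) → r.fit C.kind (a, b) e = true → (a, b) ∈ r.F) {x : G} (hx : x ∈ C.DP g) :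
    C.ψ ⟨x, DP_le hx⟩ = 1 ∨ C.ψ ⟨x, DP_le hx⟩ ∈ r.F := by
  by_cases h1 : C.ψ ⟨x, DP_le hx⟩ = 1
  · exact Or.inl h1
  right
  have hsq := Prod.ext_iff.1 (h.image_invol hx)
  exact hfit _ hsq.1 _ hsq.2 _ (fun e => h1 (Prod.ext e.1 e.2)) (h.image_fit hx)

theorem range_ge : 8 ≤ (Set.range fun x : ↥(C.DP g) => C.ψ ⟨x, DP_le x.2⟩).ncard := by
  have h1 := h.toQPair.card_eq
  have h2 := h.toQPair.card_BB_le
  nlinarith

theorem range_le
    (hfit : ∀ a : Equiv.Perm (Fin 3), a * a = 1 → ∀ b : Equiv.Perm (Fin 6), b * b = 1 → ∀ e : Bool,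
      ¬ (a = 1 ∧ b = 1) → r.fit C.kind (a, b) e = true → (a, b) ∈ r.F) :
    (Set.range fun x : ↥(C.DP g) => C.ψ ⟨x, DP_le x.2⟩).ncard ≤ r.F.length + 1 := by
  have hsub : (Set.range fun x : ↥(C.DP g) => C.ψ ⟨x, DP_le x.2⟩) ⊆ ↑((1 :: r.F).toFinset) := by
    rintro _ ⟨⟨x, hx⟩, rfl⟩
    simp only [List.coe_toFinset, List.mem_cons, Set.mem_setOf_eq]
    exact h.image_mem hfit hx
  calc (Set.range fun x : ↥(C.DP g) => C.ψ ⟨x, DP_le x.2⟩).ncard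
      ≤ (((1 :: r.F).toFinset : Finset PP) : Set PP).ncard := Set.ncard_le_ncard hsub (Finset.finite_toSet _)
    _ ≤ r.F.length + 1 := by
      rw [Set.ncard_coe_finset]; exact (List.toFinset_card_le _).trans (by simp)

end RPair

end Coord

end Cfsg.Agent.ExtraTwoNine
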