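import Mathlib
import Cfsg.Agent.Lib.ExtraTwoNine.PairData

/-!
Further finite facts used for a conjugate of `z` in `Q`.
-/

set_option autoImplicit false
set_option maxRecDepth 10000

namespace Cfsg.Agent.ExtraTwoNine

open Equiv (Perm)

/-- Pure tensors. -/
def pureV (v : ℕ) : Bool := v &&& 15 == 0 || v >>> 4 == 0 || v &&& 15 == v >>> 4

/-- The space generated for a mixed vector. -/
def wMix : List ℕ := [0, 1, 4, 5, 16, 17, 20, 21, 64, 65, 68, 69, 80, 81, 84, 85]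

/-- The space generated for a pure vector. -/
def wStd : List ℕ := [0, 1, 4, 5, 8, 9, 12, 13, 16, 17, 20, 21, 24, 25, 28, 29]

/-- The four-group in the image for a pure vector. -/
def v4 : List PP :=
  [(1, Equiv.swap 2 3 * Equiv.swap 4 5), (1, Equiv.swap 2 4 * Equiv.swap 3 5),
    (1, Equiv.swap 2 5 * Equiv.swap 3 4)]

/-- The vectors `[C_Q(a), p]` and `a` in the tensor model. -/
def comT (r : Rep) (p : PP) : List ℕ := r.com0 (img Kind.tensor p.1 p.2 false)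

/-- Which coset of the four-group. -/
def clsF (p : PP) : Bool × Bool := (decide (p.1 = 1), decide (p.2 0 = 0))

theorem rT20_len : rT20.F.length = 7 := by decide +kernel

theorem rT20_gen : ∀ v ∈ wMix, v ∈ rT20.F.flatMap (comT rT20) ∨
    ∃ a ∈ rT20.F.flatMap (comT rT20), ∃ b ∈ rT20.F.flatMap (comT rT20), a ^^^ b = v := by decide +kernel

theorem rT20_fix : ∀ p ∈ rT20.F, ∀ v ∈ wMix, ap (img Kind.tensor p.1 p.2 false) v = v := by
  decide +kernel

theorem wMix_nodup : wMix.Nodup ∧ wMix.length = 16 := by decide +kernel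

theorem wStd_nodup : wStd.Nodup ∧ wStd.length = 16 := by decide +kernel

theorem wStd_gen : ∀ v ∈ wStd, ∃ a ∈ 0 :: v4.flatMap (comT rT1), ∃ b ∈ 0 :: v4.flatMap (comT rT1),
    ∃ c ∈ 0 :: v4.flatMap (comT rT1), a ^^^ b ^^^ c = v := by decide +kernel

theorem rT1_cls : ∀ p ∈ ((1, 1) : PP) :: rT1.F, ∀ q ∈ ((1, 1) : PP) :: rT1.F,
    p = q ∨ clsF p ≠ clsF q ∨ p * q ∈ v4 := by decide +kernel

theorem v4_conj : ∀ p ∈ v4, ∀ q ∈ v4, p = q ∨
    ∃ h ∈ rT1.hs, h * h * p * (h * h)⁻¹ = q ∨ ∃ h' ∈ rT1.hs,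
      h' * h' * (h * h * p * (h * h)⁻¹) * (h' * h')⁻¹ = q := by decide +kernel

theorem v4_mul : ∀ p ∈ v4, ∀ q ∈ v4, p = q ∨ p * q ∈ v4 := by decide +kernel

theorem v4_sq : ∀ p ∈ v4, p * p = 1 ∧ p ≠ 1 ∧ p.1 = 1 ∧ p.2 * p.2 = 1 := by decide +kernel

theorem v4_dt : ∀ p ∈ v4, ∃ g ∈ [(1 : Perm (Fin 6)), Equiv.swap 3 4 * Equiv.swap 4 5,
    Equiv.swap 3 5 * Equiv.swap 4 5], g * p.2 * g⁻¹ = Equiv.swap 2 3 * Equiv.swap 4 5 ∧
      Equiv.Perm.sign g = 1 := by decide +kernel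

theorem v4_stab : ∀ a : Perm (Fin 3), ∀ b : Perm (Fin 6),
    (ap (img Kind.tensor a b false) 1 != 1 ||
      v4.all fun p => v4.contains ((a, b) * p * (a, b)⁻¹)) = true := by decide +kernel

/-- Coordinates of `wStd` in the basis of `rT1`. -/
def wStdS : List ℕ := wStd

theorem wStd_coord : wStd.map (fun s => ap rT1.bs s) = wStd ∧ ap rT1.bs 36 = 68 ∧ ap rT1.bs 32 = 64 := by
  decide +kernel

/-- Pairs `(s, t)` of coordinates exchanged by the stabiliser. -/
def invPairs : List (ℕ × ℕ) :=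
  [(1, 1), (2, 2), (4, 9), (8, 13), (16, 16), (32, 80), (64, 112), (1, 1), (2, 14), (4, 12), (8, 4),
    (16, 16), (32, 96), (64, 32), (1, 1), (2, 7), (4, 4), (8, 12), (16, 16), (32, 32), (64, 96)]

theorem invPairs_ok : ∀ st ∈ invPairs, st.1 < 128 ∧ st.2 < 128 ∧
    ∃ h ∈ rT1.hs, stp Kind.tensor h (ap rT1.bs st.1) = ap rT1.bs st.2 := by decide +kernel

theorem forced : ∀ m ∈ List.range 128, (∀ w ∈ wStd, par (w &&& m) = false) →
    (∀ st ∈ invPairs, par (st.1 &&& m) = par (st.2 &&& m)) →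
    par (36 &&& m) = false ∧ par (32 &&& m) = false := by decide +kernel

theorem rT1_bs : rT1.bs.length = 7 ∧ ∀ s ∈ List.range 128, ap rT1.bs s < 256 ∧
    (s = 0 ∨ ap rT1.bs s ≠ 0) ∧ bq Kind.tensor (ap rT1.bs s) 1 = false := by decide +kernel

/-- The exchanging element. -/
def swapK : PP :=
  (Equiv.swap 0 1 * Equiv.swap 1 2,
    Equiv.swap 0 1 * Equiv.swap 1 2 * Equiv.swap 2 3 * Equiv.swap 4 5)

theorem swapK_ok : stp Kind.tensor swapK 1 = 68 ∧ stp Kind.tensor swapK⁻¹ 1 = 64 ∧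
    Equiv.Perm.sign swapK.1 = 1 ∧ Equiv.Perm.sign swapK.2 = 1 ∧ 68 ∉ wStd ∧ 64 ∉ wStd ∧
    pureV 68 = true ∧ pureV 64 = true := by decide +kernel

theorem pure_reps : ∀ h1 ∈ selA Kind.tensor, ∀ h2 ∈ selB Kind.tensor, ∀ v ∈ List.range 256,
    stp Kind.tensor h2 (stp Kind.tensor h1 v) = 1 → pureV v = true := by decide +kernel

/-- The three-cycle acting trivially on the six-dimensional summand. -/
def xSum : PP := (Equiv.swap 0 1 * Equiv.swap 1 2, 1)

theorem xSum_mem : xSum ∈ rF15.hs ∧ xSum ∈ rP15.hs := by decide +kernel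

theorem sum_low : ∀ k ∈ [Kind.sum false, Kind.sum true], ∀ v ∈ List.range 256,
    qv k (stp k xSum v ^^^ v) = false → v < 64 := by decide +kernel

/-- Candidates for the totally singular subspace in the sum models. -/
def lowSing (k : Kind) : List ℕ :=
  (List.range 64).filter fun v => v != 0 && v != 15 && !qv k v && !bq k v 15

theorem sum_no : ∀ k ∈ [Kind.sum false, Kind.sum true], ∀ a ∈ lowSing k, ∀ b ∈ lowSing k,
    bq k a b = false → b ∉ [a, a ^^^ 15] → ∀ c ∈ lowSing k, bq k a c = false → bq k b c = false →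
      c ∈ [a, a ^^^ 15, b, b ^^^ 15, a ^^^ b, a ^^^ b ^^^ 15] := by decide +kernel

/-- The representative double transposition. -/
def dtB : Perm (Fin 6) := Equiv.swap 2 3 * Equiv.swap 4 5

/-- The action of the representative double transposition. -/
def dtL : List ℕ := img Kind.tensor 1 dtB false

theorem dt_fix : ∀ v ∈ List.range 256, ap dtL v = v →
    qv Kind.tensor v = false ∧ ∃ y ∈ List.range 256, ap dtL y ^^^ y = v := by decide +kernel

/-- The vectors used in the double transposition argument. -/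
theorem dt_vecs : ∀ c ∈ [Equiv.swap 0 1 * Equiv.swap 1 2, Equiv.swap 1 2 * Equiv.swap (0 : Fin 3) 1],
    ∀ X ∈ [img Kind.tensor c 1 false],
      (ap dtL 2 ^^^ 2 = 4) ∧ (ap dtL 160 ^^^ 160 = 80) ∧
      bq Kind.tensor 2 (ap X 4) = true ∧ bq Kind.tensor 160 (ap X 80) = true ∧
      4 ^^^ ap X 4 = ap X (ap X 4) ∧ 80 ^^^ ap X 80 = ap X (ap X 80) ∧
      bq Kind.tensor 2 80 = false ∧ pureV 84 = false ∧ 4 ^^^ 80 = 84 := by decide +kernel

/-- A three-cycle in the first coordinate is fixed-point-free on the fixed space. -/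
theorem dt_fpf : ∀ c ∈ [Equiv.swap 0 1 * Equiv.swap 1 2, Equiv.swap 1 2 * Equiv.swap (0 : Fin 3) 1],
    ∀ v ∈ List.range 256, ap dtL v = v →
      ∃ y ∈ List.range 256, ap dtL y = y ∧ ap (img Kind.tensor c 1 false) y ^^^ y = v := by
  decide +kernel

theorem dt_perm6 : ∀ b : Perm (Fin 6), b * b * b = 1 → b * dtB = dtB * b → b = 1 := by decide +kernel

theorem dt_perm3 : ∀ a : Perm (Fin 3), a * a * a = 1 →
    a = 1 ∨ a = Equiv.swap 0 1 * Equiv.swap 1 2 ∨ a = Equiv.swap 1 2 * Equiv.swap (0 : Fin 3) 1 := by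
  decide +kernel

theorem dt_comm3 : ∀ c ∈ [Equiv.swap 0 1 * Equiv.swap 1 2, Equiv.swap 1 2 * Equiv.swap (0 : Fin 3) 1],
    ∀ a ∈ [(1 : Perm (Fin 3)), Equiv.swap 0 1, Equiv.swap 0 2, Equiv.swap 1 2],
      (c * a * c⁻¹) * a = a * (c * a * c⁻¹) → a = 1 := by decide +kernel

theorem invol3 : ∀ a : Perm (Fin 3), a * a = 1 →
    a ∈ [(1 : Perm (Fin 3)), Equiv.swap 0 1, Equiv.swap 0 2, Equiv.swap 1 2] := by decide +kernel

end Cfsg.Agent.ExtraTwoNine
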