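import Mathlib
import Cfsg.Agent.Lib.ExtraTwoNine.PairBase
import Cfsg.Agent.Lib.ExtraTwoNine.PairFacts

/-!
A conjugate `a ≠ z` of `z` in `Q`: the model is the tensor one and `a` is a pure tensor.
-/

set_option autoImplicit false
set_option linter.unusedSectionVars false

namespace Cfsg.Agent.ExtraTwoNine

open Subgroup

/-- Among sixteen elements some element avoids eight given ones. -/
theorem exists_avoid {S : Set ℕ} {n : ℕ} (hS : S.ncard = n) (L : List ℕ) (hL : L.length < n) :
    ∃ v ∈ S, v ∉ L := by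
  by_contra hc
  push Not at hc
  have h : S.ncard ≤ (L.toFinset : Set ℕ).ncard :=
    Set.ncard_le_ncard (fun v hv => List.mem_toFinset.2 (hc v hv)) (Finset.finite_toSet _)
  rw [hS, Set.ncard_coe_finset] at h
  have := List.toFinset_card_le L
  omega

/-- In the tensor model the scalar is irrelevant. -/
theorem img_tensor (a : Equiv.Perm (Fin 3)) (b : Equiv.Perm (Fin 6)) (e : Bool) :
    img Kind.tensor a b e = img Kind.tensor a b false := rfl

namespace Coord

variable {G : Type*} [Group G] [Finite G] {z : G} {C : Coord z} {g : G}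

theorem act_tensor (hk : C.kind = Kind.tensor) {m : ↥(Mz z)} {p : PP} (hp : C.ψ m = p) :
    C.act m = img Kind.tensor p.1 p.2 false := by
  rw [Coord.act, hk, hp, img_tensor]

namespace RPair

variable {r : Rep} (h : C.RPair g r)

include h

/-- A full range: the images are exactly the candidates. -/
theorem range_full
    (hfit : ∀ a : Equiv.Perm (Fin 3), a * a = 1 → ∀ b : Equiv.Perm (Fin 6), b * b = 1 → ∀ e : Bool,
      ¬ (a = 1 ∧ b = 1) → r.fit C.kind (a, b) e = true → (a, b) ∈ r.F) (hlen : r.F.length = 7) :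
    (∀ p ∈ r.F, ∃ x, ∃ hx : x ∈ C.DP g, C.ψ ⟨x, DP_le hx⟩ = p) ∧
      (C.im (C.BB g)).ncard = 16 := by
  set R := Set.range fun x : ↥(C.DP g) => C.ψ ⟨x, DP_le x.2⟩ with hR
  have hge : 8 ≤ R.ncard := h.range_ge
  have hle : R.ncard ≤ r.F.length + 1 := h.range_le hfit
  have hRc : R.ncard = 8 := by omega
  have hcard := h.toQPair.card_eq
  rw [← hR, hRc, h.toQPair.card_im] at hcard
  refine ⟨fun p hp => ?_, by omega⟩
  have hsub : R ⊆ (↑((1 :: r.F).toFinset) : Set PP) := by
    rintro _ ⟨⟨x, hx⟩, rfl⟩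
    simp only [List.coe_toFinset, List.mem_cons, Set.mem_setOf_eq]
    exact h.image_mem hfit hx
  have heq : R = (↑((1 :: r.F).toFinset) : Set PP) := by
    refine Set.eq_of_subset_of_ncard_le hsub ?_ (Finset.finite_toSet _)
    rw [Set.ncard_coe_finset, hRc]
    exact (List.toFinset_card_le _).trans (by simp [hlen])
  have hp' : p ∈ R := by
    rw [heq]
    simp [hp]
  obtain ⟨⟨x, hx⟩, e⟩ := hp'
  exact ⟨x, hx, e⟩

end RPair

theorem RPair.no_T20 (h : C.RPair g rT20) (hk : C.kind = Kind.tensor) : False := by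
  obtain ⟨hall, h16⟩ := h.range_full (by rw [hk]; exact fit_rT20) rT20_len
  have hcom : ∀ v ∈ rT20.F.flatMap (comT rT20), v ∈ C.im (C.BB g) := by
    intro v hv
    obtain ⟨p, hp, hv⟩ := List.mem_flatMap.1 hv
    obtain ⟨x, hx, e⟩ := hall p hp
    exact h.com0_mem hx (by rw [act_tensor hk e]; exact hv)
  have hsub : (↑wMix.toFinset : Set ℕ) ⊆ C.im (C.BB g) := by
    intro v hv
    rcases rT20_gen v (List.mem_toFinset.1 hv) with e | ⟨a, ha, b, hb, e⟩
    · exact hcom v e
    · exact e ▸ C.im_xor BB_le_Q (hcom a ha) (hcom b hb)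
  have heq : (↑wMix.toFinset : Set ℕ) = C.im (C.BB g) := by
    refine Set.eq_of_subset_of_ncard_le hsub ?_ (C.im_finite _)
    rw [h16, Set.ncard_coe_finset, List.toFinset_card_of_nodup wMix_nodup.1, wMix_nodup.2]
  have hq := h.toQPair
  have hcomm : ∀ y ∈ C.BB g, ∀ x ∈ C.DP g, x * y = y * x := by
    intro y hy x hx
    have hfix : ap (C.act ⟨x, DP_le hx⟩) (C.π y) = C.π y := by
      rcases h.image_mem (by rw [hk]; exact fit_rT20) hx with e | e
      · rw [← C.pi_conj' (DP_le hx) (BB_le_Q hy),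
          C.pi_conj_Q ((C.ker_iff _).1 e) (BB_le_Q hy)]
      · rw [act_tensor hk rfl]
        refine rT20_fix _ e _ ?_
        have hv : C.π y ∈ (↑wMix.toFinset : Set ℕ) := by rw [heq]; exact ⟨y, hy, rfl⟩
        exact List.mem_toFinset.1 hv
    have hz : x * y * x⁻¹ * y⁻¹ = 1 ∨ x * y * x⁻¹ * y⁻¹ = z := by
      rw [← C.pi_conj' (DP_le hx) (BB_le_Q hy)] at hfix
      rcases C.pi_eq (BB_le_Q hy) (C.conj_mem (DP_le hx) (BB_le_Q hy)) hfix.symm with e | e
      · left; rw [e, mul_inv_cancel]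
      · right; rw [e, C.cent_z (BB_le_Q hy), mul_inv_cancel_right]
    have h1 := hq.triv hz (hq.DP_comm hx (hq.BB_le_DP hy))
    calc x * y = x * y * x⁻¹ * y⁻¹ * (y * x) := by group
      _ = y * x := by rw [h1, one_mul]
  have h4 : Nat.card ↥(C.BB g) ≤ 4 := by
    classical
    set w := g⁻¹ * z * g with hw
    have hsub4 : ((C.BB g : Subgroup G) : Set G) ⊆
        ↑(({1, z, w, z * w} : Finset G).image fun x => g * x * g⁻¹) := by
      intro y hy
      obtain ⟨hyQ, hyg, hyz⟩ := C.mem_BB.1 hy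
      have hw1 : w ≠ 1 := by simpa [hw] using hq.inv.ne_one
      have hwz : w ≠ z := by simpa [hw] using hq.inv.ne
      have key := C.ctr.double_centralizer hq.z_mem' hw1 hwz hyg fun v hv hvw => by
        have hx : g * v * g⁻¹ ∈ C.DP g := by
          refine C.mem_DP.2 ⟨by simpa [mul_assoc] using hv, ?_⟩
          calc g * v * g⁻¹ * z = g * (v * w) * g⁻¹ := by rw [hw]; group
            _ = g * (w * v) * g⁻¹ := by rw [hvw]
            _ = z * (g * v * g⁻¹) := by rw [hw]; group
        calc v * (g⁻¹ * y * g) = g⁻¹ * (g * v * g⁻¹ * y) * g := by group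
          _ = g⁻¹ * (y * (g * v * g⁻¹)) * g := by rw [hcomm y hy _ hx]
          _ = g⁻¹ * y * g * v := by group
      simp only [Finset.coe_image, Set.mem_image, Finset.mem_coe, Finset.mem_insert,
        Finset.mem_singleton]
      exact ⟨g⁻¹ * y * g, key, by group⟩
    calc Nat.card ↥(C.BB g) = ((C.BB g : Subgroup G) : Set G).ncard := Nat.card_coe_set_eq _
      _ ≤ (({1, z, w, z * w} : Finset G).image fun x => g * x * g⁻¹).card := by
        rw [← Set.ncard_coe_finset]; exact Set.ncard_le_ncard hsub4 (Finset.finite_toSet _)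
      _ ≤ 4 := Finset.card_image_le.trans Finset.card_le_four
  have := hq.card_im
  omega

theorem RPair.no_sum15 {r : Rep} (h : C.RPair g r) {s : Bool} (hk : C.kind = Kind.sum s)
    (hfit : ∀ a : Equiv.Perm (Fin 3), a * a = 1 → ∀ b : Equiv.Perm (Fin 6), b * b = 1 → ∀ e : Bool,
      ¬ (a = 1 ∧ b = 1) → r.fit C.kind (a, b) e = true → (a, b) ∈ r.F)
    (hlen : r.F.length = 7) (hv : r.v = 15) (hx : xSum ∈ r.hs) : False := by
  obtain ⟨-, h16⟩ := h.range_full hfit hlen
  obtain ⟨m, hm, -, hfix, hact⟩ := h.lift hx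
  set S := C.im (C.BB g) with hS
  have h15 : (15 : ℕ) ∈ S := ⟨_, h.toQPair.a_mem_BB, h.pi_a.trans hv⟩
  have hlow : ∀ v ∈ S, v ∉ ([0, 15] : List ℕ) → v ∈ lowSing C.kind := by
    intro v hvS hv2
    obtain ⟨y, hy, rfl⟩ := hvS
    have hy' := (h.toQPair.fix_conj hm hfix).2 y hy
    have hmoved : stp C.kind xSum (C.π y) ^^^ C.π y ∈ S :=
      C.im_xor BB_le_Q ⟨_, hy', hact y (BB_le_Q hy)⟩ ⟨y, hy, rfl⟩
    have h64 : C.π y < 64 := by
      refine sum_low C.kind ?_ _ (List.mem_range.2 (C.π_lt y (BB_le_Q hy))) (h.toQPair.im_singular hmoved)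
      rw [hk]; exact sum_mem s
    simp only [List.mem_cons, List.not_mem_nil, or_false, not_or] at hv2
    simp [lowSing, h64, hv2.1, hv2.2, h.toQPair.im_singular ⟨y, hy, rfl⟩,
      h.toQPair.im_orth ⟨y, hy, rfl⟩ h15]
  obtain ⟨a, ha, ha2⟩ := exists_avoid h16 [0, 15] (by simp)
  obtain ⟨b, hb, hb2⟩ := exists_avoid h16 [0, 15, a, a ^^^ 15] (by simp)
  obtain ⟨c, hc, hc2⟩ := exists_avoid h16 [0, 15, a, a ^^^ 15, b, b ^^^ 15, a ^^^ b, a ^^^ b ^^^ 15]
    (by simp)
  simp only [List.mem_cons, List.not_mem_nil, or_false, not_or] at hb2 hc2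
  have key := sum_no C.kind (by rw [hk]; exact sum_mem s) a (hlow a ha ha2)
    b (hlow b hb (by simp [hb2])) (h.toQPair.im_orth ha hb) (by simp [hb2])
    c (hlow c hc (by simp [hc2])) (h.toQPair.im_orth ha hc) (h.toQPair.im_orth hb hc)
  simp only [List.mem_cons, List.not_mem_nil, or_false] at key
  obtain ⟨-, -, h3, h4, h5, h6, h7, h8⟩ := hc2
  rcases key with e | e | e | e | e | e <;> contradiction

theorem RPair.is_rT1 {r : Rep} (h : C.RPair g r) : C.kind = Kind.tensor ∧ r = rT1 := by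
  have hr := h.mem_reps
  have small : (∀ a : Equiv.Perm (Fin 3), a * a = 1 → ∀ b : Equiv.Perm (Fin 6), b * b = 1 → ∀ e : Bool,
      ¬ (a = 1 ∧ b = 1) → r.fit C.kind (a, b) e = true → (a, b) ∈ r.F) → r.F.length < 7 → False := by
    intro hfit hlen
    have h1 := h.range_ge
    have h2 := h.range_le hfit
    omega
  rcases hk : C.kind with _ | s
  · rw [hk] at hr small
    simp only [reps, List.mem_cons, List.not_mem_nil, or_false] at hr
    rcases hr with rfl | rfl
    · exact ⟨rfl, rfl⟩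
    · exact (h.no_T20 hk).elim
  · rw [hk] at hr small
    exfalso
    cases s <;> simp only [reps, List.mem_cons, List.not_mem_nil, or_false] at hr <;>
      rcases hr with rfl | rfl | rfl | rfl | rfl | rfl
    · exact small fit_rF1 (by decide)
    · exact h.no_sum15 hk (by rw [hk]; exact fit_rF15) rfl rfl xSum_mem.1
    · exact small fit_rF31 (by decide)
    · exact small fit_rF67 (by decide)
    · exact small fit_rF71 (by decide)
    · exact small fit_rF127 (by decide)
    · exact small fit_rP7 (by decide)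
    · exact h.no_sum15 hk (by rw [hk]; exact fit_rP15) rfl rfl xSum_mem.2
    · exact small fit_rP65 (by decide)
    · exact small fit_rP67 (by decide)
    · exact small fit_rP95 (by decide)
    · exact small fit_rP127 (by decide)

theorem QPair.exists_rep (h : C.QPair g) : C.kind = Kind.tensor ∧
    pureV (C.π (g * z * g⁻¹)) = true ∧ ∃ m, ∃ _ : m ∈ Mz z, C.RPair (m * g) rT1 := by
  obtain ⟨m, hm, r, hr, e, hsel⟩ := h.normalise
  have hR : C.RPair (m * g) r := ⟨h.conj hm, hr, e⟩
  obtain ⟨hk, rfl⟩ := hR.is_rT1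
  obtain ⟨h1, hh1, h2, hh2, e'⟩ := hsel hk
  exact ⟨hk, pure_reps h1 hh1 h2 hh2 _ (List.mem_range.2 h.pi_facts.1) e', m, hm, hR⟩

end Coord

end Cfsg.Agent.ExtraTwoNine
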