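import Mathlib
import Cfsg.Agent.Lib.ExtraTwoNine.PairKill

/-!
A conjugate `a ≠ z` of `z` in `Q` gives a conjugate `u` of `z` outside `Q` such that both `u` and
its partner induce the double transpositions of a four-group.
-/

set_option autoImplicit false
set_option linter.unusedSectionVars false

namespace Cfsg.Agent.ExtraTwoNine

open Subgroup

namespace Coord

variable {G : Type*} [Group G] [Finite G] {z : G} {C : Coord z} {g : G}

/-- In the tensor model a square acts as computed. -/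
theorem pi_sq_tensor (hk : C.kind = Kind.tensor) {m0 : G} (hm0 : m0 ∈ Mz z) {p : PP}
    (hp : C.ψ ⟨m0, hm0⟩ = p) {x : G} (hx : x ∈ C.Q) :
    C.π (m0 * m0 * x * (m0 * m0)⁻¹) = stp Kind.tensor p (C.π x) := by
  rw [show m0 * m0 * x * (m0 * m0)⁻¹ = m0 * (m0 * x * m0⁻¹) * m0⁻¹ by group,
    C.pi_conj' hm0 (C.conj_mem hm0 hx), C.pi_conj' hm0 hx, act_tensor hk hp]
  rfl

/-- Membership in the four-group. -/
def inV (p : PP) : Bool := decide (p ∈ ((1, 1) : PP) :: v4)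

theorem inV_iff {p : PP} : inV p = true ↔ p = 1 ∨ p ∈ v4 := by
  simp [inV, Prod.mk_one_one]

theorem inV_mul {p q : PP} (hp : inV p = true) (hq : inV q = true) : inV (p * q) = true := by
  rw [inV_iff] at hp hq ⊢
  rcases hp with rfl | hp
  · simpa using hq
  rcases hq with rfl | hq
  · exact Or.inr (by simpa using hp)
  rcases v4_mul p hp q hq with rfl | e
  · exact Or.inl (v4_sq p hp).1
  · exact Or.inr e

theorem inV_inv {p : PP} (hp : inV p = true) : inV p⁻¹ = true := by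
  rcases inV_iff.1 hp with rfl | h
  · simpa using hp
  · rwa [inv_eq_of_mul_eq_one_right (v4_sq p h).1]

namespace RPair

variable (h : C.RPair g rT1) (hk : C.kind = Kind.tensor)

include h hk

/-- The images of `C_{Q_a}(z)` contain the four-group. -/
theorem v4_le : ∀ q ∈ v4, ∃ x, ∃ hx : x ∈ C.DP g, C.ψ ⟨x, DP_le hx⟩ = q := by
  classical
  set φ := C.ψ.comp (Subgroup.inclusion (DP_le (C := C) (g := g))) with hφ
  set R := Set.range fun x : ↥(C.DP g) => C.ψ ⟨x, DP_le x.2⟩ with hR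
  have hge : 8 ≤ R.ncard := h.range_ge
  have hmem : ∀ p ∈ R, p ∈ ((1, 1) : PP) :: rT1.F := by
    rintro _ ⟨⟨x, hx⟩, rfl⟩
    simp only [List.mem_cons, Prod.mk_one_one]
    exact h.image_mem (by rw [hk]; exact fit_rT1) hx
  have hnc : ¬ Set.InjOn clsF R := fun hinj => by
    have h1 := hinj.ncard_image
    have h2 : (clsF '' R).ncard ≤ (Set.univ : Set (Bool × Bool)).ncard :=
      Set.ncard_le_ncard (Set.subset_univ _)
    rw [Set.ncard_univ, Nat.card_eq_fintype_card] at h2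
    simp at h2
    omega
  simp only [Set.InjOn, not_forall] at hnc
  obtain ⟨p, hp, p', hp', ecls, hne⟩ := hnc
  have hv : p * p' ∈ v4 := by
    rcases rT1_cls p (hmem p hp) p' (hmem p' hp') with e | e | e
    exacts [absurd e hne, absurd ecls e, e]
  obtain ⟨⟨x, hx⟩, ex⟩ := hp
  obtain ⟨⟨x', hx'⟩, ex'⟩ := hp'
  have hxx : C.ψ ⟨x * x', DP_le (mul_mem hx hx')⟩ = p * p' := by
    rw [show (⟨x * x', DP_le (mul_mem hx hx')⟩ : ↥(Mz z)) = ⟨x, DP_le hx⟩ * ⟨x', DP_le hx'⟩ from rfl,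
      map_mul, ← ex, ← ex']
  have hconj : ∀ hh ∈ rT1.hs, ∀ {q : PP}, (∃ x, ∃ hx : x ∈ C.DP g, C.ψ ⟨x, DP_le hx⟩ = q) →
      ∃ x, ∃ hx : x ∈ C.DP g, C.ψ ⟨x, DP_le hx⟩ = hh * hh * q * (hh * hh)⁻¹ := by
    rintro hh hhs _ ⟨y, hy, rfl⟩
    obtain ⟨m, hm, hψ, hfix, -⟩ := h.lift hhs
    refine ⟨m * y * m⁻¹, (h.toQPair.fix_conj hm hfix).1 y hy, ?_⟩
    rw [show (⟨m * y * m⁻¹, DP_le ((h.toQPair.fix_conj hm hfix).1 y hy)⟩ : ↥(Mz z)) =
      ⟨m, hm⟩ * ⟨y, DP_le hy⟩ * ⟨m, hm⟩⁻¹ from rfl, map_mul, map_mul, map_inv, hψ]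
  intro q hq
  rcases v4_conj _ hv q hq with e | ⟨hh, hhs, e | ⟨hh', hhs', e⟩⟩
  · exact ⟨x * x', mul_mem hx hx', hxx.trans e⟩
  · exact e ▸ hconj hh hhs ⟨x * x', mul_mem hx hx', hxx⟩
  · exact e ▸ hconj hh' hhs' (hconj hh hhs ⟨x * x', mul_mem hx hx', hxx⟩)

/-- `Q ∩ Q_a` and the number of images. -/
theorem bb_eq : C.im (C.BB g) = ↑wStd.toFinset ∧
    (Set.range fun x : ↥(C.DP g) => C.ψ ⟨x, DP_le x.2⟩).ncard = 8 := by
  have hge := h.range_ge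
  have hcard := h.toQPair.card_eq
  have him := h.toQPair.card_im
  have hle := h.toQPair.card_BB_le
  have hcom : ∀ v ∈ 0 :: v4.flatMap (comT rT1), v ∈ C.im (C.BB g) := by
    intro v hv
    rcases List.mem_cons.1 hv with rfl | hv
    · exact C.im_zero _
    obtain ⟨p, hp, hv⟩ := List.mem_flatMap.1 hv
    obtain ⟨x, hx, e⟩ := h.v4_le hk p hp
    exact h.com0_mem hx (by rw [act_tensor hk e]; exact hv)
  have hsub : (↑wStd.toFinset : Set ℕ) ⊆ C.im (C.BB g) := by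
    intro v hv
    obtain ⟨a, ha, b, hb, c, hc, e⟩ := wStd_gen v (List.mem_toFinset.1 hv)
    exact e ▸ C.im_xor BB_le_Q (C.im_xor BB_le_Q (hcom a ha) (hcom b hb)) (hcom c hc)
  have h16 : (↑wStd.toFinset : Set ℕ).ncard = 16 := by
    rw [Set.ncard_coe_finset, List.toFinset_card_of_nodup wStd_nodup.1, wStd_nodup.2]
  have hmono := Set.ncard_le_ncard hsub (C.im_finite _)
  refine ⟨(Set.eq_of_subset_of_ncard_le hsub (by omega) (C.im_finite _)).symm, ?_⟩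
  have : Nat.card ↥(C.BB g) = 32 := by omega
  rw [this] at hcard
  omega

/-- The four-group has index two among the images. -/
theorem two_cosets {x y : G} (hx : x ∈ C.DP g) (hy : y ∈ C.DP g)
    (h1 : inV (C.ψ ⟨x, DP_le hx⟩) = false) (h2 : inV (C.ψ ⟨y, DP_le hy⟩) = false) :
    inV (C.ψ ⟨x * y, DP_le (mul_mem hx hy)⟩) = true := by
  classical
  set φ := C.ψ.comp (Subgroup.inclusion (DP_le (C := C) (g := g))) with hφ
  set R := φ.range with hR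
  have hRc : (R : Set PP).ncard = 8 := by
    rw [← (h.bb_eq hk).2]; rfl
  set V : Finset PP := (((1, 1) : PP) :: v4).toFinset with hV
  have hVc : V.card = 4 := by rw [hV]; decide
  have hVR : ∀ q ∈ V, q ∈ R := by
    intro q hq
    rw [hV, List.mem_toFinset] at hq
    rcases List.mem_cons.1 hq with rfl | hq
    · exact Prod.mk_one_one (M := Equiv.Perm (Fin 3)) (N := Equiv.Perm (Fin 6)) ▸ one_mem _
    · obtain ⟨w, hw, e⟩ := h.v4_le hk q hq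
      exact ⟨⟨w, hw⟩, e⟩
  have hVin : ∀ q, q ∈ V ↔ inV q = true := fun q => by
    rw [hV, List.mem_toFinset, inV, decide_eq_true_eq]
  set p := C.ψ ⟨x, DP_le hx⟩ with hp
  set p' := C.ψ ⟨y, DP_le hy⟩ with hp'
  have hpR : p ∈ R := ⟨⟨x, hx⟩, rfl⟩
  have hp'R : p' ∈ R := ⟨⟨y, hy⟩, rfl⟩
  have hdisj : Disjoint V (V.image (p * ·)) := by
    rw [Finset.disjoint_left]
    intro q hq hq'
    obtain ⟨r, hr, rfl⟩ := Finset.mem_image.1 hq'
    have := inV_mul ((hVin _).1 hq) (inV_inv ((hVin _).1 hr))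
    rw [mul_inv_cancel_right] at this
    rw [h1] at this
    exact Bool.noConfusion this
  have huni : (↑(V ∪ V.image (p * ·)) : Set PP) = R := by
    refine Set.eq_of_subset_of_ncard_le (fun q hq => ?_) ?_
    · rcases Finset.mem_union.1 hq with k | k
      · exact hVR q k
      · obtain ⟨r, hr, rfl⟩ := Finset.mem_image.1 k
        exact mul_mem hpR (hVR r hr)
    · rw [hRc, Set.ncard_coe_finset, Finset.card_union_of_disjoint hdisj,
        Finset.card_image_of_injective _ (mul_right_injective p), hVc]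
  have hp'' : p' ∈ (↑(V ∪ V.image (p * ·)) : Set PP) := by rw [huni]; exact hp'R
  rcases Finset.mem_union.1 hp'' with k | k
  · rw [(hVin _).1 k] at h2; exact Bool.noConfusion h2
  · obtain ⟨r, hr, e⟩ := Finset.mem_image.1 k
    have hpp : p * p = 1 := h.image_invol hx
    rw [show (⟨x * y, DP_le (mul_mem hx hy)⟩ : ↥(Mz z)) = ⟨x, DP_le hx⟩ * ⟨y, DP_le hy⟩ from rfl,
      map_mul, ← hp, ← hp', ← e, ← mul_assoc, hpp, one_mul]
    exact (hVin _).1 hr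

/-- An element of `M` fixing `a` normalises the four-group. -/
theorem stab {k : G} (hk' : k ∈ Mz z) (hfix : k * (g * z * g⁻¹) * k⁻¹ = g * z * g⁻¹) {q : PP}
    (hq : inV q = true) : inV (C.ψ ⟨k, hk'⟩ * q * (C.ψ ⟨k, hk'⟩)⁻¹) = true := by
  rcases inV_iff.1 hq with rfl | hq'
  · simp [inV_iff]
  refine inV_iff.2 (Or.inr ?_)
  have hst := v4_stab (C.ψ ⟨k, hk'⟩).1 (C.ψ ⟨k, hk'⟩).2
  have h1 : ap (img Kind.tensor (C.ψ ⟨k, hk'⟩).1 (C.ψ ⟨k, hk'⟩).2 false) 1 = 1 := by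
    have := C.pi_conj' hk' h.mem
    rw [hfix, act_tensor hk rfl, h.pi_a] at this
    exact this.symm
  rw [h1] at hst
  simp only [bne_self_eq_false, Bool.false_or, List.all_eq_true, List.contains_iff_mem] at hst
  exact hst q hq'

end RPair

/-- The element of `C_{Q_a}(z)` is outside `Q` unless its preimage is in the intersection. -/
theorem exists_gu (hk : C.kind = Kind.tensor) (h : C.RPair g rT1) (h' : C.RPair g⁻¹ rT1) :
    ∃ gu, ∃ hp : C.Pt gu, C.ψ ⟨_, hp.mem⟩ ∈ v4 ∧ C.ψ ⟨_, hp.inv.mem⟩ ∈ v4 := by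
  classical
  obtain ⟨hbs, hprop⟩ := rT1_bs
  set a' := g⁻¹ * z * g⁻¹⁻¹ with ha'
  have hpa : C.π a' = 1 := h'.pi_a
  -- preimages in `C_Q(a')`
  have hpre : ∀ s < 128, ∀ x ∈ C.Q, C.π x = ap rT1.bs s → g * x * g⁻¹ ∈ C.DP g := by
    intro s hs x hx ex
    have hc : x * a' = a' * x := (C.comm_iff hx h'.mem).2 (by
      rw [hpa, ex, hk]; exact (hprop s (List.mem_range.2 hs)).2.2)
    refine C.mem_DP.2 ⟨by simpa [mul_assoc] using hx, ?_⟩
    calc g * x * g⁻¹ * z = g * (x * a') * g⁻¹ := by rw [ha']; group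
      _ = g * (a' * x) * g⁻¹ := by rw [hc]
      _ = z * (g * x * g⁻¹) := by rw [ha']; group
  have hq : ∀ s, s < 128 → ∃ x, x ∈ C.Q ∧ C.π x = ap rT1.bs s := fun s hs =>
    C.π_surj _ (hprop s (List.mem_range.2 hs)).1
  choose pre hpreQ hpreπ using hq
  let V1 : ∀ x, x ∈ C.DP g → Bool := fun x hx => inV (C.ψ ⟨x, DP_le hx⟩)
  -- independence of the preimage
  have hindep : ∀ {s : ℕ} (hs : s < 128) {x : G} (hx : x ∈ C.Q) (ex : C.π x = ap rT1.bs s),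
      C.ψ ⟨_, DP_le (hpre s hs x hx ex)⟩ =
        C.ψ ⟨_, DP_le (hpre s hs _ (hpreQ s hs) (hpreπ s hs))⟩ := by
    intro s hs x hx ex
    rcases C.pi_eq (hpreQ s hs) hx ((hpreπ s hs).trans ex.symm) with e | e
    · exact congrArg C.ψ (Subtype.ext (by simp [e]))
    · have haQ : g * z * g⁻¹ ∈ C.Q := h.mem
      rw [show (⟨g * x * g⁻¹, DP_le (hpre s hs x hx ex)⟩ : ↥(Mz z)) =
        ⟨_, DP_le (hpre s hs _ (hpreQ s hs) (hpreπ s hs))⟩ * ⟨g * z * g⁻¹, C.le_cent haQ⟩ from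
          Subtype.ext (by push_cast; rw [e]; group), map_mul,
        (C.ker_iff ⟨g * z * g⁻¹, C.le_cent haQ⟩).2 haQ, mul_one]
  let f : ℕ → Bool := fun s =>
    if hs : s < 128 then !(V1 _ (hpre s hs _ (hpreQ s hs) (hpreπ s hs))) else false
  have hfs : ∀ {s : ℕ} (hs : s < 128) {x : G} (hx : x ∈ C.Q) (ex : C.π x = ap rT1.bs s),
      f s = !inV (C.ψ ⟨_, DP_le (hpre s hs x hx ex)⟩) := by
    intro s hs x hx ex
    rw [hindep hs hx ex]
    simp only [f, V1, dif_pos hs]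
  have hlin : ∀ a b, a < 2 ^ 7 → b < 2 ^ 7 → f (a ^^^ b) = (f a ^^ f b) := by
    intro a b ha hb
    have hab : a ^^^ b < 128 := xor_lt (n := 7) ha hb
    have hxy : C.π (pre a ha * pre b hb) = ap rT1.bs (a ^^^ b) := by
      rw [C.π_mul _ (hpreQ a ha) _ (hpreQ b hb), hpreπ, hpreπ, ap_xor]
    rw [hfs hab (mul_mem (hpreQ a ha) (hpreQ b hb)) hxy, hfs ha (hpreQ a ha) (hpreπ a ha),
      hfs hb (hpreQ b hb) (hpreπ b hb)]
    have hX := hpre a ha _ (hpreQ a ha) (hpreπ a ha)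
    have hY := hpre b hb _ (hpreQ b hb) (hpreπ b hb)
    have e : C.ψ ⟨_, DP_le (hpre _ hab _ (mul_mem (hpreQ a ha) (hpreQ b hb)) hxy)⟩ =
        C.ψ ⟨_, DP_le (mul_mem hX hY)⟩ := congrArg C.ψ (Subtype.ext (by group))
    rw [e]
    have hmul : C.ψ ⟨_, DP_le (mul_mem hX hY)⟩ = C.ψ ⟨_, DP_le hX⟩ * C.ψ ⟨_, DP_le hY⟩ := by
      rw [← map_mul]; rfl
    cases hA : inV (C.ψ ⟨_, DP_le hX⟩) <;> cases hB : inV (C.ψ ⟨_, DP_le hY⟩)
    · rw [h.two_cosets hk hX hY hA hB]; rfl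
    · cases hAB : inV (C.ψ ⟨_, DP_le (mul_mem hX hY)⟩)
      · rfl
      · exfalso
        rw [hmul] at hAB
        have := inV_mul hAB (inV_inv hB)
        rw [mul_inv_cancel_right, hA] at this
        exact Bool.noConfusion this
    · cases hAB : inV (C.ψ ⟨_, DP_le (mul_mem hX hY)⟩)
      · rfl
      · exfalso
        rw [hmul] at hAB
        have := inV_mul (inV_inv hA) hAB
        rw [inv_mul_cancel_left, hB] at this
        exact Bool.noConfusion this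
    · rw [hmul, inV_mul hA hB]; rfl
  obtain ⟨mm, hmm, hf⟩ := exists_functional (k := 7) (by norm_num) f hlin
  have hstd : ∀ w ∈ wStd, par (w &&& mm) = false := by
    intro w hw
    have hw128 : w < 128 := by revert hw; revert w; decide
    have hap : ap rT1.bs w = w := (List.map_eq_map_iff (g := id)).1 (by rw [List.map_id]; exact wStd_coord.1) w hw
    have hwim : w ∈ C.im (C.BB g⁻¹) := by
      rw [(h'.bb_eq hk).1]; exact List.mem_toFinset.2 hw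
    obtain ⟨x, hx, ex⟩ := hwim
    rw [← hf w hw128, hfs hw128 (BB_le_Q hx) (ex.trans hap.symm)]
    have hQ : g * x * g⁻¹ ∈ C.Q := by simpa using (C.mem_BB.1 hx).2.1
    rw [(C.ker_iff _).2 hQ]
    rfl
  have hinv : ∀ st ∈ invPairs, par (st.1 &&& mm) = par (st.2 &&& mm) := by
    intro st hst
    obtain ⟨hs, ht, hh, hhs, est⟩ := invPairs_ok st hst
    rw [← hf _ hs, ← hf _ ht]
    obtain ⟨n, hn, -, hfix, hact⟩ := h'.lift hhs
    set x := pre st.1 hs with hxdef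
    have hxQ : x ∈ C.Q := hpreQ st.1 hs
    have ex : C.π (n * x * n⁻¹) = ap rT1.bs st.2 := by
      rw [hact x hxQ, hxdef, hpreπ, hk, est]
    rw [hfs hs hxQ (hpreπ st.1 hs), hfs ht (C.conj_mem hn hxQ) ex]
    have hkz : g * n * g⁻¹ ∈ Mz z := Coord.mem_cent.2 (by
      calc g * n * g⁻¹ * z = g * (n * a' * n⁻¹) * (n * g⁻¹) := by rw [ha']; group
        _ = g * a' * (n * g⁻¹) := by rw [hfix]
        _ = z * (g * n * g⁻¹) := by rw [ha']; group)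
    have hka : g * n * g⁻¹ * (g * z * g⁻¹) * (g * n * g⁻¹)⁻¹ = g * z * g⁻¹ := by
      calc g * n * g⁻¹ * (g * z * g⁻¹) * (g * n * g⁻¹)⁻¹ = g * (n * z * n⁻¹) * g⁻¹ := by group
        _ = g * z * g⁻¹ := by rw [Coord.mem_cent.1 hn]; group
    have hX := hpre st.1 hs x hxQ (hpreπ st.1 hs)
    have e : C.ψ ⟨_, DP_le (hpre st.2 ht _ (C.conj_mem hn hxQ) ex)⟩ =
        C.ψ ⟨_, hkz⟩ * C.ψ ⟨_, DP_le hX⟩ * (C.ψ ⟨_, hkz⟩)⁻¹ := by
      rw [← map_inv, ← map_mul, ← map_mul]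
      exact congrArg C.ψ (Subtype.ext (by push_cast; group))
    rw [e]
    cases hA : inV (C.ψ ⟨_, DP_le hX⟩)
    · cases hB : inV (C.ψ ⟨_, hkz⟩ * C.ψ ⟨_, DP_le hX⟩ * (C.ψ ⟨_, hkz⟩)⁻¹)
      · rfl
      · exfalso
        have hkfix' : (g * n * g⁻¹)⁻¹ * (g * z * g⁻¹) * (g * n * g⁻¹)⁻¹⁻¹ = g * z * g⁻¹ := by
          conv_lhs => rw [← hka]
          group
        have := h.stab hk (inv_mem hkz) hkfix' hB
        rw [show (⟨(g * n * g⁻¹)⁻¹, inv_mem hkz⟩ : ↥(Mz z)) = ⟨_, hkz⟩⁻¹ from rfl, map_inv,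
          inv_inv, ← mul_assoc, ← mul_assoc, inv_mul_cancel, one_mul, inv_mul_cancel_right, hA] at this
        exact Bool.noConfusion this
    · rw [h.stab hk hkz hka hA]
  obtain ⟨h36, h32⟩ := forced mm (List.mem_range.2 hmm) hstd hinv
  have hv : ∀ (s : ℕ) (hs : s < 128), par (s &&& mm) = false → ap rT1.bs s ∉ wStd →
      ∀ x (hx : x ∈ C.Q) (ex : C.π x = ap rT1.bs s),
        C.ψ ⟨_, DP_le (hpre s hs x hx ex)⟩ ∈ v4 := by
    intro s hs hp hnot x hx ex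
    rw [← hf s hs, hfs hs hx ex, Bool.not_eq_false'] at hp
    rcases inV_iff.1 hp with e | e
    · exfalso
      have hQ := (C.ker_iff _).1 e
      have hBB : x ∈ C.BB g⁻¹ := C.mem_BB.2 ⟨hx, by simpa using hQ, C.cent_z hx⟩
      apply hnot
      have : C.π x ∈ C.im (C.BB g⁻¹) := ⟨x, hBB, rfl⟩
      rw [(h'.bb_eq hk).1, ex] at this
      exact List.mem_toFinset.1 this
    · exact e
  obtain ⟨-, hc68, hc64⟩ := wStd_coord
  obtain ⟨hs68, hs64, hK1, hK2, hn68, hn64, -, -⟩ := swapK_ok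
  obtain ⟨⟨m0, hm0⟩, hψ0⟩ := C.big swapK.1 swapK.2 hK1 hK2
  have hm : m0 * m0 ∈ Mz z := mul_mem hm0 hm0
  have e1 : C.π (m0 * m0 * a' * (m0 * m0)⁻¹) = ap rT1.bs 36 := by
    rw [pi_sq_tensor hk hm0 hψ0 h'.mem, hpa, hs68, hc68]
  have e2 : C.π (m0⁻¹ * m0⁻¹ * a' * (m0⁻¹ * m0⁻¹)⁻¹) = ap rT1.bs 32 := by
    rw [pi_sq_tensor hk (inv_mem hm0) (p := swapK⁻¹) (by
      rw [show (⟨m0⁻¹, inv_mem hm0⟩ : ↥(Mz z)) = ⟨m0, hm0⟩⁻¹ from rfl, map_inv, hψ0]) h'.mem,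
      hpa, hs64, hc64]
  have m1 := C.conj_mem hm h'.mem
  have m2 := C.conj_mem (mul_mem (inv_mem hm0) (inv_mem hm0)) h'.mem
  have k1 := hv 36 (by norm_num) h36 (by rw [hc68]; exact hn68) _ m1 e1
  have k2 := hv 32 (by norm_num) h32 (by rw [hc64]; exact hn64) _ m2 e2
  have d1 := DP_le (hpre 36 (by norm_num) _ m1 e1)
  have d2 := DP_le (hpre 32 (by norm_num) _ m2 e2)
  set gu := g * (m0 * m0) * g⁻¹ with hgu
  have eu : gu * z * gu⁻¹ = g * (m0 * m0 * a' * (m0 * m0)⁻¹) * g⁻¹ := by rw [hgu, ha']; group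
  have ew : gu⁻¹ * z * gu⁻¹⁻¹ = g * (m0⁻¹ * m0⁻¹ * a' * (m0⁻¹ * m0⁻¹)⁻¹) * g⁻¹ := by
    rw [hgu, ha']; group
  have ne1 : ∀ q ∈ v4, q ≠ 1 := fun q hq => (v4_sq q hq).2.1
  have hp : C.Pt gu := by
    refine ⟨eu ▸ d1, fun hQ => ne1 _ k1 ?_, fun hQ => ne1 _ k2 ?_⟩
    · refine (C.ker_iff _).2 ?_
      show g * (m0 * m0 * a' * (m0 * m0)⁻¹) * g⁻¹ ∈ C.Q
      rw [← eu]; exact hQ
    · refine (C.ker_iff _).2 ?_
      have : gu⁻¹ * z * gu⁻¹⁻¹ ∈ C.Q := by simpa using hQ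
      show g * (m0⁻¹ * m0⁻¹ * a' * (m0⁻¹ * m0⁻¹)⁻¹) * g⁻¹ ∈ C.Q
      rw [← ew]; exact this
  refine ⟨gu, hp, ?_, ?_⟩
  · rw [show (⟨_, hp.mem⟩ : ↥(Mz z)) = ⟨_, d1⟩ from Subtype.ext eu]; exact k1
  · rw [show (⟨_, hp.inv.mem⟩ : ↥(Mz z)) = ⟨_, d2⟩ from Subtype.ext ew]; exact k2

/-- From a conjugate in `Q` to a conjugate outside. -/
theorem QPair.exists_pt (h : C.QPair g) :
    C.kind = Kind.tensor ∧ ∃ gu, ∃ hp : C.Pt gu, C.ψ ⟨_, hp.mem⟩ ∈ v4 ∧ C.ψ ⟨_, hp.inv.mem⟩ ∈ v4 := by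
  obtain ⟨hk, -, m, hm, hR⟩ := h.exists_rep
  obtain ⟨-, -, n, hn, hS⟩ := hR.toQPair.inv.exists_rep
  have e : m * g * n⁻¹ * z * (m * g * n⁻¹)⁻¹ = m * g * z * (m * g)⁻¹ := by
    calc m * g * n⁻¹ * z * (m * g * n⁻¹)⁻¹ = m * g * (n⁻¹ * (z * n)) * (m * g)⁻¹ := by group
      _ = m * g * (n⁻¹ * (n * z)) * (m * g)⁻¹ := by rw [Coord.mem_cent.1 hn]
      _ = _ := by group
  have hg : C.RPair (m * g * n⁻¹) rT1 :=
    ⟨⟨e ▸ hR.mem, e ▸ hR.ne⟩, hR.mem_reps, e ▸ hR.pi_a⟩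
  have hg' : C.RPair (m * g * n⁻¹)⁻¹ rT1 := by
    rw [show (m * g * n⁻¹)⁻¹ = n * (m * g)⁻¹ by group]; exact hS
  exact ⟨hk, exists_gu hk hg hg'⟩

end Coord

end Cfsg.Agent.ExtraTwoNine
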