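import Mathlib
import Cfsg.Agent.Lib.ExtraTwoNine.Pure

/-!
In the tensor model no conjugate `u` of `z` outside `Q` has both `u` and its partner inducing double
transpositions of `A₆`; hence no conjugate of `z` other than `z` lies in `Q`.
-/

set_option autoImplicit false
set_option linter.unusedSectionVars false

namespace Cfsg.Agent.ExtraTwoNine

open Subgroup

/-- The two three-cycles. -/
def cycs : List (Equiv.Perm (Fin 3)) :=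
  [Equiv.swap 0 1 * Equiv.swap 1 2, Equiv.swap 1 2 * Equiv.swap 0 1]

namespace Coord

variable {G : Type*} [Group G] [Finite G] {z : G}

/-- Both `g z g⁻¹` and `g⁻¹ z g` induce the representative double transposition. -/
structure DT (C : Coord z) (g : G) : Prop where
  tensor : C.kind = Kind.tensor
  pt : C.Pt g
  psi : C.ψ ⟨_, pt.mem⟩ = (1, dtB)
  psi' : C.ψ ⟨_, pt.inv.mem⟩ = (1, dtB)

variable {C : Coord z} {g : G}

namespace DT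

variable (h : C.DT g)

include h

theorem inv : C.DT g⁻¹ := by
  refine ⟨h.tensor, h.pt.inv, h.psi', ?_⟩
  rw [← h.psi]
  exact congrArg C.ψ (Subtype.ext (by simp only [inv_inv]))

theorem act_u {q : G} (hq : q ∈ C.Q) :
    C.π (g * z * g⁻¹ * q * (g * z * g⁻¹)⁻¹) = ap dtL (C.π q) := by
  rw [C.pi_conj' h.pt.mem hq, act_tensor h.tensor h.psi]
  rfl

theorem comm_pi {q : G} (hq : q ∈ C.Q) :
    g * z * g⁻¹ * q * (g * z * g⁻¹)⁻¹ * q⁻¹ ∈ C.Q ∧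
      C.π (g * z * g⁻¹ * q * (g * z * g⁻¹)⁻¹ * q⁻¹) = ap dtL (C.π q) ^^^ C.π q := by
  have hm := C.conj_mem h.pt.mem hq
  exact ⟨mul_mem hm (inv_mem hq), by rw [C.π_mul _ hm _ (inv_mem hq), C.pi_inv hq, h.act_u hq]⟩

theorem u_fix_z : g * z * g⁻¹ * z * (g * z * g⁻¹)⁻¹ = z := by
  rw [Coord.mem_cent.1 h.pt.mem, mul_inv_cancel_right]

/-- `C_Q(u)` consists of all elements with fixed image. -/
theorem mem_of_fix {d : G} (hd : d ∈ C.Q) (hfix : ap dtL (C.π d) = C.π d) : d ∈ C.DD g := by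
  obtain ⟨hsing, y, hy, ey⟩ := dt_fix _ (List.mem_range.2 (C.π_lt d hd)) hfix
  obtain ⟨q, hq, rfl⟩ := C.π_surj y (List.mem_range.1 hy)
  obtain ⟨hcQ, hc⟩ := h.comm_pi hq
  set u := g * z * g⁻¹ with hu
  set c := u * q * u⁻¹ * q⁻¹ with hc'
  rw [ey] at hc
  have hcc : c * c = 1 := (C.sq_one hcQ).2 (by rw [hc, h.tensor]; exact hsing)
  have huu : u * u = 1 := C.uu g
  have hcu : u * c * u⁻¹ = c := by
    have hinv : u * c * u⁻¹ = c⁻¹ := by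
      have hui : u⁻¹ = u := C.u_inv g
      calc u * c * u⁻¹ = (u * u) * q * u⁻¹ * q⁻¹ * u⁻¹ := by rw [hc']; group
        _ = q * u * q⁻¹ * u⁻¹ := by rw [huu, one_mul, hui]
        _ = c⁻¹ := by rw [hc']; group
    rw [hinv]
    exact inv_eq_of_mul_eq_one_right hcc
  refine C.mem_DD.2 ⟨hd, ?_⟩
  rcases C.pi_eq hcQ hd hc with e | e
  · rw [e]; exact (mul_inv_eq_iff_eq_mul.1 hcu).symm
  · rw [e]
    calc c * z * u = c * (z * u) := mul_assoc _ _ _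
      _ = c * (u * z) := by rw [Coord.mem_cent.1 h.pt.mem]
      _ = c * u * z := (mul_assoc _ _ _).symm
      _ = u * c * z := by rw [(mul_inv_eq_iff_eq_mul.1 hcu).symm]
      _ = u * (c * z) := mul_assoc _ _ _

theorem DD_fix {d : G} (hd : d ∈ C.DD g) : ap dtL (C.π d) = C.π d := by
  obtain ⟨hdQ, hdu⟩ := C.mem_DD.1 hd
  rw [← h.act_u hdQ, ← hdu, mul_inv_cancel_right]

theorem DD_sq {d : G} (hd : d ∈ C.DD g) : d * d = 1 := by
  refine (C.sq_one (DD_le_Q hd)).2 ?_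
  rw [h.tensor]
  exact (dt_fix _ (List.mem_range.2 (C.π_lt d (DD_le_Q hd))) (h.DD_fix hd)).1

theorem DP_one {y : G} (hy : y ∈ C.DP g) : y * y = 1 := by
  have hy' : g⁻¹ * y * g ∈ C.DD g⁻¹ := by
    rw [← C.map_DD (g := g), mem_map_equiv] at hy
    simpa [MulAut.conj_symm_apply] using hy
  calc y * y = g * ((g⁻¹ * y * g) * (g⁻¹ * y * g)) * g⁻¹ := by group
    _ = 1 := by rw [h.inv.DD_sq hy']; group

/-- An element of order three centralising `u`, acting as a three-cycle. -/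
theorem exists_x : ∃ x, ∃ hx : x ∈ Mz z, x * x * x = 1 ∧ x * (g * z * g⁻¹) = g * z * g⁻¹ * x ∧
    ∃ c ∈ cycs, C.ψ ⟨x, hx⟩ = (c, 1) := by
  set u := g * z * g⁻¹ with hu
  obtain ⟨⟨m, hm⟩, hψ⟩ := C.big (Equiv.swap 0 1 * Equiv.swap 1 2) 1 (by decide) (by simp)
  set q0 := m * u * m⁻¹ * u with hq0
  have hq0M : q0 ∈ Mz z := mul_mem (mul_mem (mul_mem hm h.pt.mem) (inv_mem hm)) h.pt.mem
  have hq0Q : q0 ∈ C.Q := by
    refine (C.ker_iff ⟨q0, hq0M⟩).1 ?_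
    rw [show (⟨q0, hq0M⟩ : ↥(Mz z)) = ⟨m, hm⟩ * ⟨u, h.pt.mem⟩ * ⟨m, hm⟩⁻¹ * ⟨u, h.pt.mem⟩ from rfl,
      map_mul, map_mul, map_mul, map_inv, hψ, h.psi]
    decide
  have huu : u * u = 1 := C.uu g
  have hui : u⁻¹ = u := C.u_inv g
  have hmm : m * u * m⁻¹ * (m * u * m⁻¹) = 1 := by
    calc m * u * m⁻¹ * (m * u * m⁻¹) = m * (u * u) * m⁻¹ := by group
      _ = 1 := by rw [huu]; group
  have hconj : u * q0 * u⁻¹ = q0⁻¹ := by
    refine eq_inv_of_mul_eq_one_left ?_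
    calc u * q0 * u⁻¹ * q0 = u * (m * u * m⁻¹) * (u * u⁻¹) * (m * u * m⁻¹) * u := by rw [hq0]; group
      _ = u * (m * u * m⁻¹ * (m * u * m⁻¹)) * u := by group
      _ = 1 := by rw [hmm, mul_one, huu]
  have hfix : ap dtL (C.π q0) = C.π q0 := by rw [← h.act_u hq0Q, hconj, C.pi_inv hq0Q]
  obtain ⟨-, y, hy, ey⟩ := dt_fix _ (List.mem_range.2 (C.π_lt q0 hq0Q)) hfix
  obtain ⟨q, hq, rfl⟩ := C.π_surj y (List.mem_range.1 hy)
  obtain ⟨hcQ, hc⟩ := h.comm_pi hq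
  rw [ey] at hc
  -- `q u q⁻¹` differs from `m u m⁻¹` at most by `z`
  have hq' : q⁻¹ ∈ C.Q := inv_mem hq
  have hcc : (g * z * g⁻¹ * q * (g * z * g⁻¹)⁻¹ * q⁻¹) ∈ C.DD g :=
    h.mem_of_fix hcQ (by rw [hc]; exact hfix)
  have hcu := (C.mem_DD.1 hcc).2
  rw [← hu] at hcc hcu hcQ hc
  have hquq : q * u * q⁻¹ = u * q * u⁻¹ * q⁻¹ * u := by
    rw [hcu, hui]
    calc q * u * q⁻¹ = (u * u) * (q * u * q⁻¹) := by rw [huu, one_mul]
      _ = u * (u * q * u * q⁻¹) := by group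
  have hmq : m * u * m⁻¹ = q * u * q⁻¹ ∨ m * u * m⁻¹ = q * u * q⁻¹ * z := by
    have hm1 : m * u * m⁻¹ = q0 * u := by
      calc m * u * m⁻¹ = m * u * m⁻¹ * (u * u) := by rw [huu, mul_one]
        _ = q0 * u := by rw [hq0]; group
    rcases C.pi_eq hcQ hq0Q hc with e | e
    · left; rw [hm1, e, hquq]
    · right
      rw [hm1, e, hquq, mul_assoc, ← Coord.mem_cent.1 h.pt.mem, ← mul_assoc]
  set m' := q⁻¹ * m with hm'
  have hm'M : m' ∈ Mz z := mul_mem (C.le_cent hq') hm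
  have hm'u : m' * u * m'⁻¹ = u ∨ m' * u * m'⁻¹ = u * z := by
    rcases hmq with e | e
    · left
      calc m' * u * m'⁻¹ = q⁻¹ * (m * u * m⁻¹) * q := by rw [hm']; group
        _ = u := by rw [e]; group
    · right
      calc m' * u * m'⁻¹ = q⁻¹ * (m * u * m⁻¹) * q := by rw [hm']; group
        _ = u * (q⁻¹ * (z * q)) := by rw [e]; group
        _ = u * (q⁻¹ * (q * z)) := by rw [C.cent_z hq]
        _ = u * z := by group
  set y := m' * m' with hy'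
  have hyu : y * u * y⁻¹ = u := by
    have hz : m' * z * m'⁻¹ = z := by rw [Coord.mem_cent.1 hm'M, mul_inv_cancel_right]
    rw [show y * u * y⁻¹ = m' * (m' * u * m'⁻¹) * m'⁻¹ by rw [hy']; group]
    rcases hm'u with e | e
    · rw [e, e]
    · rw [e, show m' * (u * z) * m'⁻¹ = m' * u * m'⁻¹ * (m' * z * m'⁻¹) by group, e, hz, mul_assoc,
        C.zz, mul_one]
  have hyM : y ∈ Mz z := mul_mem hm'M hm'M
  set c := (Equiv.swap 0 1 * Equiv.swap 1 2 : Equiv.Perm (Fin 3)) with hc3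
  have hψy : C.ψ ⟨y, hyM⟩ = (c * c, 1) := by
    have hψ' : C.ψ ⟨m', hm'M⟩ = (c, 1) := by
      rw [show (⟨m', hm'M⟩ : ↥(Mz z)) = ⟨q⁻¹, C.le_cent hq'⟩ * ⟨m, hm⟩ from rfl, map_mul,
        (C.ker_iff ⟨q⁻¹, C.le_cent hq'⟩).2 hq', one_mul, hψ]
    rw [show (⟨y, hyM⟩ : ↥(Mz z)) = ⟨m', hm'M⟩ * ⟨m', hm'M⟩ from rfl, map_mul, hψ', Prod.mk_mul_mk,
      one_mul]
  have hy3 : y * y * y ∈ C.DD g := by
    refine C.mem_DD.2 ⟨(C.ker_iff ⟨_, mul_mem (mul_mem hyM hyM) hyM⟩).1 ?_, ?_⟩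
    · rw [show (⟨y * y * y, mul_mem (mul_mem hyM hyM) hyM⟩ : ↥(Mz z)) =
        ⟨y, hyM⟩ * ⟨y, hyM⟩ * ⟨y, hyM⟩ from rfl, map_mul, map_mul, hψy, hc3]
      decide
    · have cu : Commute y u := mul_inv_eq_iff_eq_mul.1 hyu
      exact ((cu.mul_left cu).mul_left cu).eq
  have h6 := h.DD_sq hy3
  have hyu' : y * u = u * y := mul_inv_eq_iff_eq_mul.1 hyu
  refine ⟨y * y * (y * y), mul_mem (mul_mem hyM hyM) (mul_mem hyM hyM), ?_, ?_, c * c, ?_, ?_⟩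
  · calc y * y * (y * y) * (y * y * (y * y)) * (y * y * (y * y))
        = (y * y * y * (y * y * y)) * (y * y * y * (y * y * y)) := by group
      _ = 1 := by rw [h6, mul_one]
  · have cu : Commute y u := hyu'
    exact ((cu.mul_left cu).mul_left (cu.mul_left cu)).eq
  · rw [hc3]; decide
  · rw [show (⟨y * y * (y * y), mul_mem (mul_mem hyM hyM) (mul_mem hyM hyM)⟩ : ↥(Mz z)) =
      ⟨y, hyM⟩ * ⟨y, hyM⟩ * (⟨y, hyM⟩ * ⟨y, hyM⟩) from rfl, map_mul, map_mul, hψy, hc3]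
    decide

/-- Conjugation by an element centralising `z` and `u` preserves the intersection. -/
theorem norm_DP {x : G} (hx : x ∈ Mz z) (hxu : x * (g * z * g⁻¹) = g * z * g⁻¹ * x) :
    (∀ y ∈ C.DP g, x * y * x⁻¹ ∈ C.DP g) ∧ (∀ y ∈ C.BB g, x * y * x⁻¹ ∈ C.BB g) := by
  have hgx : g⁻¹ * x * g ∈ Mz z := Coord.mem_cent.2 (by
    calc g⁻¹ * x * g * z = g⁻¹ * (x * (g * z * g⁻¹)) * g := by group
      _ = g⁻¹ * (g * z * g⁻¹ * x) * g := by rw [hxu]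
      _ = z * (g⁻¹ * x * g) := by group)
  have key : ∀ y ∈ C.DP g, x * y * x⁻¹ ∈ C.DP g := by
    intro y hy
    obtain ⟨hyg, -⟩ := C.mem_DP.1 hy
    refine C.mem_DP.2 ⟨?_, Coord.mem_cent.1 (mul_mem (mul_mem hx (DP_le hy)) (inv_mem hx))⟩
    rw [show g⁻¹ * (x * y * x⁻¹) * g = g⁻¹ * x * g * (g⁻¹ * y * g) * (g⁻¹ * x * g)⁻¹ by group]
    exact C.conj_mem hgx hyg
  exact ⟨key, fun y hy => ⟨C.conj_mem hx (BB_le_Q hy), key y (C.mem_DP.2 (C.mem_BB.1 hy).2)⟩⟩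

/-- `[x, C_{Q_u}(z)]` lies in the intersection. -/
theorem comm_BB {x : G} (hx : x ∈ Mz z) (hxu : x * (g * z * g⁻¹) = g * z * g⁻¹ * x)
    {c : Equiv.Perm (Fin 3)} (hc : c ∈ cycs) (hψ : C.ψ ⟨x, hx⟩ = (c, 1)) {y : G} (hy : y ∈ C.DP g) :
    x * y * x⁻¹ * y⁻¹ ∈ C.BB g := by
  have hy' := (h.norm_DP hx hxu).1 y hy
  have hmem : x * y * x⁻¹ * y⁻¹ ∈ C.DP g := mul_mem hy' (inv_mem hy)
  refine ⟨(C.ker_iff ⟨_, DP_le hmem⟩).1 ?_, hmem⟩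
  set p := C.ψ ⟨y, DP_le hy⟩ with hp
  have hψ2 : C.ψ ⟨_, DP_le hy'⟩ = (c * p.1 * c⁻¹, p.2) := by
    rw [show (⟨x * y * x⁻¹, DP_le hy'⟩ : ↥(Mz z)) = ⟨x, hx⟩ * ⟨y, DP_le hy⟩ * ⟨x, hx⟩⁻¹ from rfl,
      map_mul, map_mul, map_inv, hψ, ← hp]
    ext <;> simp
  have hpp : p * p = 1 := by
    rw [hp, ← map_mul, show (⟨y, DP_le hy⟩ : ↥(Mz z)) * ⟨y, DP_le hy⟩ = 1 from Subtype.ext (h.DP_one hy),
      map_one]
  have hcomm : x * y * x⁻¹ * y = y * (x * y * x⁻¹) := by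
    have h1 := h.DP_one hy'
    have h2 := h.DP_one hy
    have h3 := h.DP_one (mul_mem hy' hy)
    calc x * y * x⁻¹ * y = x * y * x⁻¹ * y * ((x * y * x⁻¹ * y) * (x * y * x⁻¹ * y))⁻¹ := by
          rw [h3]; group
      _ = y⁻¹ * (x * y * x⁻¹)⁻¹ := by group
      _ = y * (x * y * x⁻¹) := by
          rw [inv_eq_of_mul_eq_one_right h1, inv_eq_of_mul_eq_one_right h2]
  have hc' : C.ψ ⟨_, DP_le hy'⟩ * p = p * C.ψ ⟨_, DP_le hy'⟩ := by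
    rw [hp, ← map_mul, ← map_mul]
    exact congrArg C.ψ (Subtype.ext hcomm)
  rw [hψ2] at hc'
  have h1 : p.1 * p.1 = 1 := (Prod.ext_iff.1 hpp).1
  have hp1 : p.1 = 1 := dt_comm3 c hc p.1 (invol3 _ h1) (Prod.ext_iff.1 hc').1
  rw [show (⟨x * y * x⁻¹ * y⁻¹, DP_le hmem⟩ : ↥(Mz z)) = ⟨_, DP_le hy'⟩ * ⟨y, DP_le hy⟩⁻¹ from rfl,
    map_mul, map_inv, hψ2, ← hp, hp1, mul_one, mul_inv_cancel, mul_inv_eq_one]
  exact Prod.ext hp1.symm rfl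

/-- The intersection at `g⁻¹` covers all fixed vectors. -/
theorem full_inv : ∀ v < 256, ap dtL v = v → ∃ b ∈ C.BB g⁻¹, C.π b = v := by
  intro v hv hfix
  obtain ⟨x, hx, hx3, hxu, c, hc, hψ⟩ := h.exists_x
  set x' := g⁻¹ * x * g with hx'
  have hx'M : x' ∈ Mz z := Coord.mem_cent.2 (by
    calc x' * z = g⁻¹ * (x * (g * z * g⁻¹)) * g := by rw [hx']; group
      _ = g⁻¹ * (g * z * g⁻¹ * x) * g := by rw [hxu]
      _ = z * x' := by rw [hx']; group)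
  have hx'3 : x' * x' * x' = 1 := by
    calc x' * x' * x' = g⁻¹ * (x * x * x) * g := by rw [hx']; group
      _ = 1 := by rw [hx3]; group
  have hx'w : x' * (g⁻¹ * z * g⁻¹⁻¹) = g⁻¹ * z * g⁻¹⁻¹ * x' := by
    calc x' * (g⁻¹ * z * g⁻¹⁻¹) = g⁻¹ * (x * z) * g := by rw [hx']; group
      _ = g⁻¹ * (z * x) * g := by rw [Coord.mem_cent.1 hx]
      _ = g⁻¹ * z * g⁻¹⁻¹ * x' := by rw [hx']; group
  set p := C.ψ ⟨x', hx'M⟩ with hp
  have hp3 : p * p * p = 1 := by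
    rw [hp, ← map_mul, ← map_mul, show (⟨x', hx'M⟩ : ↥(Mz z)) * ⟨x', hx'M⟩ * ⟨x', hx'M⟩ = 1 from
      Subtype.ext hx'3, map_one]
  have hpw : p * (1, dtB) = (1, dtB) * p := by
    rw [hp, ← h.psi', ← map_mul, ← map_mul]
    exact congrArg C.ψ (Subtype.ext hx'w)
  have hp2 : p.2 = 1 := dt_perm6 _ (Prod.ext_iff.1 hp3).2 (Prod.ext_iff.1 hpw).2
  have hp1 : p.1 ∈ cycs := by
    rcases dt_perm3 _ (Prod.ext_iff.1 hp3).1 with e | e | e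
    · exfalso
      have hQ : x' ∈ C.Q := (C.ker_iff _).1 (show p = 1 from Prod.ext e hp2)
      have h1 : x' = 1 := by
        rcases C.sq_cases hQ with k | k
        · calc x' = x' * x' * x' := by rw [k, one_mul]
            _ = 1 := hx'3
        · exfalso
          have k1 : z * x' = 1 := by rw [← k]; exact hx'3
          have k2 : x' = z := by rw [eq_inv_of_mul_eq_one_right k1, C.z_inv]
          rw [k2, C.zz] at k
          exact C.z_ne k.symm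
      have hx1 : x = 1 := by
        calc x = g * x' * g⁻¹ := by rw [hx']; group
          _ = 1 := by rw [h1]; group
      have : C.ψ ⟨x, hx⟩ = 1 := (C.ker_iff _).2 (by show x ∈ C.Q; rw [hx1]; exact one_mem _)
      rw [hψ, Prod.mk_eq_one] at this
      rw [this.1] at hc
      revert hc
      decide
    · rw [e]; exact List.mem_cons_self
    · rw [e]; exact List.mem_cons_of_mem _ List.mem_cons_self
  obtain ⟨y, hy, hyfix, ey⟩ := dt_fpf p.1 hp1 v (List.mem_range.2 hv) hfix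
  obtain ⟨q, hq, rfl⟩ := C.π_surj y (List.mem_range.1 hy)
  have hqD : q ∈ C.DD g⁻¹ := h.inv.mem_of_fix hq hyfix
  have hqP : g * q * g⁻¹ ∈ C.DP g := by
    rw [← C.map_DD (g := g)]; exact ⟨q, hqD, rfl⟩
  have hb := C.mem_BB.1 (h.comm_BB hx hxu hc hψ hqP)
  have e0 : g⁻¹ * (x * (g * q * g⁻¹) * x⁻¹ * (g * q * g⁻¹)⁻¹) * g = x' * q * x'⁻¹ * q⁻¹ := by
    rw [hx']; group
  refine ⟨x' * q * x'⁻¹ * q⁻¹, C.mem_BB.2 ⟨e0 ▸ hb.2.1, ?_, ?_⟩, ?_⟩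
  · have e1 : g⁻¹⁻¹ * (x' * q * x'⁻¹ * q⁻¹) * g⁻¹ =
        x * (g * q * g⁻¹) * x⁻¹ * (g * q * g⁻¹)⁻¹ := by rw [hx']; group
    rw [e1]; exact hb.1
  · exact C.cent_z (mul_mem (C.conj_mem hx'M hq) (inv_mem hq))
  · have hact : C.act ⟨x', hx'M⟩ = img Kind.tensor p.1 1 false :=
      act_tensor h.tensor (p := (p.1, 1)) (Prod.ext rfl hp2)
    rw [C.π_mul _ (C.conj_mem hx'M hq) _ (inv_mem hq), C.pi_inv hq, C.pi_conj' hx'M hq, hact]
    exact ey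

/-- Two commutators with the same image are equal. -/
theorem comm_eq {q r : G} (hq : q ∈ C.Q) (hr : r ∈ C.Q)
    (e : ap dtL (C.π q) ^^^ C.π q = ap dtL (C.π r) ^^^ C.π r) :
    g * z * g⁻¹ * r * (g * z * g⁻¹)⁻¹ * r⁻¹ = g * z * g⁻¹ * q * (g * z * g⁻¹)⁻¹ * q⁻¹ := by
  set u := g * z * g⁻¹ with hu
  have hd : q⁻¹ * r ∈ C.DD g := by
    refine h.mem_of_fix (mul_mem (inv_mem hq) hr) ?_
    rw [C.π_mul _ (inv_mem hq) _ hr, C.pi_inv hq, ap_xor, ← Nat.xor_eq_zero_iff]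
    rw [← Nat.xor_eq_zero_iff] at e
    rw [← e]
    ac_rfl
  have hdu := (C.mem_DD.1 hd).2
  rw [← hu] at hdu
  calc u * r * u⁻¹ * r⁻¹ = u * q * (q⁻¹ * r * u⁻¹) * r⁻¹ := by group
    _ = u * q * (u⁻¹ * (u * (q⁻¹ * r)) * u⁻¹) * r⁻¹ := by group
    _ = u * q * (u⁻¹ * (q⁻¹ * r * u) * u⁻¹) * r⁻¹ := by rw [hdu]
    _ = u * q * u⁻¹ * q⁻¹ := by group

/-- The commutator with `y` is `b z` when `y` and the twisted `b` do not commute. -/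
theorem forced_z {x : G} (hx : x ∈ Mz z) (hxu : x * (g * z * g⁻¹) = g * z * g⁻¹ * x)
    {L : List ℕ} (hL : C.act ⟨x, hx⟩ = L) {y b : G} (hy : y ∈ C.Q) (hb : b ∈ C.BB g)
    (e1 : ap dtL (C.π y) ^^^ C.π y = C.π b) (e2 : bq Kind.tensor (C.π y) (ap L (C.π b)) = true)
    (e3 : C.π b ^^^ ap L (C.π b) = ap L (ap L (C.π b))) :
    g * z * g⁻¹ * y * (g * z * g⁻¹)⁻¹ * y⁻¹ = b * z := by
  set u := g * z * g⁻¹ with hu
  obtain ⟨hcQ, hc⟩ := h.comm_pi hy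
  rw [← hu, e1] at hc
  rw [← hu] at hcQ
  rcases C.pi_eq (BB_le_Q hb) hcQ hc.symm with e | e
  swap
  · exact e
  exfalso
  have hxu' : x⁻¹ * u = u * x⁻¹ := by
    calc x⁻¹ * u = x⁻¹ * (u * x) * x⁻¹ := by group
      _ = x⁻¹ * (x * u) * x⁻¹ := by rw [hxu]
      _ = u * x⁻¹ := by group
  have conjc : ∀ q : G, u * (x * q * x⁻¹) * u⁻¹ * (x * q * x⁻¹)⁻¹ = x * (u * q * u⁻¹ * q⁻¹) * x⁻¹ := by
    intro q
    calc u * (x * q * x⁻¹) * u⁻¹ * (x * q * x⁻¹)⁻¹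
        = (u * x) * q * (u * x)⁻¹ * (x * q⁻¹ * x⁻¹) := by group
      _ = (x * u) * q * (x * u)⁻¹ * (x * q⁻¹ * x⁻¹) := by rw [hxu]
      _ = x * (u * q * u⁻¹ * q⁻¹) * x⁻¹ := by group
  set y3 := x * y * x⁻¹ with hy3
  set b3 := x * b * x⁻¹ with hb3
  have hy3Q : y3 ∈ C.Q := C.conj_mem hx hy
  have hb3B : b3 ∈ C.BB g := (h.norm_DP hx hxu).2 b hb
  have c3 : u * y3 * u⁻¹ * y3⁻¹ = b3 := by rw [hy3, conjc, e]
  set y5 := x * y3 * x⁻¹ with hy5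
  have hy5Q : y5 ∈ C.Q := C.conj_mem hx hy3Q
  have c5 : u * y5 * u⁻¹ * y5⁻¹ = x * b3 * x⁻¹ := by rw [hy5, conjc, c3]
  have hb5B : x * b3 * x⁻¹ ∈ C.BB g := (h.norm_DP hx hxu).2 b3 hb3B
  have hπb3 : C.π b3 = ap L (C.π b) := by rw [hb3, C.pi_conj' hx (BB_le_Q hb), hL]
  have hπb5 : C.π (x * b3 * x⁻¹) = ap L (ap L (C.π b)) := by
    rw [C.pi_conj' hx (BB_le_Q hb3B), hL, hπb3]
  have hncomm : y * b3 * y⁻¹ = b3 * z := by
    have hne : ¬ y * b3 = b3 * y := fun k => by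
      have := (C.comm_iff hy (BB_le_Q hb3B)).1 k
      rw [h.tensor, hπb3, e2] at this
      exact Bool.noConfusion this
    rcases C.pi_eq (BB_le_Q hb3B) (C.conj_mem (C.le_cent hy) (BB_le_Q hb3B))
      (C.pi_conj_Q hy (BB_le_Q hb3B)).symm with k | k
    · exact absurd (mul_inv_eq_iff_eq_mul.1 k) hne
    · exact k
  have c13 : u * (y * y3) * u⁻¹ * (y * y3)⁻¹ = b * b3 * z := by
    calc u * (y * y3) * u⁻¹ * (y * y3)⁻¹
        = (u * y * u⁻¹ * y⁻¹) * (y * (u * y3 * u⁻¹ * y3⁻¹) * y⁻¹) := by group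
      _ = b * b3 * z := by rw [e, c3, hncomm]; exact (mul_assoc b b3 z).symm
  have h5 : x * b3 * x⁻¹ = b * b3 := by
    rcases C.pi_eq (mul_mem (BB_le_Q hb) (BB_le_Q hb3B)) (BB_le_Q hb5B)
      (by rw [hπb5, C.π_mul _ (BB_le_Q hb) _ (BB_le_Q hb3B), hπb3, e3]) with k | k
    · exact k
    · exfalso
      refine h.pt.z_notMem ?_
      have hz : (b * b3)⁻¹ * (x * b3 * x⁻¹) = z := by rw [k]; group
      have := mul_mem (inv_mem (mul_mem hb hb3B)) hb5B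
      rwa [hz] at this
  have hπc : ap dtL (C.π y5) ^^^ C.π y5 = ap dtL (C.π (y * y3)) ^^^ C.π (y * y3) := by
    rw [← (h.comm_pi hy5Q).2, ← (h.comm_pi (mul_mem hy hy3Q)).2, ← hu, c5, c13, h5,
      C.pi_mul_z (mul_mem (BB_le_Q hb) (BB_le_Q hb3B))]
  have := h.comm_eq hy5Q (mul_mem hy hy3Q) hπc
  rw [← hu, c13, c5, h5] at this
  exact C.z_ne (mul_eq_left.1 this)

end DT

/-- No such pair exists. -/
theorem DT.false (h : C.DT g) : False := by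
  obtain ⟨x, hx, -, hxu, c, hc, hψ⟩ := h.exists_x
  have hfix4 : ap dtL 4 = 4 ∧ ap dtL 80 = 80 := by decide +kernel
  obtain ⟨b1, hb1', eb1⟩ := h.inv.full_inv 4 (by norm_num) hfix4.1
  obtain ⟨b2, hb2', eb2⟩ := h.inv.full_inv 80 (by norm_num) hfix4.2
  have hb1 : b1 ∈ C.BB g := by simpa using hb1'
  have hb2 : b2 ∈ C.BB g := by simpa using hb2'
  obtain ⟨d2, d160, k1, k2, k3, k4, k5, k6, k7⟩ :=
    dt_vecs c hc (img Kind.tensor c 1 Bool.false) List.mem_cons_self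
  obtain ⟨y1, hy1, ey1⟩ := C.π_surj 2 (by norm_num)
  obtain ⟨y2, hy2, ey2⟩ := C.π_surj 160 (by norm_num)
  have hL : C.act ⟨x, hx⟩ = img Kind.tensor c 1 Bool.false := act_tensor h.tensor hψ
  have c1 := h.forced_z hx hxu hL hy1 hb1 (by rw [ey1, eb1, d2]) (by rw [ey1, eb1]; exact k1)
    (by rw [eb1]; exact k3)
  have c2 := h.forced_z hx hxu hL hy2 hb2 (by rw [ey2, eb2, d160]) (by rw [ey2, eb2]; exact k2)
    (by rw [eb2]; exact k4)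
  set u := g * z * g⁻¹ with hu
  have hcomm : y1 * b2 = b2 * y1 :=
    (C.comm_iff hy1 (BB_le_Q hb2)).2 (by rw [ey1, eb2, h.tensor]; exact k5)
  set b := b1 * b2 with hb
  have hbB : b ∈ C.BB g := mul_mem hb1 hb2
  have hπb : C.π b = 84 := by rw [hb, C.π_mul _ (BB_le_Q hb1) _ (BB_le_Q hb2), eb1, eb2, k7]
  have c12 : u * (y1 * y2) * u⁻¹ * (y1 * y2)⁻¹ = b := by
    calc u * (y1 * y2) * u⁻¹ * (y1 * y2)⁻¹
        = (u * y1 * u⁻¹ * y1⁻¹) * (y1 * (u * y2 * u⁻¹ * y2⁻¹) * y1⁻¹) := by group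
      _ = b1 * z * (y1 * (b2 * z) * y1⁻¹) := by rw [c1, c2]
      _ = b1 * z * ((y1 * b2) * (z * y1⁻¹)) := by group
      _ = b1 * z * ((b2 * y1) * (y1⁻¹ * z)) := by rw [hcomm, ← C.cent_z (inv_mem hy1)]
      _ = b1 * (z * b2) * z := by group
      _ = b1 * b2 := by rw [← C.cent_z (BB_le_Q hb2), mul_assoc b1, mul_assoc b2, C.zz, mul_one]
  set q := y1 * y2 with hq
  set b' := g⁻¹ * b * g with hb'
  have hb'Q : b' ∈ C.Q := (C.mem_BB.1 hbB).2.1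
  have hconj : g⁻¹ * q * g * z * (g⁻¹ * q * g)⁻¹ = z * b' := by
    have e : q * u * q⁻¹ = u * b := by
      rw [← c12]
      calc q * u * q⁻¹ = (u * u) * (q * u⁻¹ * q⁻¹) := by rw [C.uu g, one_mul, C.u_inv g]
        _ = u * (u * q * u⁻¹ * q⁻¹) := by group
    calc g⁻¹ * q * g * z * (g⁻¹ * q * g)⁻¹ = g⁻¹ * (q * u * q⁻¹) * g := by rw [hu]; group
      _ = g⁻¹ * (u * b) * g := by rw [e]
      _ = z * b' := by rw [hb', hu]; group
  have hb1' : b' ≠ 1 := fun e => by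
    have : b = 1 := by
      calc b = g * b' * g⁻¹ := by rw [hb']; group
        _ = 1 := by rw [e]; group
    rw [this, C.pi_one] at hπb
    exact absurd hπb (by norm_num)
  have hbz : b' ≠ z := fun e => h.pt.out (by
    have : g * z * g⁻¹ = b := by rw [← e, hb']; group
    rw [this]; exact BB_le_Q hbB)
  obtain ⟨r, hr, hrb⟩ := C.ctr.exists_move hb'Q hb1' hbz
  have hk : g * r * g⁻¹ * q * g * z * (g * r * g⁻¹ * q * g)⁻¹ = b := by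
    calc g * r * g⁻¹ * q * g * z * (g * r * g⁻¹ * q * g)⁻¹
        = g * r * (g⁻¹ * q * g * z * (g⁻¹ * q * g)⁻¹) * r⁻¹ * g⁻¹ := by group
      _ = g * (r * z) * (b' * r⁻¹) * g⁻¹ := by rw [hconj]; group
      _ = g * (z * r) * (b' * r⁻¹) * g⁻¹ := by rw [C.cent_z hr]
      _ = g * (z * (r * b' * r⁻¹)) * g⁻¹ := by group
      _ = g * ((z * z) * b') * g⁻¹ := by rw [hrb, mul_assoc z z b']
      _ = b := by rw [C.zz, one_mul, hb']; group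
  have hP : C.QPair (g * r * g⁻¹ * q * g) := by
    refine ⟨by rw [hk]; exact BB_le_Q hbB, fun e => h.pt.z_notMem ?_⟩
    rw [hk] at e
    exact e ▸ hbB
  obtain ⟨-, hpure, -⟩ := hP.exists_rep
  rw [hk, hπb, k6] at hpure
  exact Bool.noConfusion hpure

/-- No conjugate of `z` other than `z` lies in `Q`. -/
theorem noPair (C : Coord z) : C.NoPair := by
  intro g hg
  by_contra hne
  obtain ⟨hk, gu, hp, hu, hw⟩ := (⟨hg, hne⟩ : C.QPair g).exists_pt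
  obtain ⟨γ, -, eγ, sγ⟩ := v4_dt _ hu
  obtain ⟨δ, -, eδ, sδ⟩ := v4_dt _ hw
  obtain ⟨⟨m, hm⟩, hψm⟩ := C.big 1 γ (by simp) sγ
  obtain ⟨⟨n, hn⟩, hψn⟩ := C.big 1 δ (by simp) sδ
  have e : m * gu * n⁻¹ * z * (m * gu * n⁻¹)⁻¹ = m * gu * z * (m * gu)⁻¹ := by
    calc m * gu * n⁻¹ * z * (m * gu * n⁻¹)⁻¹ = m * gu * (n⁻¹ * (z * n)) * (m * gu)⁻¹ := by group
      _ = m * gu * (n⁻¹ * (n * z)) * (m * gu)⁻¹ := by rw [Coord.mem_cent.1 hn]
      _ = _ := by group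
  have e' : (m * gu * n⁻¹)⁻¹ * z * (m * gu * n⁻¹)⁻¹⁻¹ = n * (gu⁻¹ * z * gu⁻¹⁻¹) * n⁻¹ := by
    calc (m * gu * n⁻¹)⁻¹ * z * (m * gu * n⁻¹)⁻¹⁻¹ = n * gu⁻¹ * (m⁻¹ * (z * m)) * gu * n⁻¹ := by group
      _ = n * gu⁻¹ * (m⁻¹ * (m * z)) * gu * n⁻¹ := by rw [Coord.mem_cent.1 hm]
      _ = _ := by group
  have hmem : m * gu * n⁻¹ * z * (m * gu * n⁻¹)⁻¹ ∈ Mz z := by
    rw [e]; exact (hp.conj hm).mem
  have hout : m * gu * n⁻¹ * z * (m * gu * n⁻¹)⁻¹ ∉ C.Q := by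
    rw [e]; exact (hp.conj hm).out
  have hout' : (m * gu * n⁻¹)⁻¹ * z * (m * gu * n⁻¹) ∉ C.Q := by
    have : (m * gu * n⁻¹)⁻¹ * z * (m * gu * n⁻¹) = n * (gu⁻¹ * z * gu⁻¹⁻¹) * n⁻¹ := by
      rw [← e', inv_inv]
    rw [this, C.conj_mem_iff hn]
    exact hp.inv.out
  have hP : C.Pt (m * gu * n⁻¹) := ⟨hmem, hout, hout'⟩
  refine DT.false (g := m * gu * n⁻¹) ⟨hk, hP, ?_, ?_⟩
  · rw [show (⟨_, hP.mem⟩ : ↥(Mz z)) = ⟨m, hm⟩ * ⟨_, hp.mem⟩ * ⟨m, hm⟩⁻¹ from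
      Subtype.ext (e.trans conj_u), map_mul, map_mul, map_inv, hψm]
    exact Prod.ext (by simp [(v4_sq _ hu).2.2.1]) eγ
  · rw [show (⟨_, hP.inv.mem⟩ : ↥(Mz z)) = ⟨n, hn⟩ * ⟨_, hp.inv.mem⟩ * ⟨n, hn⟩⁻¹ from
      Subtype.ext e', map_mul, map_mul, map_inv, hψn]
    exact Prod.ext (by rw [Prod.fst_mul, Prod.fst_mul, (v4_sq _ hw).2.2.1]; simp) eδ

end Coord

end Cfsg.Agent.ExtraTwoNine
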