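import Mathlib
import Cfsg.Agent.Lib.ExtraTwoNine.Double
import Cfsg.Agent.Lib.ExtraTwoNine.Coord
import Cfsg.Agent.Lib.ZStar.InvariantSylow
import Cfsg.Agent.Lib.LargeExtra.Centralizer

/-!
No simple group has an involution centraliser `2^{1+8}.X` with `3 × A₆ ≤ X ≤ S₃ × S₆`, `X` not inside
`3 × S₆`.
-/

set_option autoImplicit false
set_option linter.unusedSectionVars false

namespace Cfsg.Agent.ExtraTwoNine

open Subgroup

variable {G : Type*} [Group G] [Finite G] {z : G}

theorem exists_ne_conj [IsSimpleGroup G] (C : Coord z) :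
    ∃ g : G, g * z * g⁻¹ ∈ Mz z ∧ g * z * g⁻¹ ≠ z := by
  have hG : ¬ IsMulCommutative G := fun hc => by
    have htop : center ↥C.Q = ⊤ := eq_top_iff.2 fun x _ => mem_center_iff.2 fun y =>
      Subtype.ext (hc.is_comm.comm (y : G) (x : G))
    have h2 := C.ext.2
    rw [htop, card_top, C.card] at h2
    norm_num at h2
  by_contra hno
  push Not at hno
  have hiso : Cfsg.IsIsolatedInvolution z := ⟨C.ord, fun g hg => by
    by_contra hne
    exact hne (hno g (mem_centralizer_singleton_iff.2 hg.eq.symm))⟩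
  have htop := ZStar.InvariantSylow.oddCore_sup_centralizer hiso
  have hO : Cfsg.oddCore G = ⊥ := by
    rcases (ZStar.Main.oddCore_normal (G := G)).eq_bot_or_eq_top with e | e
    · exact e
    · exfalso
      have h1 : Odd (Nat.card ↥(Cfsg.oddCore G)) := InvChar.Core.odd_card_oddCore
      have h2 : orderOf z ∣ Nat.card ↥(Cfsg.oddCore G) :=
        (Cfsg.oddCore G).orderOf_dvd_natCard (e ▸ mem_top z)
      rw [C.ord] at h2
      exact Nat.not_even_iff_odd.2 h1 (even_iff_two_dvd.2 h2)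
  rw [hO, bot_sup_eq] at htop
  have hzc : z ∈ center G := mem_center_iff.2 fun g =>
    mem_centralizer_singleton_iff.1 (htop ▸ mem_top g)
  rcases (inferInstance : (center G).Normal).eq_bot_or_eq_top with e | e
  · rw [e, mem_bot] at hzc
    exact C.z_ne hzc
  · exact hG ⟨⟨fun a b => (mem_center_iff.1 (e ▸ mem_top b) a)⟩⟩

/-- The hypotheses exclude simplicity. -/
theorem false_of_hyp [IsSimpleGroup G] (h : Hyp z) : False := by
  obtain ⟨C⟩ := exists_coord h
  obtain ⟨g, hmem, hne⟩ := exists_ne_conj C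
  have hn : C.NoPair := Coord.noPair C
  exact (Coord.Pt.of_notMem hn hmem fun hQ => hne (hn g hQ)).false hn

/-- The hypotheses from a normal subgroup of the centraliser and its quotient. -/
theorem exists_hyp (hz : orderOf z = 2) (N : Subgroup ↥(Mz z)) [N.Normal]
    (hext : Cfsg.IsExtraspecial 2 ↥N) (hcard : Nat.card ↥N = 2 ^ 9)
    (hC : centralizer (N : Set ↥(Mz z)) ≤ N)
    (ι : ↥(Mz z) ⧸ N →* Equiv.Perm (Fin 3) × Equiv.Perm (Fin 6)) (hι : Function.Injective ι)
    (hbig : ∀ a b, Equiv.Perm.sign a = 1 → Equiv.Perm.sign b = 1 → ∃ q, ι q = (a, b))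
    (hout : ∃ q, Equiv.Perm.sign (ι q).1 = -1) : Nonempty (Hyp z) := by
  let e := N.equivMapOfInjective (Mz z).subtype (Mz z).subtype_injective
  refine ⟨{
    ord := hz
    Q := N.map (Mz z).subtype
    le_cent := map_subtype_le N
    ext := LargeExtra.isExtraspecial_of_equiv hext e
    card := (Nat.card_congr e.toEquiv).symm.trans hcard
    self_cent := fun m hm hcomm => ⟨⟨m, hm⟩, hC (mem_centralizer_iff.2 fun x hx =>
      Subtype.ext (hcomm x ⟨x, hx, rfl⟩).symm), rfl⟩
    ψ := ι.comp (QuotientGroup.mk' N)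
    ker_iff := fun m => ?_
    big := fun a b ha hb => ?_
    outer := ?_ }⟩
  · rw [MonoidHom.comp_apply, map_eq_one_iff ι hι, QuotientGroup.mk'_apply, QuotientGroup.eq_one_iff]
    exact (mem_map_iff_mem (Mz z).subtype_injective).symm
  · obtain ⟨q, hq⟩ := hbig a b ha hb
    obtain ⟨m, rfl⟩ := QuotientGroup.mk'_surjective N q
    exact ⟨m, hq⟩
  · obtain ⟨q, hq⟩ := hout
    obtain ⟨m, rfl⟩ := QuotientGroup.mk'_surjective N q
    exact ⟨m, hq⟩

end Cfsg.Agent.ExtraTwoNine
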